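import Mathlib.GroupTheory.CommutingProbability
import Mathlib.GroupTheory.GroupAction.CardCommute
import Mathlib.GroupTheory.Index
import Mathlib.GroupTheory.ClassEquation
import Mathlib.Tactic.IntervalCases
import Mathlib.Tactic.Linarith

/-!
Elementary lower bounds for the number of conjugacy classes.
-/

set_option autoImplicit false
set_option linter.unusedSectionVars false

namespace CfsgLib.ClassPSq

open Subgroup

variable {G : Type*} [Group G] [Finite G]

/-- Commuting pairs counted by centralizers. -/
theorem sum_card_centralizer [Fintype G] :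
    ∑ x : G, Nat.card ↥(centralizer ({x} : Set G)) = Nat.card (ConjClasses G) * Nat.card G := by
  classical
  rw [← card_comm_eq_card_conjClasses_mul_card,
    Nat.card_congr (Equiv.subtypeProdEquivSigmaSubtype fun a b : G => Commute a b), Nat.card_sigma]
  refine Finset.sum_congr rfl fun x _ => Nat.card_congr (Equiv.subtypeEquivRight fun b => ?_)
  exact mem_centralizer_singleton_iff.trans eq_comm

/-- The class number over the order does not increase from a subgroup to the group. -/
theorem classes_mul_card_le (H : Subgroup G) :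
    Nat.card (ConjClasses G) * Nat.card H ≤ Nat.card (ConjClasses H) * Nat.card G := by
  classical
  have := Fintype.ofFinite G
  have := Fintype.ofFinite H
  have key : ∀ x : G, Nat.card ↥(centralizer ({x} : Set G)) ≤
      H.index * Nat.card {h : H // Commute x h} := fun x => by
    set C := centralizer ({x} : Set G)
    have hH0 : H.relIndex ⊤ ≠ 0 := by rw [relIndex_top_right]; exact index_ne_zero_of_finite
    have h1 := (relIndex_le_of_le_right (H := H) (le_top : C ≤ ⊤) hH0).trans_eq (relIndex_top_right H)
    rw [← (H.subgroupOf C).card_mul_index, mul_comm, show (H.subgroupOf C).index = H.relIndex C from rfl]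
    refine Nat.mul_le_mul h1 (le_of_eq (Nat.card_congr ?_))
    exact
      { toFun := fun c => ⟨⟨(c : C), c.2⟩, (mem_centralizer_singleton_iff.1 (c : C).2).symm⟩
        invFun := fun h => ⟨⟨(h.1 : G), mem_centralizer_singleton_iff.2 h.2.eq.symm⟩, h.1.2⟩
        left_inv := fun c => rfl
        right_inv := fun h => rfl }
  have key2 : ∀ h : H, Nat.card {x : G // Commute x h} ≤
      H.index * Nat.card ↥(centralizer ({h} : Set H)) := fun h => by
    set C := centralizer ({(h : G)} : Set G)
    have hH0 : H.relIndex ⊤ ≠ 0 := by rw [relIndex_top_right]; exact index_ne_zero_of_finite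
    have h1 := (relIndex_le_of_le_right (H := H) (le_top : C ≤ ⊤) hH0).trans_eq (relIndex_top_right H)
    have e : Nat.card {x : G // Commute x h} = Nat.card C :=
      Nat.card_congr (Equiv.subtypeEquivRight fun b => mem_centralizer_singleton_iff.symm)
    rw [e, ← (H.subgroupOf C).card_mul_index, mul_comm, show (H.subgroupOf C).index = H.relIndex C from rfl]
    refine Nat.mul_le_mul h1 (le_of_eq (Nat.card_congr ?_))
    exact
      { toFun := fun c => ⟨⟨(c : C), c.2⟩,
          mem_centralizer_singleton_iff.2 (Subtype.ext (mem_centralizer_singleton_iff.1 (c : C).2))⟩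
        invFun := fun k => ⟨⟨(k.1 : G),
          mem_centralizer_singleton_iff.2 (congrArg Subtype.val (mem_centralizer_singleton_iff.1 k.2))⟩, k.1.2⟩
        left_inv := fun c => rfl
        right_inv := fun h => rfl }
  have hswap : ∑ x : G, Nat.card {h : H // Commute x h} = ∑ h : H, Nat.card {x : G // Commute x h} := by
    rw [← Nat.card_sigma, ← Nat.card_sigma]
    exact Nat.card_congr
      { toFun := fun s => ⟨s.2.1, s.1, s.2.2⟩
        invFun := fun s => ⟨s.2.1, s.1, s.2.2⟩
        left_inv := fun s => rfl
        right_inv := fun s => rfl }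
  have hmain : Nat.card (ConjClasses G) * Nat.card G ≤
      H.index * (H.index * (Nat.card (ConjClasses H) * Nat.card H)) := by
    rw [← sum_card_centralizer, ← sum_card_centralizer (G := H), Finset.mul_sum, Finset.mul_sum]
    refine (Finset.sum_le_sum fun x _ => key x).trans ?_
    rw [← Finset.mul_sum, hswap, Finset.mul_sum]
    exact Finset.sum_le_sum fun h _ => Nat.mul_le_mul_left _ (key2 h)
  have hGH := H.card_mul_index
  have hi : 0 < H.index := Nat.pos_of_ne_zero index_ne_zero_of_finite
  refine Nat.le_of_mul_le_mul_left ?_ hi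
  calc H.index * (Nat.card (ConjClasses G) * Nat.card H)
      = Nat.card (ConjClasses G) * (Nat.card H * H.index) := by ring
    _ ≤ H.index * (H.index * (Nat.card (ConjClasses H) * Nat.card H)) := by rw [hGH]; exact hmain
    _ = H.index * (Nat.card (ConjClasses H) * (Nat.card H * H.index)) := by ring
    _ = H.index * (Nat.card (ConjClasses H) * Nat.card G) := by rw [hGH]

/-- Classes counted through a central subgroup and weights of the nontrivial cosets. -/
theorem central_sum_le (U : Subgroup G) (hU : U ≤ center G) [Fintype G] (w : G → ℕ)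
    (hw : ∀ x ∉ U, w x * Nat.card U ≤ Nat.card ↥(centralizer ({x} : Set G)))
    (hwU : ∀ x ∈ U, w x = U.index) :
    (∑ x : G, w x) * Nat.card U ≤ Nat.card (ConjClasses G) * Nat.card G := by
  rw [← sum_card_centralizer, Finset.sum_mul]
  refine Finset.sum_le_sum fun x _ => ?_
  by_cases hx : x ∈ U
  · rw [hwU x hx, mul_comm, U.card_mul_index,
      centralizer_eq_top_iff_subset.2 (Set.singleton_subset_iff.2 (hU hx)), card_top]
  · exact hw x hx

/-- The class number bound from a central subgroup. -/
theorem central_bound (U : Subgroup G) (hU : U ≤ center G) :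
    Nat.card U * (3 * U.index - 2) ≤ Nat.card (ConjClasses G) * U.index := by
  classical
  have := Fintype.ofFinite G
  let w : G → ℕ := fun x => if x ∈ U then U.index else 2
  have h := central_sum_le U hU w (fun x hx => ?_) fun x hx => if_pos hx
  · have hsum : (∑ x : G, w x) = Nat.card U * (3 * U.index - 2) := by
      simp only [w, Finset.sum_ite, Finset.sum_const, smul_eq_mul]
      have e1 : (Finset.univ.filter fun x => x ∈ U).card = Nat.card U := by
        rw [Nat.card_eq_fintype_card, Fintype.card_subtype]
      have e2 := Finset.card_filter_add_card_filter_not (s := (Finset.univ : Finset G)) (fun x => x ∈ U)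
      rw [e1, Finset.card_univ, ← Nat.card_eq_fintype_card, ← U.card_mul_index] at e2
      obtain ⟨m, hm⟩ := Nat.exists_eq_succ_of_ne_zero (index_ne_zero_of_finite (H := U))
      rw [hm, Nat.succ_eq_add_one, mul_add, mul_one] at e2
      rw [e1, hm, Nat.succ_eq_add_one,
        show (Finset.univ.filter fun x => ¬ x ∈ U).card = Nat.card U * m by omega,
        show 3 * (m + 1) - 2 = 3 * m + 1 by omega]
      ring
    rw [hsum, ← U.card_mul_index] at h
    refine Nat.le_of_mul_le_mul_left ?_ (Nat.card_pos (α := U))
    calc Nat.card U * (Nat.card U * (3 * U.index - 2))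
        = Nat.card U * (3 * U.index - 2) * Nat.card U := by ring
      _ ≤ Nat.card (ConjClasses G) * (Nat.card U * U.index) := h
      _ = _ := by ring
  · simp only [w, if_neg hx]
    set C := centralizer ({x} : Set G)
    have hUC : U ≤ C := fun u hu => mem_centralizer_singleton_iff.2 (mem_center_iff.1 (hU hu) x).symm
    have h1 := relIndex_mul_relIndex ⊥ U C bot_le hUC
    simp only [relIndex_bot_left] at h1
    rw [← h1, mul_comm]
    refine Nat.mul_le_mul_left _ ?_
    have h0 : U.relIndex C ≠ 0 := Subgroup.index_ne_zero_of_finite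
    have h1' : U.relIndex C ≠ 1 := fun e => hx (relIndex_eq_one.1 e (mem_centralizer_singleton_iff.2 rfl))
    omega

/-- Classes of a group and orbits on an abelian normal subgroup. -/
theorem classes_quotient_add (N : Subgroup G) [N.Normal] (hN : ∀ x ∈ N, ∀ y ∈ N, x * y = y * x) :
    Nat.card (ConjClasses (G ⧸ N)) * N.index + (Nat.card N - 1) ≤
      Nat.card (ConjClasses G) * N.index := by
  classical
  have := Fintype.ofFinite G
  let S₁ : Finset (ConjClasses G) := ((Finset.univ.filter fun x : G => x ∈ N ∧ x ≠ 1)).image ConjClasses.mk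
  have hsize : (Finset.univ.filter fun x : G => x ∈ N ∧ x ≠ 1).card ≤ N.index * S₁.card := by
    refine Finset.card_le_mul_card_image _ _ fun c hc => ?_
    obtain ⟨x, hx, rfl⟩ := Finset.mem_image.1 hc
    have hxN := (Finset.mem_filter.1 hx).2.1
    let f : G ⧸ N → G := fun q => q.out * x * q.out⁻¹
    have hsub : ((Finset.univ.filter fun y : G => y ∈ N ∧ y ≠ 1).filter fun y => ConjClasses.mk y = ConjClasses.mk x) ⊆
        (Finset.univ : Finset (G ⧸ N)).image f := by
      intro y hy
      obtain ⟨g, hg⟩ := isConj_iff.1 (ConjClasses.mk_eq_mk_iff_isConj.1 (Finset.mem_filter.1 hy).2.symm)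
      refine Finset.mem_image.2 ⟨(g : G ⧸ N), Finset.mem_univ _, ?_⟩
      obtain ⟨n, hn⟩ := QuotientGroup.mk_out_eq_mul N g
      show (g : G ⧸ N).out * x * ((g : G ⧸ N).out)⁻¹ = y
      rw [hn, ← hg, mul_inv_rev]
      have := hN (n : G) n.2 x hxN
      calc g * (n : G) * x * ((n : G)⁻¹ * g⁻¹) = g * ((n : G) * x) * (n : G)⁻¹ * g⁻¹ := by group
        _ = g * (x * (n : G)) * (n : G)⁻¹ * g⁻¹ := by rw [this]
        _ = g * x * g⁻¹ := by group
    refine (Finset.card_le_card hsub).trans (Finset.card_image_le.trans (le_of_eq ?_))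
    rw [Finset.card_univ, ← Nat.card_eq_fintype_card]
    rfl
  have hcardN : (Finset.univ.filter fun x : G => x ∈ N ∧ x ≠ 1).card = Nat.card N - 1 := by
    rw [show (Finset.univ.filter fun x : G => x ∈ N ∧ x ≠ 1) = (Finset.univ.filter fun x : G => x ∈ N).erase 1 by
      ext x; simp [and_comm], Finset.card_erase_of_mem (by simp), Nat.card_eq_fintype_card, Fintype.card_subtype]
  have hQ : Nat.card (ConjClasses (G ⧸ N)) + S₁.card ≤ Nat.card (ConjClasses G) := by
    have hsurj : Function.Surjective (ConjClasses.map (QuotientGroup.mk' N)) :=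
      ConjClasses.map_surjective (QuotientGroup.mk'_surjective N)
    have hcov : (Finset.univ : Finset (ConjClasses (G ⧸ N))) ⊆
        (Finset.univ \ S₁).image (ConjClasses.map (QuotientGroup.mk' N)) := by
      intro c _
      obtain ⟨d, rfl⟩ := hsurj c
      by_cases hd : d ∈ S₁
      · refine Finset.mem_image.2 ⟨ConjClasses.mk 1, ?_, ?_⟩
        · refine Finset.mem_sdiff.2 ⟨Finset.mem_univ _, fun h1 => ?_⟩
          obtain ⟨y, hy, hy1⟩ := Finset.mem_image.1 h1
          exact (Finset.mem_filter.1 hy).2.2 (isConj_one_right.1 (ConjClasses.mk_eq_mk_iff_isConj.1 hy1).symm)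
        · obtain ⟨y, hy, rfl⟩ := Finset.mem_image.1 hd
          show ConjClasses.mk ((1 : G) : G ⧸ N) = ConjClasses.mk (y : G ⧸ N)
          rw [(QuotientGroup.eq_one_iff y).2 (Finset.mem_filter.1 hy).2.1, QuotientGroup.mk_one]
      · exact Finset.mem_image.2 ⟨d, Finset.mem_sdiff.2 ⟨Finset.mem_univ _, hd⟩, rfl⟩
    have h := (Finset.card_le_card hcov).trans Finset.card_image_le
    rw [Finset.card_univ, Finset.card_sdiff_of_subset (Finset.subset_univ _), Finset.card_univ] at h
    have hle := Finset.card_le_univ S₁
    rw [Nat.card_eq_fintype_card, Nat.card_eq_fintype_card]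
    omega
  calc Nat.card (ConjClasses (G ⧸ N)) * N.index + (Nat.card N - 1)
      ≤ Nat.card (ConjClasses (G ⧸ N)) * N.index + S₁.card * N.index := by
        rw [← hcardN, mul_comm S₁.card]; exact Nat.add_le_add_left hsize _
    _ ≤ _ := by rw [← add_mul]; exact Nat.mul_le_mul_right _ hQ

theorem four_terms {a b c N s₁ s₂ s₃ : ℕ} (h1 : a * s₁ = N) (h2 : b * s₂ = N) (h3 : c * s₃ = N)
    (hs : 1 + s₁ + s₂ + s₃ = N) (h12 : s₂ ≤ s₁) (h23 : s₃ ≤ s₂) (hp : 1 ≤ s₃) : N ≤ 42 := by
  have ha : a ≤ 4 := by
    by_contra h
    have : 5 * s₁ ≤ N := h1 ▸ Nat.mul_le_mul_right _ (show 5 ≤ a by omega)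
    omega
  have ha2 : 2 ≤ a := by
    by_contra h
    interval_cases a <;> omega
  have hb : b ≤ 6 := by
    by_contra h
    have h7 : 7 * s₂ ≤ N := h2 ▸ Nat.mul_le_mul_right _ (show 7 ≤ b by omega)
    interval_cases a <;> omega
  have hb2 : 2 ≤ b := by
    by_contra h
    interval_cases b <;> omega
  by_contra hN
  have hc : c * s₃ = N := h3
  interval_cases a <;> interval_cases b <;> try omega
  all_goals
    have hc7 : c ≤ 12 := by
      by_contra h
      have : 13 * s₃ ≤ N := h3 ▸ Nat.mul_le_mul_right _ (show 13 ≤ c by omega)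
      omega
    interval_cases c <;> omega

/-- Groups with very few classes are small. -/
theorem small_classes :
    (Nat.card (ConjClasses G) ≤ 2 → Nat.card G ≤ 2) ∧ (Nat.card (ConjClasses G) ≤ 3 → Nat.card G ≤ 6) ∧
      (Nat.card (ConjClasses G) ≤ 4 → Nat.card G ≤ 42) := by
  classical
  have := Fintype.ofFinite G
  -- the sizes of the nontrivial classes
  let s : ConjClasses G → ℕ := fun c => Nat.card c.carrier
  have hs1 : ∀ c, 1 ≤ s c ∧ s c ∣ Nat.card G := fun c => by
    obtain ⟨g, rfl⟩ := ConjClasses.mk_surjective c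
    have h : Nat.card (ConjClasses.mk g).carrier = (MulAction.stabilizer (ConjAct G) g).index := by
      rw [MulAction.index_stabilizer, ConjAct.orbit_eq_carrier_conjClasses, Nat.card_coe_set_eq]
    refine ⟨?_, ?_⟩ <;> show _ <;> simp only [s] <;> rw [h]
    · exact Nat.pos_of_ne_zero index_ne_zero_of_finite
    · exact index_dvd_card _
  set T : Finset (ConjClasses G) := Finset.univ.erase (ConjClasses.mk 1)
  have hsum : 1 + ∑ c ∈ T, s c = Nat.card G := by
    have h0 : s (ConjClasses.mk 1) = 1 := by
      show Nat.card (ConjClasses.mk (1 : G)).carrier = 1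
      have : (ConjClasses.mk (1 : G)).carrier = {1} := by
        ext x
        rw [ConjClasses.mem_carrier_iff_mk_eq, ConjClasses.mk_eq_mk_iff_isConj, isConj_one_left,
          Set.mem_singleton_iff]
      rw [this, Nat.card_coe_set_eq, Set.ncard_singleton]
    conv_lhs => rw [← h0]
    rw [Finset.add_sum_erase _ _ (Finset.mem_univ _)]
    simp only [s, Nat.card_eq_fintype_card]
    exact (Finset.sum_congr rfl fun C _ => (Set.toFinset_card C.carrier).symm).trans
      (sum_conjClasses_card_eq_card G)
  have hT : T.card + 1 = Nat.card (ConjClasses G) := by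
    rw [Finset.card_erase_of_mem (Finset.mem_univ _), Finset.card_univ, Nat.card_eq_fintype_card]
    have : 0 < Fintype.card (ConjClasses G) := Fintype.card_pos_iff.2 ⟨ConjClasses.mk 1⟩
    omega
  have hlast : ∀ c ∈ T, ∃ j, j * s c = Nat.card G := fun c _ => by
    obtain ⟨j, hj⟩ := (hs1 c).2
    exact ⟨j, by rw [hj, mul_comm]⟩
  have h2 : T.card ≤ 1 → Nat.card G ≤ 2 := fun h => by
    rcases Nat.le_one_iff_eq_zero_or_eq_one.1 h with h0 | h1
    · rw [Finset.card_eq_zero.1 h0, Finset.sum_empty] at hsum; omega
    · obtain ⟨c, hc⟩ := Finset.card_eq_one.1 h1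
      rw [hc, Finset.sum_singleton] at hsum
      obtain ⟨j, hj⟩ := hlast c (hc ▸ Finset.mem_singleton_self c)
      have := (hs1 c).1
      rcases j with _ | _ | j
      · omega
      · omega
      · have : 2 * s c ≤ (j + 1 + 1) * s c := Nat.mul_le_mul_right _ (by omega)
        omega
  have h3 : T.card ≤ 2 → Nat.card G ≤ 6 := fun h => by
    rcases Nat.lt_or_ge T.card 2 with h' | h'
    · exact (h2 (by omega)).trans (by norm_num)
    obtain ⟨c, d, hcd, hT2⟩ := Finset.card_eq_two.1 (le_antisymm h h')
    rw [hT2, Finset.sum_pair hcd] at hsum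
    obtain ⟨j, hj⟩ := hlast c (by simp [hT2])
    obtain ⟨k, hk⟩ := hlast d (by simp [hT2])
    have := (hs1 c).1
    have := (hs1 d).1
    wlog hle : s d ≤ s c generalizing c d j k
    · exact this d c (by omega) hcd.symm (by rw [hT2, Finset.pair_comm]) k hk j hj (hs1 d).1 (hs1 c).1 (by omega)
    have hj3 : j ≤ 3 := by
      by_contra hc'
      have : 4 * s c ≤ Nat.card G := hj ▸ Nat.mul_le_mul_right _ (show 4 ≤ j by omega)
      omega
    have hk6 : k ≤ 6 := by
      by_contra hc'
      have : 7 * s d ≤ Nat.card G := hk ▸ Nat.mul_le_mul_right _ (show 7 ≤ k by omega)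
      interval_cases j <;> omega
    interval_cases j <;> interval_cases k <;> omega
  refine ⟨fun h => h2 (by omega), fun h => h3 (by omega), fun h => ?_⟩
  rcases Nat.lt_or_ge T.card 3 with h' | h'
  · exact (h3 (by omega)).trans (by norm_num)
  obtain ⟨c, d, e, hcd, hce, hde, hT3⟩ := Finset.card_eq_three.1 (le_antisymm (by omega) h')
  rw [hT3, Finset.sum_insert (by simp [hcd, hce]), Finset.sum_pair hde] at hsum
  obtain ⟨a, ha⟩ := hlast c (by simp [hT3])
  obtain ⟨b, hb⟩ := hlast d (by simp [hT3])
  obtain ⟨f, hf⟩ := hlast e (by simp [hT3])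
  have := (hs1 c).1
  have := (hs1 d).1
  have := (hs1 e).1
  rcases le_total (s c) (s d) with u | u <;> rcases le_total (s d) (s e) with v | v <;>
    rcases le_total (s c) (s e) with w | w <;>
    first
      | exact four_terms ha hb hf (by omega) (by omega) (by omega) (by omega)
      | exact four_terms ha hf hb (by omega) (by omega) (by omega) (by omega)
      | exact four_terms hb ha hf (by omega) (by omega) (by omega) (by omega)
      | exact four_terms hb hf ha (by omega) (by omega) (by omega) (by omega)
      | exact four_terms hf ha hb (by omega) (by omega) (by omega) (by omega)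
      | exact four_terms hf hb ha (by omega) (by omega) (by omega) (by omega)

end CfsgLib.ClassPSq
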