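import Mathlib

/-!
A solvable transitive group of degree `n` has order at most `3 ^ (n - 1)`.
-/

set_option autoImplicit false
set_option linter.style.haveILetI false

namespace CfsgLib.ClassPSq

open MulAction Subgroup
open scoped Pointwise

universe u v

theorem succ_pow_mul_sub_le (n k : ℕ) (hk : k ≤ n) : (n + 1) ^ k * (n - k) ≤ n ^ (k + 1) := by
  induction k with
  | zero => simp
  | succ k ih =>
    have h := ih (by omega)
    have h1 : (n + 1) * (n - (k + 1)) ≤ n * (n - k) := by
      have e : n - k = (n - (k + 1)) + 1 := by omega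
      rw [e]
      ring_nf
      omega
    calc (n + 1) ^ (k + 1) * (n - (k + 1)) = (n + 1) ^ k * ((n + 1) * (n - (k + 1))) := by ring
      _ ≤ (n + 1) ^ k * (n * (n - k)) := Nat.mul_le_mul_left _ h1
      _ = n * ((n + 1) ^ k * (n - k)) := by ring
      _ ≤ n * n ^ (k + 1) := Nat.mul_le_mul_left _ h
      _ = n ^ (k + 1 + 1) := by ring

theorem pow_le_three_pow_mono {n₀ k : ℕ} (h0 : 3 * n₀ ^ k ≤ 3 ^ n₀) (hk : 3 * k ≤ 2 * n₀) :
    ∀ n, n₀ ≤ n → 3 * n ^ k ≤ 3 ^ n := by
  intro n hn
  induction n, hn using Nat.le_induction with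
  | base => exact h0
  | succ n hn ih =>
    rcases Nat.eq_zero_or_pos n with rfl | hpos
    · have : k = 0 := by omega
      subst this
      norm_num
    have h := succ_pow_mul_sub_le n k (by omega)
    have h2 : (n + 1) ^ k * n ≤ 3 * n ^ k * n := by
      calc (n + 1) ^ k * n ≤ (n + 1) ^ k * (3 * (n - k)) := Nat.mul_le_mul_left _ (by omega)
        _ ≤ 3 * n ^ (k + 1) := by nlinarith
        _ = _ := by ring
    have h3 := Nat.le_of_mul_le_mul_right h2 hpos
    calc 3 * (n + 1) ^ k ≤ 3 * (3 * n ^ k) := Nat.mul_le_mul_left _ h3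
      _ ≤ 3 * 3 ^ n := Nat.mul_le_mul_left _ ih
      _ = 3 ^ (n + 1) := by ring

theorem base_pow (L : ℕ) (hL : 4 ≤ L) : 3 * (2 ^ L) ^ (L + 1) ≤ 3 ^ 2 ^ L := by
  induction L, hL using Nat.le_induction with
  | base => norm_num
  | succ L hL ih =>
    have h : (3 * (2 ^ L) ^ (L + 1)) * (3 * (2 ^ L) ^ (L + 1)) ≤ 3 ^ 2 ^ L * 3 ^ 2 ^ L :=
      Nat.mul_le_mul ih ih
    rw [← pow_add, ← two_mul, ← pow_succ'] at h
    refine le_trans ?_ h
    rw [← pow_mul, ← pow_mul]
    calc 3 * 2 ^ ((L + 1) * (L + 1 + 1)) ≤ 9 * 2 ^ (2 * (L * (L + 1))) := by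
          refine Nat.mul_le_mul (by norm_num) (Nat.pow_le_pow_right two_pos ?_)
          nlinarith
      _ = _ := by ring

/-- The numerical inequality. -/
theorem three_mul_descFactorial_le {n d : ℕ} (hn : 5 ≤ n) (hd : 2 ^ d ≤ n) :
    3 * (n * (n - 1).descFactorial d) ≤ 3 ^ n := by
  have hdn : d < n := lt_of_lt_of_le Nat.lt_two_pow_self hd
  by_cases h9 : n < 9
  · interval_cases n <;> interval_cases d <;> first | decide | (norm_num [Nat.descFactorial] at *)
  push Not at h9
  have h1 : n * (n - 1).descFactorial d ≤ n ^ (d + 1) := by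
    rw [pow_succ']
    exact Nat.mul_le_mul_left _ ((Nat.descFactorial_le_pow _ _).trans
      (Nat.pow_le_pow_left (by omega) _))
  refine (Nat.mul_le_mul_left 3 h1).trans ?_
  by_cases hd3 : d ≤ 3
  · refine pow_le_three_pow_mono (n₀ := 9) (k := d + 1) ?_ (by omega) n h9
    interval_cases d <;> norm_num
  push Not at hd3
  refine pow_le_three_pow_mono (n₀ := 2 ^ d) (k := d + 1) (base_pow d hd3) ?_ n hd
  have h16 : ∀ e, 4 ≤ e → 4 * e ≤ 2 ^ e := fun e he => by
    induction e, he using Nat.le_induction with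
    | base => norm_num
    | succ e he ihe => rw [pow_succ]; omega
  have := h16 d hd3
  omega

/-- A generating set of logarithmic size. -/
theorem exists_gen (A : Type u) [Group A] [Finite A] :
    ∃ S : Finset A, closure (S : Set A) = ⊤ ∧ 2 ^ S.card ≤ Nat.card A := by
  classical
  suffices h : ∀ (j : ℕ) (S : Finset A), 2 ^ S.card ≤ Nat.card (closure (S : Set A)) →
      Nat.card A - Nat.card (closure (S : Set A)) ≤ j →
      ∃ S' : Finset A, closure (S' : Set A) = ⊤ ∧ 2 ^ S'.card ≤ Nat.card A from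
    h (Nat.card A) ∅ (by simp) (Nat.sub_le _ _)
  intro j
  induction j with
  | zero =>
    intro S hS hj
    have := Subgroup.card_le_card_group (closure (S : Set A))
    exact ⟨S, Subgroup.eq_top_of_le_card _ (by omega), by omega⟩
  | succ j ih =>
    intro S hS hj
    by_cases htop : closure (S : Set A) = ⊤
    · exact ⟨S, htop, hS.trans (Subgroup.card_le_card_group _)⟩
    obtain ⟨x, -, hx⟩ := SetLike.exists_of_lt (lt_top_iff_ne_top.2 htop)
    have hle : closure (S : Set A) ≤ closure ((insert x S : Finset A) : Set A) :=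
      closure_mono (by simp)
    have hne : closure (S : Set A) ≠ closure ((insert x S : Finset A) : Set A) := fun e =>
      hx (e ▸ subset_closure (by simp))
    have h2 : 2 * Nat.card (closure (S : Set A)) ≤
        Nat.card (closure ((insert x S : Finset A) : Set A)) := by
      obtain ⟨c, hc⟩ := Subgroup.card_dvd_of_le hle
      have hpos : 0 < Nat.card (closure ((insert x S : Finset A) : Set A)) := Nat.card_pos
      have hc1 : c ≠ 1 := by
        rintro rfl
        rw [mul_one] at hc
        exact hne (Subgroup.eq_of_le_of_card_ge hle hc.le)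
      have hc0 : c ≠ 0 := by rintro rfl; rw [mul_zero] at hc; omega
      rw [hc, mul_comm 2]
      exact Nat.mul_le_mul_left _ (by omega)
    have hpos : 0 < Nat.card (closure (S : Set A)) := Nat.card_pos
    refine ih (insert x S) ?_ (by omega)
    have hc : (insert x S).card ≤ S.card + 1 := Finset.card_insert_le _ _
    calc 2 ^ (insert x S).card ≤ 2 ^ (S.card + 1) := Nat.pow_le_pow_right two_pos hc
      _ = 2 * 2 ^ S.card := pow_succ' _ _
      _ ≤ _ := (Nat.mul_le_mul_left 2 hS).trans h2

/-- The automorphisms of a group, counted on a generating set. -/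
theorem card_le_descFactorial {A : Type u} [Group A] [Finite A] {H : Type v} [Group H] [Finite H]
    (f : H →* MulAut A) (hf : Function.Injective f) (S : Finset A)
    (hS : closure (S : Set A) = ⊤) (h1 : (1 : A) ∉ S) :
    Nat.card H ≤ (Nat.card A - 1).descFactorial S.card := by
  classical
  have := Fintype.ofFinite A
  let ψ : H → (↥S ↪ {a : A // a ≠ 1}) := fun h =>
    ⟨fun s => ⟨f h s, fun e => h1 (by
      have : (s : A) = 1 := (map_eq_one_iff _ (f h).injective).1 e
      exact this ▸ s.2)⟩, fun s s' e => Subtype.ext ((f h).injective (congrArg Subtype.val e))⟩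
  have hψ : Function.Injective ψ := by
    intro h h' e
    refine hf (MulEquiv.toMonoidHom_injective (MonoidHom.eq_of_eqOn_dense hS fun s hs => ?_))
    exact congrArg Subtype.val (DFunLike.congr_fun e ⟨s, hs⟩)
  refine (Nat.card_le_card_of_injective ψ hψ).trans (le_of_eq ?_)
  rw [Nat.card_eq_fintype_card, Fintype.card_embedding_eq, Fintype.card_coe,
    Fintype.card_subtype_compl, Fintype.card_subtype_eq, ← Nat.card_eq_fintype_card]

variable {Ω : Type u}

/-- The permutations induced by the stabiliser of a set on that set. -/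
def restrictHom {T : Type v} [Group T] [MulAction T Ω] (B : Set Ω) :
    stabilizer T B →* Equiv.Perm B where
  toFun g :=
    { toFun := fun x => ⟨(g : T) • x, by
        have h := Set.smul_mem_smul_set (a := (g : T)) x.2
        rwa [mem_stabilizer_iff.1 g.2] at h⟩
      invFun := fun x => ⟨(g : T)⁻¹ • x, by
        have h := Set.smul_mem_smul_set (a := (g : T)⁻¹) x.2
        rwa [mem_stabilizer_iff.1 (inv_mem g.2)] at h⟩
      left_inv := fun x => Subtype.ext (inv_smul_smul _ _)
      right_inv := fun x => Subtype.ext (smul_inv_smul _ _) }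
  map_one' := Equiv.ext fun x => Subtype.ext (one_smul _ _)
  map_mul' g h := Equiv.ext fun x => Subtype.ext (mul_smul _ _ _)

/-- A regular abelian normal subgroup. -/
theorem regular_case [Finite Ω] (T : Subgroup (Equiv.Perm Ω)) (A : Subgroup T) [A.Normal]
    (hA : ∀ x ∈ A, ∀ y ∈ A, x * y = y * x) [IsPretransitive A Ω] (hn : 5 ≤ Nat.card Ω) :
    3 * Nat.card T ≤ 3 ^ Nat.card Ω := by
  classical
  obtain ⟨a⟩ : Nonempty Ω := (Nat.card_pos_iff.1 (by omega)).1
  have hinj : ∀ x ∈ A, ∀ y ∈ A, x • a = y • a → x = y := by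
    intro x hx y hy e
    refine Subtype.ext (Equiv.ext fun b => ?_)
    obtain ⟨⟨z, hz⟩, rfl⟩ := exists_smul_eq A a b
    show x • z • a = y • z • a
    rw [smul_smul, smul_smul, hA x hx z hz, hA y hy z hz, mul_smul, mul_smul, e]
  have hcardA : Nat.card A = Nat.card Ω := Nat.card_congr (Equiv.ofBijective (fun x : A => x • a)
    ⟨fun x y e => Subtype.ext (hinj x x.2 y y.2 e), fun b => exists_smul_eq A a b⟩)
  have : IsPretransitive T Ω := ⟨fun x y => by
    obtain ⟨g, hg⟩ := exists_smul_eq A x y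
    exact ⟨(g : T), hg⟩⟩
  have hcardT : Nat.card T = Nat.card Ω * Nat.card (stabilizer T a) := by
    rw [← index_stabilizer_of_transitive T a, mul_comm]
    exact (Subgroup.card_mul_index _).symm
  obtain ⟨S₀, hS₀, hS₀c⟩ := exists_gen A
  set S := S₀.erase 1 with hSdef
  have hS : closure (S : Set A) = ⊤ := by
    rw [hSdef, Finset.coe_erase, Subgroup.closure_sdiff_one, hS₀]
  let f : stabilizer T a →* MulAut A := MulAut.conjNormal.comp (stabilizer T a).subtype
  have hf : Function.Injective f := by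
    intro h h' e
    refine Subtype.ext (Subtype.ext (Equiv.ext fun b => ?_))
    obtain ⟨x, rfl⟩ := exists_smul_eq A a b
    have e1 := congrArg (fun w : A => (w : T)) (DFunLike.congr_fun e x)
    simp only [f, MonoidHom.comp_apply, MulAut.conjNormal_apply, coe_subtype] at e1
    have ha1 : (h : T)⁻¹ • a = a := inv_smul_eq_iff.2 (mem_stabilizer_iff.1 h.2).symm
    have ha2 : (h' : T)⁻¹ • a = a := inv_smul_eq_iff.2 (mem_stabilizer_iff.1 h'.2).symm
    have e2 := congrArg (· • a) e1
    simp only [mul_smul, ha1, ha2] at e2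
    exact e2
  have hH := card_le_descFactorial f hf S hS (Finset.notMem_erase _ _)
  rw [hcardA] at hH hS₀c
  have hd : 2 ^ S.card ≤ Nat.card Ω :=
    (Nat.pow_le_pow_right two_pos (Finset.card_erase_le)).trans hS₀c
  calc 3 * Nat.card T = 3 * (Nat.card Ω * Nat.card (stabilizer T a)) := by rw [hcardT]
    _ ≤ 3 * (Nat.card Ω * (Nat.card Ω - 1).descFactorial S.card) :=
        Nat.mul_le_mul_left _ (Nat.mul_le_mul_left _ hH)
    _ ≤ _ := three_mul_descFactorial_le hn hd

/-- The bound for permutation groups. -/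
theorem three_mul_card_perm_le (n : ℕ) : ∀ (Ω : Type u) [Finite Ω] (T : Subgroup (Equiv.Perm Ω))
    [IsPretransitive T Ω] [Nonempty Ω], Group.IsSolvable T → Nat.card Ω = n →
      3 * Nat.card T ≤ 3 ^ n := by
  induction n using Nat.strong_induction_on with
  | _ n ih =>
  intro Ω _ T _ _ hT hn
  classical
  by_cases h4 : n ≤ 4
  · have h1 : Nat.card T ≤ n.factorial := by
      rw [← hn, ← Nat.card_perm]
      exact Subgroup.card_le_card_group _
    have hpos : 0 < n := hn ▸ Nat.card_pos
    interval_cases n <;> norm_num [Nat.factorial] at h1 ⊢ <;> omega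
  push Not at h4
  haveI : Nontrivial T := by
    obtain ⟨a, b, hab⟩ := Finite.one_lt_card_iff_nontrivial.1 (show 1 < Nat.card Ω by omega)
    obtain ⟨g, hg⟩ := exists_smul_eq T a b
    exact ⟨g, 1, fun e => hab (by rw [← hg, e, one_smul])⟩
  -- an abelian normal subgroup
  obtain ⟨A, hAn, hAne, hA⟩ : ∃ A : Subgroup T, A.Normal ∧ A ≠ ⊥ ∧
      ∀ x ∈ A, ∀ y ∈ A, x * y = y * x := by
    obtain ⟨m, hm⟩ := Group.IsSolvable.solvable (G := T)
    induction m with
    | zero => exact absurd hm (by simp)
    | succ m ihm =>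
      by_cases h : derivedSeries T m = ⊥
      · exact ihm h
      refine ⟨derivedSeries T m, derivedSeries_normal T m, h, fun x hx y hy => ?_⟩
      have := commutator_mem_commutator hx hy
      rw [← derivedSeries_succ, hm, mem_bot, commutatorElement_eq_one_iff_mul_comm] at this
      exact this
  by_cases htr : IsPretransitive A Ω
  · rw [← hn]
    exact regular_case T A hA (by omega)
  -- blocks
  obtain ⟨a⟩ := ‹Nonempty Ω›
  set B : Set Ω := orbit A a with hB
  have hblock : IsBlock T B := IsBlock.orbit_of_normal a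
  have hBne : B.Nonempty := ⟨a, mem_orbit_self a⟩
  have hmove : ∀ g : T, g • B = orbit A (g • a) := fun g => smul_orbit_eq_orbit_smul A (a := a) g
  have hB2 : 2 ≤ B.ncard := by
    by_contra hlt
    push Not at hlt
    refine hAne ((Subgroup.eq_bot_iff_forall _).2 fun x hx => Subtype.ext (Equiv.ext fun b => ?_))
    obtain ⟨g, rfl⟩ := exists_smul_eq T a b
    have h1 : (g • B).ncard ≤ 1 := by rw [Set.ncard_smul_set]; omega
    rw [hmove] at h1
    exact (Set.ncard_le_one (Set.toFinite _)).1 h1 _ (mem_orbit (g • a) (⟨x, hx⟩ : A)) _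
      (mem_orbit_self _)
  have hBlt : B.ncard < n := by
    refine lt_of_le_of_ne (hn ▸ Set.ncard_le_card B) fun e => htr ⟨fun x y => ?_⟩
    have hu : B = Set.univ := (Set.eq_univ_iff_ncard B).2 (e.trans hn.symm)
    obtain ⟨g₁, h₁⟩ := (hu ▸ Set.mem_univ x : x ∈ B)
    obtain ⟨g₂, h₂⟩ := (hu ▸ Set.mem_univ y : y ∈ B)
    exact ⟨g₂ * g₁⁻¹, by rw [mul_smul, ← h₁, inv_smul_smul, ← h₂]⟩
  set O := orbit T B with hO
  have hmn : B.ncard * O.ncard = n := by rw [hO, hblock.ncard_block_mul_ncard_orbit_eq hBne, hn]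
  have hOlt : O.ncard < n := by nlinarith
  set m := O.ncard with hm
  set φ := MulAction.toPermHom T O with hφ
  have hOne : Nonempty O := ⟨⟨B, mem_orbit_self B⟩⟩
  haveI : IsPretransitive φ.range O := ⟨fun x y => by
    obtain ⟨g, hg⟩ := exists_smul_eq T x y
    exact ⟨⟨φ g, g, rfl⟩, hg⟩⟩
  have hT2 : 3 * Nat.card φ.range ≤ 3 ^ m :=
    ih m hOlt O φ.range (Group.isSolvable_of_surjective φ.rangeRestrict_surjective)
      (Nat.card_coe_set_eq _)
  -- each block
  have hblk : ∀ C : O, 3 * Nat.card (restrictHom (T := T) (C : Set Ω)).range ≤ 3 ^ B.ncard := by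
    rintro ⟨C, g, rfl⟩
    set C := g • B with hC
    haveI : IsPretransitive (restrictHom (T := T) C).range C := ⟨by
      rintro ⟨x, hx⟩ ⟨y, hy⟩
      rw [hC, hmove] at hx hy
      obtain ⟨g₁, rfl⟩ := hx
      obtain ⟨g₂, rfl⟩ := hy
      have hst : ∀ w : A, (w : T) ∈ stabilizer T C := fun w => by
        refine mem_stabilizer_iff.2 ?_
        rw [hC, hmove, smul_orbit_eq_orbit_smul A]
        exact orbit_smul w _
      refine ⟨⟨_, ⟨⟨_, hst (g₂ * g₁⁻¹)⟩, rfl⟩⟩, Subtype.ext ?_⟩
      show ((g₂ * g₁⁻¹ : A) : T) • ((g₁ : A) : T) • g • a = ((g₂ : A) : T) • g • a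
      rw [smul_smul, ← Subgroup.coe_mul, inv_mul_cancel_right]⟩
    haveI : Nonempty C := ⟨⟨g • a, Set.smul_mem_smul_set (mem_orbit_self a)⟩⟩
    haveI : Group.IsSolvable T := hT
    exact ih B.ncard hBlt C _ (Group.isSolvable_of_surjective
      (restrictHom (T := T) C).rangeRestrict_surjective)
      (by rw [Nat.card_coe_set_eq, hC, Set.ncard_smul_set])
  -- the kernel
  have hker : Nat.card φ.ker * 3 ^ m ≤ 3 ^ n := by
    have hst : ∀ (k : φ.ker) (C : O), (k : T) ∈ stabilizer T (C : Set Ω) := fun k C => by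
      have := Equiv.ext_iff.1 (MonoidHom.mem_ker.1 k.2) C
      exact mem_stabilizer_iff.2 (congrArg Subtype.val this)
    let ψ : φ.ker → ∀ C : O, (restrictHom (T := T) (C : Set Ω)).range := fun k C =>
      ⟨_, ⟨(k : T), hst k C⟩, rfl⟩
    have hψ : Function.Injective ψ := by
      intro k k' e
      refine Subtype.ext (Subtype.ext (Equiv.ext fun b => ?_))
      obtain ⟨g, rfl⟩ := exists_smul_eq T a b
      have h := congrFun e ⟨g • B, g, rfl⟩
      have h2 := Equiv.ext_iff.1 (congrArg Subtype.val h)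
        ⟨g • a, Set.smul_mem_smul_set (mem_orbit_self a)⟩
      exact congrArg Subtype.val h2
    have := Fintype.ofFinite O
    have h1 := Nat.card_le_card_of_injective ψ hψ
    rw [Nat.card_pi] at h1
    calc Nat.card φ.ker * 3 ^ m
        ≤ (∏ C : O, Nat.card (restrictHom (T := T) (C : Set Ω)).range) * ∏ _C : O, 3 := by
          rw [Finset.prod_const, Finset.card_univ, ← Nat.card_eq_fintype_card, Nat.card_coe_set_eq]
          exact Nat.mul_le_mul_right _ h1
      _ ≤ ∏ _C : O, 3 ^ B.ncard := by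
          rw [← Finset.prod_mul_distrib]
          exact Finset.prod_le_prod' fun C _ => (mul_comm _ _).trans_le (hblk C)
      _ = 3 ^ n := by
          rw [Finset.prod_const, Finset.card_univ, ← Nat.card_eq_fintype_card, Nat.card_coe_set_eq,
            ← pow_mul, hmn]
  have hcard : Nat.card φ.range * Nat.card φ.ker = Nat.card T := by
    rw [← Subgroup.index_ker, mul_comm]
    exact Subgroup.card_mul_index _
  refine Nat.le_of_mul_le_mul_right ?_ (pow_pos (show (0 : ℕ) < 3 by norm_num) m)
  calc 3 * Nat.card T * 3 ^ m = 3 * Nat.card φ.range * (Nat.card φ.ker * 3 ^ m) := by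
        rw [← hcard]; ring
    _ ≤ 3 ^ m * 3 ^ n := Nat.mul_le_mul hT2 hker
    _ = 3 ^ n * 3 ^ m := mul_comm _ _

/-- **A solvable transitive group has order at most `3 ^ (n - 1)`.** -/
theorem three_mul_card_le {T : Type v} {Ω : Type u} [Group T] [Finite T] [Finite Ω] [MulAction T Ω]
    [FaithfulSMul T Ω] [MulAction.IsPretransitive T Ω] [Nonempty Ω] (hT : Group.IsSolvable T) :
    3 * Nat.card T ≤ 3 ^ Nat.card Ω := by
  haveI : IsPretransitive (MulAction.toPermHom T Ω).range Ω := ⟨fun x y => by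
    obtain ⟨g, hg⟩ := exists_smul_eq T x y
    exact ⟨⟨_, g, rfl⟩, hg⟩⟩
  have h := three_mul_card_perm_le (Nat.card Ω) Ω (MulAction.toPermHom T Ω).range
    (Group.isSolvable_of_surjective (MonoidHom.rangeRestrict_surjective _)) rfl
  rwa [← Nat.card_congr (MonoidHom.ofInjective
    (MulAction.toPerm_injective (α := T) (β := Ω))).toEquiv] at h

end CfsgLib.ClassPSq
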