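import Cfsg.Agent.Lib.BaseTwo.Blocks
import Cfsg.Agent.Lib.ClassNumberPSq.Count
import Cfsg.Agent.Lib.ClassNumberPSq.TransBound

/-!
The class number of an irreducible solvable linear group whose abelian normal subgroup splits the
space into blocks.
-/

set_option autoImplicit false
set_option linter.style.haveILetI false

namespace CfsgLib.ClassPSq

open CfsgLib.BaseTwo (Inv Irr scalars conjEnd conjEnd_apply conjEnd_one conjEnd_mul conjEnd_mem_scalars
  scalars_comm scalars_reduced exists_pow_idempotent)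
open Subgroup

universe u

variable {A V : Type u} [Group A] [Finite A] [AddCommGroup V] [Finite V] [DistribMulAction A V]

/-- An idempotent of least image, when the ring is no field. -/
theorem exists_primitive (hirr : Irr A V) {U : Subgroup A} (hU : U.Normal)
    (hUc : ∀ x ∈ U, ∀ y ∈ U, x * y = y * x)
    (hno : ¬ ∀ s ∈ scalars V U, s ≠ 0 → ∃ s' ∈ scalars V U, s * s' = 1) :
    ∃ e ∈ scalars V U, e * e = e ∧ e ≠ 0 ∧ e ≠ 1 ∧
      ∀ f ∈ scalars V U, f * f = f → f * e = f → f = 0 ∨ f = e := by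
  classical
  haveI : Finite (AddMonoid.End V) :=
    Finite.of_injective (fun f => (f : V → V)) DFunLike.coe_injective
  obtain ⟨f, hf, hff, hf0, hf1⟩ : ∃ f ∈ scalars V U, f * f = f ∧ f ≠ 0 ∧ f ≠ 1 := by
    by_contra hn
    push Not at hn
    refine hno fun s hs hs0 => ?_
    obtain ⟨n, hn0, hidem⟩ := exists_pow_idempotent s
    refine ⟨s ^ (n - 1), pow_mem hs _, ?_⟩
    have h1 : s ^ n = 1 := hn _ (pow_mem hs n) hidem fun h =>
      hs0 (scalars_reduced hirr hU hUc hs ⟨n, h⟩)
    rw [← pow_succ', show n - 1 + 1 = n by omega, h1]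
  obtain ⟨e, ⟨heS, hee, he0, he1⟩, hmin⟩ := Set.exists_min_image
    {e : AddMonoid.End V | e ∈ scalars V U ∧ e * e = e ∧ e ≠ 0 ∧ e ≠ 1}
    (fun e : AddMonoid.End V => Nat.card (AddMonoidHom.range (e : V →+ V))) (Set.toFinite _)
    ⟨f, hf, hff, hf0, hf1⟩
  refine ⟨e, heS, hee, he0, he1, fun g hg hgg hge => ?_⟩
  by_contra hn
  push Not at hn
  have heg : e * g = g := (scalars_comm hUc heS hg).trans hge
  have hg1 : g ≠ 1 := fun h => he1 (by rwa [h, mul_one] at heg)
  have hle : AddMonoidHom.range (g : V →+ V) ≤ AddMonoidHom.range (e : V →+ V) := by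
    rintro _ ⟨v, rfl⟩
    exact ⟨g v, DFunLike.congr_fun heg v⟩
  have heq := AddSubgroup.eq_of_le_of_card_ge hle (hmin g ⟨hg, hgg, hn.1, hg1⟩)
  refine hn.2 (DFunLike.ext _ _ fun v => ?_)
  obtain ⟨w, hw⟩ : e v ∈ AddMonoidHom.range (g : V →+ V) := by rw [heq]; exact ⟨v, rfl⟩
  have h : g (e v) = e v := by rw [← hw]; exact DFunLike.congr_fun hgg w
  rw [show g (e v) = (g * e) v from rfl, hge] at h
  exact h

/-- The commuting probability bounds transport to the blocks. -/
theorem classes_pi_bound {G P H : Type*} [Group G] [Finite G] [Group H] [Finite H] [Group P] [Finite P]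
    {t τ : ℕ} (B : Subgroup G) (hB : B.index = τ) (f : B →* P) (hf : Function.Injective f)
    (hP : commProb P = commProb H ^ t) :
    Nat.card G * Nat.card (ConjClasses H) ^ t ≤ τ ^ 2 * Nat.card H ^ t * Nat.card (ConjClasses G) := by
  have h1 := classes_mul_card_le f.range
  have hP1 : commProb P ≤ commProb f.range := by
    rw [commProb_def', commProb_def', div_le_div_iff₀ (by exact_mod_cast Nat.card_pos)
      (by exact_mod_cast Nat.card_pos)]
    exact_mod_cast h1
  have hP2 : commProb f.range = commProb B := by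
    rw [commProb_def', commProb_def']
    have e := (MonoidHom.ofInjective hf).symm
    rw [Nat.card_congr e.toEquiv]
    congr 2
    exact Nat.card_congr (Equiv.ofBijective (ConjClasses.map e.toMonoidHom)
      ⟨fun a b => by
        induction a using Quotient.inductionOn' with | h a => ?_
        induction b using Quotient.inductionOn' with | h b => ?_
        intro h
        obtain ⟨c, hc⟩ := isConj_iff.1 (ConjClasses.mk_eq_mk_iff_isConj.1 h)
        refine ConjClasses.mk_eq_mk_iff_isConj.2 (isConj_iff.2 ⟨e.symm c, e.injective ?_⟩)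
        simpa using hc,
      ConjClasses.map_surjective e.surjective⟩)
  have hP3 := B.commProb_subgroup_le
  rw [← hP2, hB] at hP3
  have h2 := hP1.trans hP3
  rw [hP, commProb_def', commProb_def', div_pow, div_mul_eq_mul_div,
    div_le_div_iff₀ (pow_pos (by exact_mod_cast Nat.card_pos) _) (by exact_mod_cast Nat.card_pos)] at h2
  have h3 : ((Nat.card G * Nat.card (ConjClasses H) ^ t : ℕ) : ℚ) ≤
      ((τ ^ 2 * Nat.card H ^ t * Nat.card (ConjClasses G) : ℕ) : ℚ) := by
    push_cast
    linarith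
  exact_mod_cast h3

/-- **The imprimitive step.** -/
theorem blocks_bound (hsol : Group.IsSolvable A) (hf : ∀ a : A, (∀ v : V, a • v = v) → a = 1)
    (hirr : Irr A V) {U : Subgroup A} (hU : U.Normal) (hUc : ∀ x ∈ U, ∀ y ∈ U, x * y = y * x)
    (hno : ¬ ∀ s ∈ scalars V U, s ≠ 0 → ∃ s' ∈ scalars V U, s * s' = 1) :
    ∃ (H : Type u) (_ : Group H) (_ : Finite H) (W : Type u) (_ : AddCommGroup W) (_ : Finite W)
      (_ : DistribMulAction H W) (t τ : ℕ),
      2 ≤ t ∧ Group.IsSolvable H ∧ (∀ h : H, (∀ w : W, h • w = w) → h = 1) ∧ Irr H W ∧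
      Nat.card H < Nat.card A ∧ Nat.card W ^ t = Nat.card V ∧
      (∀ n : ℕ, (∀ v : V, n • v = 0) → ∀ w : W, n • w = 0) ∧
      3 * τ ≤ 3 ^ t ∧ τ ≤ t.factorial ∧
      Nat.card A * Nat.card (ConjClasses H) ^ t ≤ τ ^ 2 * Nat.card H ^ t * Nat.card (ConjClasses A) := by
  classical
  obtain ⟨e, he, hee, he0, he1, hprim⟩ := exists_primitive hirr hU hUc hno
  haveI : Finite (AddMonoid.End V) :=
    Finite.of_injective (fun f => (f : V → V)) DFunLike.coe_injective
  let Ω := Set.range fun a : A => conjEnd (V := V) a e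
  letI : MulAction A Ω :=
    { smul := fun a i => ⟨conjEnd a i.1, by
        obtain ⟨b, hb⟩ := i.2
        exact ⟨a * b, show conjEnd (a * b) e = _ by rw [conjEnd_mul]; exact congrArg _ hb⟩⟩
      one_smul := fun i => Subtype.ext (conjEnd_one i.1)
      mul_smul := fun a b i => Subtype.ext (conjEnd_mul a b i.1) }
  haveI : Fintype Ω := Fintype.ofFinite Ω
  have hmemS : ∀ i : Ω, (i : AddMonoid.End V) ∈ scalars V U := by
    rintro ⟨_, a, rfl⟩; exact conjEnd_mem_scalars hU a he
  have hidem : ∀ i : Ω, (i : AddMonoid.End V) * i = i := by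
    rintro ⟨_, a, rfl⟩
    show conjEnd a e * conjEnd a e = conjEnd a e
    rw [← map_mul, hee]
  have hpr : ∀ i : Ω, ∀ f ∈ scalars V U, f * f = f → f * i.1 = f → f = 0 ∨ f = i.1 := by
    rintro ⟨_, a, rfl⟩ f hf hff hfe
    have h := hprim (conjEnd a⁻¹ f) (conjEnd_mem_scalars hU _ hf) (by rw [← map_mul, hff]) (by
      have h := congrArg (conjEnd (V := V) a⁻¹) hfe
      rwa [map_mul, ← conjEnd_mul, inv_mul_cancel, conjEnd_one] at h)
    have hb : conjEnd a (conjEnd a⁻¹ f) = f := by rw [← conjEnd_mul, mul_inv_cancel, conjEnd_one]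
    rcases h with h | h
    · left; rw [← hb, h, map_zero]
    · right; show f = conjEnd a e; rw [← hb, h]
  have horth : ∀ i j : Ω, i ≠ j → (i : AddMonoid.End V) * j = 0 := by
    intro i j hij
    have hc := scalars_comm hUc (hmemS i) (hmemS j)
    have hff : (i : AddMonoid.End V) * j * (i.1 * j.1) = i.1 * j.1 := by
      rw [show (i : AddMonoid.End V) * j * (i.1 * j.1) = i.1 * (j.1 * i.1) * j.1 by
        simp only [mul_assoc], ← hc, ← mul_assoc i.1, hidem i, mul_assoc, hidem j]
    have hS := mul_mem (hmemS i) (hmemS j)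
    rcases hpr j _ hS hff (by rw [mul_assoc, hidem j]) with h | h
    · exact h
    rcases hpr i _ hS hff (by rw [mul_assoc, ← hc, ← mul_assoc, hidem i]) with h' | h'
    · exact h'
    exact absurd (Subtype.ext (h'.symm.trans h)) hij
  let i₀ : Ω := ⟨e, 1, conjEnd_one e⟩
  have htr : ∀ i : Ω, ∃ a : A, a • i₀ = i := by
    rintro ⟨_, a, rfl⟩; exact ⟨a, rfl⟩
  choose t ht using htr
  have hsmul : ∀ (a : A) (i : Ω) (x : V), (a • i).1 (a • x) = a • i.1 x := fun a i x => by
    show conjEnd a i.1 (a • x) = _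
    rw [conjEnd_apply, inv_smul_smul]
  have hsum : ∀ x : V, ∑ i : Ω, i.1 x = x := by
    let W : AddSubgroup V :=
      { carrier := {x | ∑ i : Ω, i.1 x = x}
        zero_mem' := by simp
        add_mem' := fun {x y} hx hy => by
          show ∑ i : Ω, i.1 (x + y) = x + y
          simp only [map_add, Finset.sum_add_distrib]
          rw [hx, hy]
        neg_mem' := fun {x} hx => by
          show ∑ i : Ω, i.1 (-x) = -x
          simp only [map_neg, Finset.sum_neg_distrib]
          rw [hx] }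
    have hW : Inv (⊤ : Subgroup A) W := by
      intro a _ x hx
      show ∑ i : Ω, i.1 (a • x) = a • x
      rw [← Equiv.sum_comp (MulAction.toPerm a : Equiv.Perm Ω) fun i => i.1 (a • x)]
      simp only [MulAction.toPerm_apply, hsmul, ← Finset.smul_sum]
      rw [show ∑ i : Ω, i.1 x = x from hx]
    obtain ⟨x, hx⟩ : ∃ x, e x ≠ 0 := by
      by_contra hno
      push Not at hno
      exact he0 (DFunLike.ext _ _ hno)
    have hmem : e x ∈ W := by
      show ∑ i : Ω, i.1 (e x) = e x
      rw [Finset.sum_eq_single i₀]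
      · exact DFunLike.congr_fun hee x
      · exact fun i _ hi => DFunLike.congr_fun (horth i i₀ hi) x
      · exact fun h => absurd (Finset.mem_univ _) h
    rcases hirr W hW with h | h
    · rw [h, AddSubgroup.mem_bot] at hmem; exact absurd hmem hx
    · intro y; exact (show y ∈ W by rw [h]; trivial)
  haveI : MulAction.IsPretransitive A Ω := ⟨fun i j => ⟨t j * (t i)⁻¹, by
    rw [mul_smul, show (t i)⁻¹ • i = i₀ by rw [inv_smul_eq_iff, ht], ht]⟩⟩
  haveI : Nonempty Ω := ⟨i₀⟩
  -- the block and the group induced on it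
  let S₀ := MulAction.stabilizer A i₀
  let W₀ : AddSubgroup V := AddMonoidHom.range (e : V →+ V)
  have hfixW : ∀ x ∈ W₀, e x = x := by
    rintro _ ⟨y, rfl⟩; exact DFunLike.congr_fun hee y
  have hW₀ : ∀ a ∈ S₀, ∀ x ∈ W₀, a • x ∈ W₀ := fun a ha x hx => by
    refine ⟨a • x, ?_⟩
    have h := hsmul a i₀ x
    rw [show a • i₀ = i₀ from ha] at h
    rw [show i₀.1 x = x from hfixW x hx] at h
    exact h
  letI : DistribMulAction S₀ W₀ :=
    { smul := fun a w => ⟨(a : A) • (w : V), hW₀ a a.2 w w.2⟩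
      one_smul := fun w => Subtype.ext (one_smul _ _)
      mul_smul := fun a b w => Subtype.ext (mul_smul _ _ _)
      smul_zero := fun a => Subtype.ext (smul_zero _)
      smul_add := fun a v w => Subtype.ext (smul_add _ _ _) }
  haveI : Finite (AddMonoid.End W₀) :=
    Finite.of_injective (fun f => (f : W₀ → W₀)) DFunLike.coe_injective
  let φ : S₀ →* (AddMonoid.End W₀)ˣ := (DistribMulAction.toAddMonoidEnd S₀ W₀).toHomUnits
  have hφ : ∀ (s : S₀) (w : W₀),
      (((⟨φ s, s, rfl⟩ : φ.range) • w : W₀) : V) = (s : A) • (w : V) := fun s w => rfl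
  have hcomp : ∀ (c : Ω → V), (∀ i, c i ∈ W₀) → ∀ i, i.1 (∑ j, t j • c j) = t i • c i := by
    intro c hc i
    have hj : ∀ j, t j • c j = j.1 (t j • c j) := fun j => by
      have h := hsmul (t j) i₀ (c j)
      rw [ht j, show i₀.1 (c j) = c j from hfixW _ (hc j)] at h
      exact h.symm
    rw [map_sum, Finset.sum_eq_single i]
    · exact (hj i).symm
    · intro j _ hne
      rw [hj j]
      exact DFunLike.congr_fun (horth i j hne.symm) _
    · exact fun h => absurd (Finset.mem_univ _) h
  have hpart : ∀ (i : Ω) (v : V), (t i)⁻¹ • i.1 v = e ((t i)⁻¹ • v) := fun i v => by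
    have h := hsmul (t i) i₀ ((t i)⁻¹ • v)
    rw [ht, smul_inv_smul] at h
    rw [h, inv_smul_smul]
  let Φ : V ≃ (Ω → W₀) :=
    { toFun := fun v i => ⟨(t i)⁻¹ • i.1 v, by rw [hpart]; exact ⟨_, rfl⟩⟩
      invFun := fun c => ∑ i, t i • (c i : V)
      left_inv := fun v => by simp only [smul_inv_smul, hsum]
      right_inv := fun c => funext fun i => Subtype.ext (by
        show (t i)⁻¹ • i.1 (∑ j, t j • (c j : V)) = _
        rw [hcomp (fun j => (c j : V)) (fun j => (c j).2), inv_smul_smul]) }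
  have ht2 : 2 ≤ Nat.card Ω := by
    by_contra hlt
    push Not at hlt
    have : Subsingleton Ω := Finite.card_le_one_iff_subsingleton.1 (by omega)
    refine he1 (DFunLike.ext _ _ fun y => ?_)
    have h := hsum y
    rw [Finset.sum_eq_single i₀ (fun i _ hi => absurd (Subsingleton.elim i i₀) hi)
      (fun h => absurd (Finset.mem_univ _) h)] at h
    exact h
  have hHlt : Nat.card φ.range < Nat.card A := by
    refine lt_of_le_of_lt (Nat.le_of_dvd Nat.card_pos (Subgroup.card_range_dvd φ))
      (lt_of_le_of_ne (Subgroup.card_le_card_group S₀) fun h => ?_)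
    obtain ⟨i, j, hij⟩ := Finite.one_lt_card_iff_nontrivial.1 (show 1 < Nat.card Ω by omega)
    have htop : ∀ i : Ω, i = i₀ := fun i => by
      rw [← ht i]
      exact (show t i ∈ S₀ by rw [(Subgroup.card_eq_iff_eq_top S₀).1 h]; trivial : t i • i₀ = i₀)
    exact hij ((htop i).trans (htop j).symm)
  -- the kernel of the action on the blocks
  let π := MulAction.toPermHom A Ω
  have hkern : ∀ (b : π.ker) (i : Ω), (t i)⁻¹ * (b : A) * t i ∈ S₀ := fun b i => by
    have hb : (b : A) • i = i := Equiv.ext_iff.1 (MonoidHom.mem_ker.1 b.2) i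
    rw [MulAction.mem_stabilizer_iff, mul_smul, mul_smul, ht, hb, inv_smul_eq_iff, ht]
  let ψ : π.ker →* (Ω → φ.range) :=
    { toFun := fun b i => ⟨φ ⟨_, hkern b i⟩, _, rfl⟩
      map_one' := funext fun i => Subtype.ext (by
        show φ ⟨_, hkern 1 i⟩ = 1
        rw [← map_one φ]
        exact congrArg φ (Subtype.ext (by simp)))
      map_mul' := fun b c => funext fun i => Subtype.ext (by
        show φ ⟨_, hkern (b * c) i⟩ = φ ⟨_, hkern b i⟩ * φ ⟨_, hkern c i⟩
        rw [← map_mul φ]
        exact congrArg φ (Subtype.ext (by simp [mul_assoc]))) }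
  have hψ : Function.Injective ψ := by
    refine (injective_iff_map_eq_one ψ).2 fun b hb => Subtype.ext (hf _ fun v => ?_)
    have hi : ∀ i : Ω, (b : A) • i.1 v = i.1 v := fun i => by
      have h1 : ((t i)⁻¹ * (b : A) * t i) • ((t i)⁻¹ • i.1 v) = (t i)⁻¹ • i.1 v := by
        have hmem : (t i)⁻¹ • i.1 v ∈ W₀ := by rw [hpart]; exact ⟨_, rfl⟩
        have h2 := congrArg (fun h : φ.range => ((h • (⟨_, hmem⟩ : W₀) : W₀) : V)) (congrFun hb i)
        simpa [ψ, hφ] using h2
      rwa [mul_smul, smul_inv_smul, mul_smul, smul_left_cancel_iff] at h1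
    conv_lhs => rw [← hsum v, Finset.smul_sum]
    rw [Finset.sum_congr rfl fun i _ => hi i, hsum]
  refine ⟨φ.range, inferInstance, inferInstance, W₀, inferInstance, inferInstance, inferInstance,
    Nat.card Ω, Nat.card π.range, ht2, Group.isSolvable_of_surjective φ.rangeRestrict_surjective,
    ?_, ?_, hHlt, ?_, fun n hn w => Subtype.ext (by
      rw [AddSubgroup.coe_nsmul, hn, AddSubgroup.coe_zero]), ?_, ?_, ?_⟩
  · -- faithful
    rintro ⟨_, s, rfl⟩ h
    refine Subtype.ext (Units.ext (DFunLike.ext _ _ fun w => ?_))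
    exact h w
  · -- irreducible
    intro Y hY
    let X : AddSubgroup V := ⨆ a : A, (Y.map W₀.subtype).map (DistribSMul.toAddMonoidHom V a)
    have hX : Inv (⊤ : Subgroup A) X := by
      intro b _ x hx
      have : X ≤ X.comap (DistribSMul.toAddMonoidHom V b) := iSup_le fun a => by
        rintro _ ⟨y, hy, rfl⟩
        refine AddSubgroup.mem_iSup_of_mem (b * a) ⟨y, hy, ?_⟩
        simp [mul_smul]
      exact this hx
    rcases hirr X hX with h | h
    · refine Or.inl ((AddSubgroup.eq_bot_iff_forall _).2 fun y hy => Subtype.ext ?_)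
      have h' : (1 : A) • (y : V) ∈ X :=
        AddSubgroup.mem_iSup_of_mem 1 ⟨y, ⟨y, hy, rfl⟩, rfl⟩
      rwa [h, AddSubgroup.mem_bot, one_smul] at h'
    · refine Or.inr (eq_top_iff.2 fun x _ => ?_)
      have hXY : X ≤ (Y.map W₀.subtype).comap e := iSup_le fun a => by
        rintro _ ⟨_, ⟨y, hy, rfl⟩, rfl⟩
        show e (a • (y : V)) ∈ Y.map W₀.subtype
        by_cases ha : a ∈ S₀
        · rw [hfixW _ (hW₀ a ha _ y.2)]
          exact ⟨_, hY ⟨φ ⟨a, ha⟩, ⟨a, ha⟩, rfl⟩ trivial y hy, rfl⟩
        · have h1 : a • (y : V) = (a • i₀).1 (a • (y : V)) := by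
            rw [hsmul]; exact congrArg _ (hfixW y y.2).symm
          rw [h1, show e ((a • i₀).1 (a • (y : V))) = (i₀.1 * (a • i₀).1) (a • (y : V)) from rfl,
            horth i₀ (a • i₀) fun hh => ha hh.symm]
          exact zero_mem _
      have h' : e (x : V) ∈ Y.map W₀.subtype := hXY (show (x : V) ∈ X by rw [h]; trivial)
      rw [hfixW _ x.2] at h'
      obtain ⟨y, hy, hyx⟩ := h'
      rwa [show y = x from Subtype.ext hyx] at hy
  · -- the size
    rw [← Nat.card_fun, ← Nat.card_congr Φ]
  · haveI : MulAction.IsPretransitive π.range Ω := ⟨fun i j => by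
      obtain ⟨a, ha⟩ := MulAction.exists_smul_eq A i j
      exact ⟨⟨_, a, rfl⟩, ha⟩⟩
    exact three_mul_card_le (Group.isSolvable_of_surjective π.rangeRestrict_surjective)
  · rw [← Nat.card_perm]
    exact Subgroup.card_le_card_group _
  · refine classes_pi_bound (P := Ω → φ.range) π.ker (Subgroup.index_ker π) ψ hψ ?_
    rw [commProb_function, Nat.card_eq_fintype_card]

end CfsgLib.ClassPSq
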