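import Cfsg.Agent.Lib.ClassNumberPSq.PairingBasic
import Cfsg.Agent.Lib.Amalgam.AltOvergroup

/-!
The isometry group of an elementary abelian group of order at least 16 with an alternating pairing is
not solvable, hence solvable isometry groups in orders 16 and 64 have index at least five and three.
-/

set_option autoImplicit false

namespace CfsgLib.ClassPSq

variable {W μ : Type*} [CommGroup W] [CommGroup μ] {β : W → W → μ}

/-- The isometry group. -/
def isoGroup (β : W → W → μ) : Subgroup (MulAut W) where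
  carrier := {φ | ∀ a b, β (φ a) (φ b) = β a b}
  one_mem' := fun _ _ => rfl
  mul_mem' := fun {φ ψ} hφ hψ a b => by
    rw [MulAut.mul_apply, MulAut.mul_apply, hφ, hψ]
  inv_mem' := fun {φ} hφ a b => by
    rw [← hφ, MulAut.apply_inv_self, MulAut.apply_inv_self]

/-- The element `u` or the identity. -/
def pw (u : W) (b : Bool) : W := cond b u 1

section Exp

variable (hβ : IsPairing β) [IsCyclic μ] [Finite μ] (h2 : ∀ a : W, a * a = 1)
include hβ h2

theorem pair_sq (a b : W) : β a b * β a b = 1 := by
  rw [← hβ.mul_left, h2, hβ.one_left]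

theorem pair_symm (a b : W) : β b a = β a b :=
  (hβ.skew a b).trans (inv_eq_of_mul_eq_one_right (pair_sq hβ h2 a b))

theorem pair_two_values {a b c d : W} (h1 : β a b ≠ 1) (h3 : β c d ≠ 1) : β a b = β c d := by
  classical
  haveI := Fintype.ofFinite μ
  by_contra hne
  have hsub : ({1, β a b, β c d} : Finset μ) ⊆ Finset.univ.filter fun x : μ => x ^ 2 = 1 := by
    intro x hx
    simp only [Finset.mem_insert, Finset.mem_singleton] at hx
    rw [Finset.mem_filter]
    refine ⟨Finset.mem_univ _, ?_⟩
    rcases hx with rfl | rfl | rfl <;> simp [pow_two, pair_sq hβ h2]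
  have := (Finset.card_le_card hsub).trans (IsCyclic.card_pow_eq_one_le (by norm_num))
  rw [Finset.card_insert_of_notMem (by simp [Ne.symm h1, Ne.symm h3]),
    Finset.card_pair hne] at this
  omega

open scoped Classical in
/-- Whether the pairing is nontrivial. -/
noncomputable def bit (_hβ : IsPairing β) (a b : W) : Bool := !decide (β a b = 1)

theorem bit_mul (a b c : W) : bit hβ a (b * c) = xor (bit hβ a b) (bit hβ a c) := by
  classical
  by_cases hb : β a b = 1 <;> by_cases hc : β a c = 1 <;>
    simp [bit, hβ.mul_right, hb, hc]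
  rw [← pair_two_values hβ h2 hb hc, pair_sq hβ h2]

theorem pw_xor (u : W) (a b : Bool) : pw u (xor a b) = pw u a * pw u b := by
  cases a <;> cases b <;> simp [pw, h2]

theorem bit_pw (a u : W) (b : Bool) : bit hβ a (pw u b) = (b && bit hβ a u) := by
  classical
  cases b
  · simp [pw, bit, hβ.one_right]
  · simp [pw]

/-- The transvection of `u`. -/
noncomputable def trv (hβ : IsPairing β) (h2 : ∀ a : W, a * a = 1) (u : W) : isoGroup β :=
  have hbu : bit hβ u u = false := by simp [bit, hβ.alt]
  have hinv : ∀ w, w * pw u (bit hβ u w) * pw u (bit hβ u (w * pw u (bit hβ u w))) = w :=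
    fun w => by
      rw [bit_mul hβ h2, bit_pw hβ h2, hbu, Bool.and_false, Bool.xor_false, mul_assoc, h2, mul_one]
  ⟨{ toFun := fun w => w * pw u (bit hβ u w)
     invFun := fun w => w * pw u (bit hβ u w)
     left_inv := hinv
     right_inv := hinv
     map_mul' := fun a b => by
      rw [bit_mul hβ h2, pw_xor hβ h2, mul_mul_mul_comm] },
   fun a b => by
    classical
    change β (a * pw u (bit hβ u a)) (b * pw u (bit hβ u b)) = β a b
    by_cases ha : β u a = 1 <;> by_cases hb : β u b = 1 <;>
      simp [bit, pw, ha, hb, hβ.mul_left, hβ.mul_right, hβ.one_left, hβ.one_right, hβ.alt,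
        pair_symm hβ h2 u a]
    rw [pair_two_values hβ h2 ha hb, mul_assoc, pair_sq hβ h2, mul_one]⟩

theorem trv_apply (u w : W) : ((trv hβ h2 u : MulAut W)) w = w * pw u (bit hβ u w) := rfl

end Exp

/-- The action of the four transvections on the coefficients. -/
def step (s : Fin 4 → Bool) : Fin 4 → Bool × Bool × Bool × Bool → Bool × Bool × Bool × Bool
  | 0, (a, b, c, d) => (xor a (xor (s 0) b), b, c, d)
  | 1, (a, b, c, d) => (a, xor b (xor (s 1) (xor a c)), c, d)
  | 2, (a, b, c, d) => (a, b, xor c (xor (s 2) (xor b d)), d)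
  | 3, (a, b, c, d) => (a, b, c, xor d (xor (s 3) c))

theorem step_five : ∀ s0 s1 s2 s3 : Bool,
    (fun v => step ![s0, s1, s2, s3] 0 (step ![s0, s1, s2, s3] 3
      (step ![s0, s1, s2, s3] 1 (step ![s0, s1, s2, s3] 2 v))))^[5]
      (false, false, false, false) = (false, false, false, false) := by decide

theorem step_two : ∀ s0 s1 s2 s3 : Bool,
    (fun v => step ![s0, s1, s2, s3] 0 (step ![s0, s1, s2, s3] 3 v))^[2]
      (false, false, false, false) = (false, false, false, false) := by decide

theorem step_three : ∀ s0 s1 s2 s3 : Bool,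
    (fun v => step ![s0, s1, s2, s3] 1 (step ![s0, s1, s2, s3] 2 v))^[3]
      (false, false, false, false) = (false, false, false, false) := by decide

section Chain

variable (hβ : IsPairing β) [IsCyclic μ] [Finite μ] [Finite W] (h2 : ∀ a : W, a * a = 1)
include hβ h2

/-- A chain of four vectors. -/
theorem exists_chain (h16 : 16 ≤ Nat.card W) : ∃ u : Fin 4 → W, bit hβ (u 0) (u 1) = true ∧
    bit hβ (u 0) (u 2) = false ∧ bit hβ (u 0) (u 3) = false ∧ bit hβ (u 1) (u 2) = true ∧
    bit hβ (u 1) (u 3) = false ∧ bit hβ (u 2) (u 3) = true := by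
  classical
  have hex : ∀ a : W, a ≠ 1 → ∃ b, bit hβ a b = true := fun a ha => by
    by_contra h
    push Not at h
    exact ha (hβ.nondeg a fun b => by simpa [bit] using h b)
  obtain ⟨e, he⟩ : ∃ e : W, e ≠ 1 := by
    haveI : Nontrivial W := Finite.one_lt_card_iff_nontrivial.1 (by omega)
    exact exists_ne 1
  obtain ⟨f, hef⟩ := hex e he
  have hfe : bit hβ f e = true := by simpa [bit, pair_symm hβ h2 e f] using hef
  have hee : ∀ a : W, bit hβ a a = false := fun a => by simp [bit, hβ.alt]
  let pr : W → W := fun w => w * pw e (bit hβ f w) * pw f (bit hβ e w)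
  have hpe : ∀ w, bit hβ e (pr w) = false := fun w => by
    simp only [pr, bit_mul hβ h2, bit_pw hβ h2, hee, hef, Bool.and_false, Bool.xor_false,
      Bool.and_true, bne_self_eq_false]
  have hpf : ∀ w, bit hβ f (pr w) = false := fun w => by
    simp only [pr, bit_mul hβ h2, bit_pw hβ h2, hee, hfe, Bool.and_false, Bool.xor_false,
      Bool.and_true, bne_self_eq_false]
  obtain ⟨w, hw⟩ : ∃ w, pr w ≠ 1 := by
    by_contra h
    push Not at h
    have hinj : Function.Injective fun w : W => (bit hβ f w, bit hβ e w) := fun a b hab => by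
      have ha := h a
      have hb := h b
      simp only [pr, Prod.mk.injEq] at ha hb hab
      rw [hab.1, hab.2] at ha
      exact mul_right_cancel (mul_right_cancel (ha.trans hb.symm))
    have := Nat.card_le_card_of_injective _ hinj
    simp at this
    omega
  obtain ⟨g, hg⟩ := hex _ hw
  have hg' : bit hβ (pr w) (pr g) = true := by
    have hs : ∀ a b, bit hβ a b = bit hβ b a := fun a b => by simp [bit, pair_symm hβ h2 a b]
    change bit hβ (pr w) (g * pw e (bit hβ f g) * pw f (bit hβ e g)) = true
    rw [bit_mul hβ h2, bit_mul hβ h2, bit_pw hβ h2, bit_pw hβ h2, hg, hs _ e, hs _ f, hpe, hpf]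
    simp
  refine ⟨![e, f, e * pr w, pr g], hef, ?_, hpe g, ?_, hpf g, ?_⟩
  · change bit hβ e (e * pr w) = false
    rw [bit_mul hβ h2, hee, hpe]; rfl
  · change bit hβ f (e * pr w) = true
    rw [bit_mul hβ h2, hfe, hpf]; rfl
  · change bit hβ (e * pr w) (pr g) = true
    have hs : ∀ a b, bit hβ a b = bit hβ b a := fun a b => by simp [bit, pair_symm hβ h2 a b]
    rw [hs, bit_mul hβ h2, hs _ e, hpe, hs, hg']; rfl

/-- The isometry group is not solvable. -/
theorem not_isSolvable_isoGroup (h16 : 16 ≤ Nat.card W) : ¬ Group.IsSolvable (isoGroup β) := by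
  classical
  intro hsol
  obtain ⟨u, b01, b02, b03, b12, b13, b23⟩ := exists_chain hβ h2 h16
  have hs : ∀ a b, bit hβ a b = bit hβ b a := fun a b => by simp [bit, pair_symm hβ h2 a b]
  have hee : ∀ a : W, bit hβ a a = false := fun a => by simp [bit, hβ.alt]
  let E : Bool × Bool × Bool × Bool → W := fun v =>
    pw (u 0) v.1 * pw (u 1) v.2.1 * pw (u 2) v.2.2.1 * pw (u 3) v.2.2.2
  have hstep : ∀ (w : W) (k : Fin 4) (v : Bool × Bool × Bool × Bool),
      ((trv hβ h2 (u k) : MulAut W)) (w * E v) =
        w * E (step ![bit hβ (u 0) w, bit hβ (u 1) w, bit hβ (u 2) w, bit hβ (u 3) w] k v) := by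
    rintro w k ⟨a, b, c, d⟩
    rw [trv_apply hβ h2]
    simp only [E, bit_mul hβ h2, bit_pw hβ h2]
    obtain rfl | rfl | rfl | rfl : k = 0 ∨ k = 1 ∨ k = 2 ∨ k = 3 := by omega
    all_goals
      simp [step, hee, b01, b02, b03, b12, b13, b23, hs (u 1) (u 0), hs (u 2) (u 0), hs (u 3) (u 0),
        hs (u 2) (u 1), hs (u 3) (u 1), hs (u 3) (u 2), pw_xor hβ h2]
    all_goals simp only [mul_comm, mul_left_comm, mul_assoc]
  set A : isoGroup β := trv hβ h2 (u 0) * trv hβ h2 (u 3) with hA
  set B : isoGroup β := trv hβ h2 (u 1) * trv hβ h2 (u 2) with hB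
  have hpow : ∀ (n : ℕ) (X : isoGroup β) (F : (Fin 4 → Bool) →
      Bool × Bool × Bool × Bool → Bool × Bool × Bool × Bool),
      (∀ w v, (X : MulAut W) (w * E v) =
        w * E (F ![bit hβ (u 0) w, bit hβ (u 1) w, bit hβ (u 2) w, bit hβ (u 3) w] v)) →
      (∀ s0 s1 s2 s3, (F ![s0, s1, s2, s3])^[n] (false, false, false, false) =
        (false, false, false, false)) → X ^ n = 1 := by
    intro n X F hX hF
    refine Subtype.ext (MulEquiv.ext fun w => ?_)
    have hiter : ∀ m, ((X ^ m : isoGroup β) : MulAut W) (w * E (false, false, false, false)) =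
        w * E ((F ![bit hβ (u 0) w, bit hβ (u 1) w, bit hβ (u 2) w, bit hβ (u 3) w])^[m]
          (false, false, false, false)) := by
      intro m
      induction m with
      | zero => simp
      | succ m ih => rw [pow_succ', Subgroup.coe_mul, MulAut.mul_apply, ih, hX,
          Function.iterate_succ_apply']
    have h0 : E (false, false, false, false) = 1 := by simp [E, pw]
    have := hiter n
    rw [hF, h0, mul_one] at this
    rw [this]; rfl
  have hA2 : A ^ 2 = 1 := hpow 2 A (fun s v => step s 0 (step s 3 v))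
    (fun w v => by rw [hA, Subgroup.coe_mul, MulAut.mul_apply, hstep, hstep]) step_two
  have hB3 : B ^ 3 = 1 := hpow 3 B (fun s v => step s 1 (step s 2 v))
    (fun w v => by rw [hB, Subgroup.coe_mul, MulAut.mul_apply, hstep, hstep]) step_three
  have hAB5 : (A * B) ^ 5 = 1 := hpow 5 (A * B)
    (fun s v => step s 0 (step s 3 (step s 1 (step s 2 v))))
    (fun w v => by
      rw [hA, hB, Subgroup.coe_mul, Subgroup.coe_mul, Subgroup.coe_mul, MulAut.mul_apply,
        MulAut.mul_apply, MulAut.mul_apply, hstep, hstep, hstep, hstep]) step_five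
  have hA1 : A ≠ 1 := by
    intro h
    have h' := congrArg (fun X : isoGroup β => (X : MulAut W) (u 1)) h
    simp only [hA, Subgroup.coe_mul, Subgroup.coe_one, MulAut.mul_apply, MulAut.one_apply,
      trv_apply hβ h2, hs (u 3) (u 1), b13, pw, cond_false, mul_one, b01, cond_true] at h'
    rw [mul_eq_left.1 h'] at b01
    simp [bit, hβ.one_left] at b01
  -- the generated subgroup is perfect
  set H := Subgroup.closure ({A, B} : Set (isoGroup β))
  have hAH : A ∈ H := Subgroup.subset_closure (Or.inl rfl)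
  have hBH : B ∈ H := Subgroup.subset_closure (Or.inr rfl)
  set a : H := ⟨A, hAH⟩
  set b : H := ⟨B, hBH⟩
  let π := Abelianization.of (G := H)
  have e2 : π a ^ 2 = 1 := by rw [← map_pow, show a ^ 2 = 1 from Subtype.ext hA2, map_one]
  have e3 : π b ^ 3 = 1 := by rw [← map_pow, show b ^ 3 = 1 from Subtype.ext hB3, map_one]
  have e5 : (π a * π b) ^ 5 = 1 := by
    rw [← map_mul, ← map_pow, show (a * b) ^ 5 = 1 from Subtype.ext hAB5, map_one]
  have e15 : π a ^ 15 * π b ^ 15 = 1 := by
    rw [← mul_pow, show (15 : ℕ) = 5 * 3 from rfl, pow_mul, e5, one_pow]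
  have ha : π a = 1 := by
    rw [show (15 : ℕ) = 2 * 7 + 1 from rfl, pow_succ, pow_mul, e2, one_pow, one_mul,
      show π b ^ (2 * 7 + 1) = (π b ^ 3) ^ 5 by rw [← pow_mul], e3, one_pow, mul_one] at e15
    exact e15
  have hb : π b = 1 := by
    rw [ha, one_mul] at e5
    have : π b ^ 6 = 1 := by rw [show (6 : ℕ) = 3 * 2 from rfl, pow_mul, e3, one_pow]
    rwa [pow_succ, e5, one_mul] at this
  haveI : Group.IsSolvable H := inferInstance
  haveI : Nontrivial H := ⟨⟨a, 1, fun h => hA1 (congrArg Subtype.val h)⟩⟩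
  refine (Group.IsSolvable.commutator_lt_top_of_nontrivial H).ne (eq_top_iff.2 ?_)
  have hgen : Subgroup.closure ({a, b} : Set H) = ⊤ := by
    refine eq_top_iff.2 fun x _ => ?_
    have : H ≤ (Subgroup.closure ({a, b} : Set H)).map H.subtype := by
      rw [MonoidHom.map_closure, Set.image_pair]
      exact le_rfl
    obtain ⟨y, hy, hyx⟩ := this x.2
    exact (Subtype.ext hyx : y = x) ▸ hy
  rw [← hgen, Subgroup.closure_le]
  rintro x (rfl | rfl)
  · exact (QuotientGroup.eq_one_iff _).1 ha
  · exact (QuotientGroup.eq_one_iff _).1 hb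

/-- A solvable subgroup of the isometry group of index at most four does not exist. -/
theorem five_le_index (h16 : 16 ≤ Nat.card W) (K : Subgroup (isoGroup β))
    (hK : Group.IsSolvable K) : 5 ≤ K.index := by
  classical
  by_contra hlt
  haveI : Finite (MulAut W) := Finite.of_injective (fun φ : MulAut W => (φ : W → W))
    DFunLike.coe_injective
  haveI := hK
  haveI := Fintype.ofFinite (isoGroup β ⧸ K)
  haveI : Group.IsSolvable (Equiv.Perm (isoGroup β ⧸ K)) :=
    CfsgLib.Amalgam.isSolvable_perm_of_card_le_four (by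
      rw [← Nat.card_eq_fintype_card, ← Subgroup.index_eq_card]; omega)
  haveI : Group.IsSolvable K.normalCore :=
    solvable_of_solvable_injective (Subgroup.inclusion_injective (Subgroup.normalCore_le K))
  refine not_isSolvable_isoGroup hβ h2 h16
    (solvable_of_ker_le_range K.normalCore.subtype (MulAction.toPermHom (isoGroup β) (isoGroup β ⧸ K)) ?_)
  rw [← Subgroup.normalCore_eq_ker, Subgroup.range_subtype]

end Chain

namespace IsPairing

theorem maxPrime_values : maxPrime 2 = 2 ∧ maxPrime 4 = 2 ∧ maxPrime 8 = 2 := by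
  refine ⟨?_, ?_, ?_⟩
  · rw [maxPrime, Nat.Prime.primeFactors Nat.prime_two]; rfl
  · rw [maxPrime, show (4 : ℕ) = 2 ^ 2 from rfl, Nat.primeFactors_prime_pow (by norm_num)
      Nat.prime_two]; rfl
  · rw [maxPrime, show (8 : ℕ) = 2 ^ 3 from rfl, Nat.primeFactors_prime_pow (by norm_num)
      Nat.prime_two]; rfl

theorem Bd_four_eight : Bd 4 = 720 ∧ Bd 8 = 1451520 := by
  obtain ⟨m2, m4, m8⟩ := maxPrime_values
  have b1 : Bd 1 = 1 := by rw [Bd, dif_neg (by norm_num)]
  have b2 : Bd 2 = 6 := by
    rw [Bd, dif_pos (by norm_num : (1 : ℕ) < 2), m2]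
    norm_num [b1]
  have b4 : Bd 4 = 720 := by
    rw [Bd, dif_pos (by norm_num : (1 : ℕ) < 4), m4]
    norm_num [b2]
  refine ⟨b4, ?_⟩
  rw [Bd, dif_pos (by norm_num : (1 : ℕ) < 8), m8]
  norm_num [b4]

variable [Finite W] [IsCyclic μ] [Finite μ] (hβ : IsPairing β)
variable {S : Type*} [Group S] [Finite S] (f : S →* MulAut W) (hf : Function.Injective f)
  (hp : ∀ s a b, β (f s a) (f s b) = β a b)
include hβ hf hp

theorem five_mul_le (hsol : Group.IsSolvable S) (h2 : ∀ a : W, a * a = 1) (h16 : 16 ≤ Nat.card W)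
    {e : ℕ} (he : Nat.card W = e * e) : 5 * Nat.card S ≤ Bd e := by
  haveI : Finite (MulAut W) := Finite.of_injective (fun φ : MulAut W => (φ : W → W))
    DFunLike.coe_injective
  haveI := hsol
  let g : S →* isoGroup β := f.codRestrict (isoGroup β) hp
  have hg : Function.Injective g := fun s t h => hf (congrArg Subtype.val h :)
  haveI : Group.IsSolvable g.range := Group.isSolvable_of_surjective g.rangeRestrict_surjective
  have h5 := five_le_index hβ h2 h16 g.range inferInstance
  have hcard := g.range.card_mul_index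
  rw [← Nat.card_congr (MonoidHom.ofInjective hg).toEquiv] at hcard
  have hG : Nat.card (isoGroup β) ≤ Bd e :=
    hβ.card_le (isoGroup β).subtype Subtype.val_injective (fun s => s.2) he
  calc 5 * Nat.card S ≤ g.range.index * Nat.card S := Nat.mul_le_mul_right _ h5
    _ = Nat.card (isoGroup β) := by rw [mul_comm]; exact hcard
    _ ≤ Bd e := hG

theorem card_le_sixteen (hsol : Group.IsSolvable S) (h2 : ∀ a : W, a * a = 1)
    (h : Nat.card W = 16) : 5 * Nat.card S ≤ 720 :=
  Bd_four_eight.1 ▸ hβ.five_mul_le f hf hp hsol h2 (by omega) (e := 4) (by omega)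

theorem card_le_sixtyfour (hsol : Group.IsSolvable S) (h2 : ∀ a : W, a * a = 1)
    (h : Nat.card W = 64) : 3 * Nat.card S ≤ 1451520 :=
  le_trans (Nat.mul_le_mul_right _ (by norm_num : 3 ≤ 5))
    (Bd_four_eight.2 ▸ hβ.five_mul_le f hf hp hsol h2 (by omega) (e := 8) (by omega))

end IsPairing

end CfsgLib.ClassPSq
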