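import Cfsg.Agent.Lib.ClassNumberPSq.Field
import Cfsg.Agent.Lib.ClassNumberPSq.Pairing

/-!
The field case: the index of the scalar group in its centralizer.
-/

set_option autoImplicit false
set_option linter.unusedSectionVars false
set_option linter.style.haveILetI false

namespace CfsgLib.ClassPSq

open CfsgLib.BaseTwo (FieldCase)

universe u

variable {A V : Type u} [Group A] [Finite A] [AddCommGroup V] [Finite V] [DistribMulAction A V]

/-- The parameters `a`, `d`, `e` and the index `M` in the field case. -/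
theorem field_bound (hsolv : Group.IsSolvable A) {U : Subgroup A} (F : FieldCase A V U)
    (hmax : ∀ W : Subgroup A, W.Normal → U ≤ W → (∀ x ∈ W, ∀ y ∈ W, x * y = y * x) → W = U)
    {p : ℕ} [Fact p.Prime] (hexp : ∀ v : V, p • v = 0) :
    ∃ a d e M : ℕ, 1 ≤ a ∧ 1 ≤ d ∧ Nat.card V = p ^ (a * d) ∧ 1 ≤ e ∧ e ≤ d ∧
      Nat.card U ∣ p ^ a - 1 ∧ (Subgroup.centralizer (U : Set A)).index ≤ a ∧
      U.relIndex (Subgroup.centralizer (U : Set A)) = M ∧ M ≤ e * e * Bd e ∧
      ((e = 4 ∨ e = 8) → 5 * M ≤ e * e * Bd e) ∧ (e = 3 → 3 ∣ p ^ a - 1) ∧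
      (e = 2 → ∃ E : Subgroup A, E.Normal ∧ U ≤ E ∧ E ≤ Subgroup.centralizer (U : Set A) ∧
        U.relIndex E = 4 ∧ (∀ x ∈ E, x * x ∈ U) ∧
        ∀ c ∈ Subgroup.centralizer (U : Set A), (∀ x ∈ E, c * x * c⁻¹ * x⁻¹ ∈ U) → c ∈ E) := by
  classical
  haveI hUn := F.normal
  haveI := hsolv
  obtain ⟨a, d, ha, hd, hV, hU, hidx, hind⟩ := Scalar.field_params F hexp
  obtain ⟨E, hEn, hUE, hEC, hcomm, hsqf, hcent⟩ := exists_layer hsolv F.normal F.comm hmax
  haveI := hEn
  set C := Subgroup.centralizer (U : Set A) with hC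
  have hEU : ∀ e ∈ E, ∀ x ∈ U, e * x = x * e := fun e he x hx =>
    (Subgroup.mem_centralizer_iff.1 (hEC he) x hx).symm
  have hcentE : ∀ c ∈ C, (∀ y ∈ E, y * c = c * y) → c ∈ U := fun c hc h => by
    rw [← hcent]; exact ⟨hc, Subgroup.mem_centralizer_iff.2 h⟩
  set U' := U.subgroupOf E with hU'
  haveI : U'.Normal := Subgroup.normal_subgroupOf
  let W := ↥E ⧸ U'
  have hWc : ∀ x y : W, x * y = y * x := by
    intro x y
    obtain ⟨x, rfl⟩ := QuotientGroup.mk_surjective x
    obtain ⟨y, rfl⟩ := QuotientGroup.mk_surjective y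
    have h : ((x * y * x⁻¹ * y⁻¹ : E) : W) = 1 := (QuotientGroup.eq_one_iff _).2 (hcomm x x.2 y y.2)
    rwa [QuotientGroup.mk_mul, QuotientGroup.mk_mul, QuotientGroup.mk_mul, QuotientGroup.mk_inv,
      QuotientGroup.mk_inv, mul_inv_eq_one, mul_inv_eq_iff_eq_mul] at h
  letI : CommGroup W := { (inferInstance : Group W) with mul_comm := hWc }
  letI : CommGroup U := { (inferInstance : Group U) with
    mul_comm := fun x y => Subtype.ext (F.comm _ x.2 _ y.2) }
  haveI : IsCyclic U := F.cyclic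
  let β : W → W → U := fun x y =>
    ⟨(x.out : A) * y.out * (x.out : A)⁻¹ * (y.out : A)⁻¹, hcomm _ x.out.2 _ y.out.2⟩
  -- the commutator depends only on the cosets
  have hwell : ∀ x y : E, ((β (x : W) (y : W) : U) : A) = (x : A) * y * (x : A)⁻¹ * (y : A)⁻¹ := by
    intro x y
    obtain ⟨u, hu⟩ := QuotientGroup.mk_out_eq_mul U' x
    obtain ⟨v, hv⟩ := QuotientGroup.mk_out_eq_mul U' y
    show ((x : W).out : A) * (y : W).out * ((x : W).out : A)⁻¹ * ((y : W).out : A)⁻¹ = _
    rw [show (x : W).out = x * u from hu, show (y : W).out = y * v from hv]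
    push_cast
    have h1 : ∀ e : E, Commute ((u : E) : A) (e : A) := fun e => (hEU e e.2 _ u.2).symm
    have h2 : ∀ e : E, Commute ((v : E) : A) (e : A) := fun e => (hEU e e.2 _ v.2).symm
    calc (x : A) * ((u : E) : A) * ((y : A) * ((v : E) : A)) * ((x : A) * ((u : E) : A))⁻¹ *
          ((y : A) * ((v : E) : A))⁻¹
        = (x : A) * (((u : E) : A) * ((y : A) * ((v : E) : A)) * ((u : E) : A)⁻¹) * (x : A)⁻¹ *
          ((v : E) : A)⁻¹ * (y : A)⁻¹ := by group
      _ = (x : A) * ((y : A) * ((v : E) : A)) * (x : A)⁻¹ * ((v : E) : A)⁻¹ * (y : A)⁻¹ := by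
          rw [← Subgroup.coe_mul, (h1 (y * (v : E))).eq, mul_inv_cancel_right, Subgroup.coe_mul]
      _ = (x : A) * (y : A) * (((v : E) : A) * (x : A)⁻¹ * ((v : E) : A)⁻¹) * (y : A)⁻¹ := by group
      _ = _ := by rw [← Subgroup.coe_inv, (h2 x⁻¹).eq, mul_inv_cancel_right]
  have hβ : IsPairing β := by
    constructor
    · intro x y z
      obtain ⟨x, rfl⟩ := QuotientGroup.mk_surjective x
      obtain ⟨y, rfl⟩ := QuotientGroup.mk_surjective y
      obtain ⟨z, rfl⟩ := QuotientGroup.mk_surjective z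
      refine Subtype.ext ?_
      rw [← QuotientGroup.mk_mul, Subgroup.coe_mul, hwell, hwell, hwell, Subgroup.coe_mul]
      have hz := hcomm y y.2 z z.2
      calc (x : A) * y * z * ((x : A) * y)⁻¹ * (z : A)⁻¹
          = (x : A) * ((y : A) * z * (y : A)⁻¹ * (z : A)⁻¹) * ((z : A) * (x : A)⁻¹ * (z : A)⁻¹) := by group
        _ = ((y : A) * z * (y : A)⁻¹ * (z : A)⁻¹) * ((x : A) * z * (x : A)⁻¹ * (z : A)⁻¹) := by
          rw [hEU x x.2 _ hz]; group
        _ = _ := F.comm _ hz _ (hcomm x x.2 z z.2)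
    · intro x y z
      obtain ⟨x, rfl⟩ := QuotientGroup.mk_surjective x
      obtain ⟨y, rfl⟩ := QuotientGroup.mk_surjective y
      obtain ⟨z, rfl⟩ := QuotientGroup.mk_surjective z
      refine Subtype.ext ?_
      rw [← QuotientGroup.mk_mul, Subgroup.coe_mul, hwell, hwell, hwell, Subgroup.coe_mul]
      have hz := hcomm x x.2 z z.2
      calc (x : A) * ((y : A) * z) * (x : A)⁻¹ * ((y : A) * z)⁻¹
          = ((x : A) * y * (x : A)⁻¹) * ((x : A) * z * (x : A)⁻¹ * (z : A)⁻¹) * (y : A)⁻¹ := by group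
        _ = ((x : A) * y * (x : A)⁻¹) * ((y : A)⁻¹ * ((x : A) * z * (x : A)⁻¹ * (z : A)⁻¹)) := by
          rw [hEU _ (inv_mem y.2) _ hz]; group
        _ = _ := by group
    · intro x
      obtain ⟨x, rfl⟩ := QuotientGroup.mk_surjective x
      exact Subtype.ext (by rw [hwell, Subgroup.coe_one]; group)
    · intro x h
      obtain ⟨x, rfl⟩ := QuotientGroup.mk_surjective x
      refine (QuotientGroup.eq_one_iff x).2 (hcentE _ (hEC x.2) fun y hy => ?_)
      have := congrArg Subtype.val (h ((⟨y, hy⟩ : E) : W))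
      rw [hwell, Subgroup.coe_one, mul_inv_eq_one, mul_inv_eq_iff_eq_mul] at this
      exact this.symm
  obtain ⟨e, he⟩ := hβ.exists_sq
  have hWidx : U.relIndex E = e * e := he
  have he1 : 1 ≤ e := by
    rcases Nat.eq_zero_or_pos e with h | h
    · subst h; exact absurd he Nat.card_pos.ne'
    · exact h
  have hed : e ≤ d := Nat.mul_self_le_mul_self_iff.1 (hWidx ▸ (hind E E hUE hEC hEC hUE
    (fun c hc y hy => hcomm y hy c hc) (fun c hc h => hcentE c (hEC hc) h)).1)
  -- the kernel of the action on the layer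
  let L : Subgroup A :=
    { carrier := {c | c ∈ C ∧ ∀ y ∈ E, y * c * y⁻¹ * c⁻¹ ∈ U}
      one_mem' := ⟨one_mem _, fun y hy => by simp⟩
      mul_mem' := fun {c c'} hc hc' => ⟨mul_mem hc.1 hc'.1, fun y hy => by
        rw [show y * (c * c') * y⁻¹ * (c * c')⁻¹ =
          (y * c * y⁻¹ * c⁻¹) * (c * (y * c' * y⁻¹ * c'⁻¹) * c⁻¹) by group]
        exact mul_mem (hc.2 y hy) (F.normal.conj_mem _ (hc'.2 y hy) c)⟩
      inv_mem' := fun {c} hc => ⟨inv_mem hc.1, fun y hy => by
        rw [show y * c⁻¹ * y⁻¹ * c⁻¹⁻¹ = c⁻¹ * (y * c * y⁻¹ * c⁻¹)⁻¹ * c⁻¹⁻¹ by group]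
        exact F.normal.conj_mem _ (inv_mem (hc.2 y hy)) c⁻¹⟩ }
  have hEL : E ≤ L := fun c hc => ⟨hEC hc, fun y hy => hcomm y hy c hc⟩
  have hUL : U ≤ L := hUE.trans hEL
  have hLC : L ≤ C := fun c hc => hc.1
  have hL := (hind L E hUL hLC hEC hUE (fun c hc => hc.2) (fun c hc h => hcentE c hc.1 h)).2
  rw [hWidx] at hL
  -- the action
  let act : C →* MulAut W :=
    { toFun := fun c => QuotientGroup.congr U' U' (MulAut.conjNormal (c : A)) (by
        ext x
        refine ⟨?_, fun hx => ⟨(MulAut.conjNormal (c : A)).symm x, ?_, MulEquiv.apply_symm_apply _ x⟩⟩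
        · rintro ⟨y, hy, rfl⟩
          exact F.normal.conj_mem _ hy (c : A)
        · show (((MulAut.conjNormal (c : A)).symm x : E) : A) ∈ U
          rw [MulAut.conjNormal_symm_apply]
          simpa using F.normal.conj_mem _ hx (c : A)⁻¹)
      map_one' := MulEquiv.ext fun w => by
        obtain ⟨w, rfl⟩ := QuotientGroup.mk_surjective w
        simp
      map_mul' := fun c c' => MulEquiv.ext fun w => by
        obtain ⟨w, rfl⟩ := QuotientGroup.mk_surjective w
        simp [map_mul] }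
  have hactap : ∀ (c : C) (x : E), act c (x : W) = ((MulAut.conjNormal (c : A) x : E) : W) := fun c x => rfl
  have hker : act.ker = L.subgroupOf C := by
    ext c
    rw [MonoidHom.mem_ker, Subgroup.mem_subgroupOf]
    constructor
    · intro h
      refine ⟨c.2, fun y hy => ?_⟩
      have h1 := DFunLike.congr_fun h ((⟨y, hy⟩ : E) : W)
      rw [hactap, MulAut.one_apply] at h1
      have h2 : ((c : A) * y * (c : A)⁻¹)⁻¹ * y ∈ U := by
        have := QuotientGroup.eq.1 h1
        rw [hU', Subgroup.mem_subgroupOf] at this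
        simpa using this
      have := F.normal.conj_mem _ h2 y
      rwa [show y * (((c : A) * y * (c : A)⁻¹)⁻¹ * y) * y⁻¹ = y * (c : A) * y⁻¹ * (c : A)⁻¹ by group] at this
    · intro h
      refine MulEquiv.ext fun w => ?_
      obtain ⟨w, rfl⟩ := QuotientGroup.mk_surjective w
      rw [hactap, MulAut.one_apply, QuotientGroup.eq, hU', Subgroup.mem_subgroupOf]
      push_cast
      rw [MulAut.conjNormal_apply]
      have := F.normal.conj_mem _ (h.2 w w.2) (w : A)⁻¹
      rwa [show (w : A)⁻¹ * ((w : A) * c * (w : A)⁻¹ * (c : A)⁻¹) * (w : A)⁻¹⁻¹ =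
        ((c : A) * w * (c : A)⁻¹)⁻¹ * w by group] at this
  haveI : Finite (MulAut W) := Finite.of_injective (fun φ : MulAut W => (φ : W → W)) DFunLike.coe_injective
  let S : Subgroup (MulAut W) := act.range
  have hSsol : Group.IsSolvable S := Group.isSolvable_of_surjective act.rangeRestrict_surjective
  have hpres : ∀ (s : S) (x y : W), β ((s : MulAut W) x) ((s : MulAut W) y) = β x y := by
    rintro ⟨_, c, rfl⟩ x y
    obtain ⟨x, rfl⟩ := QuotientGroup.mk_surjective x
    obtain ⟨y, rfl⟩ := QuotientGroup.mk_surjective y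
    refine Subtype.ext ?_
    show ((β (act c (x : W)) (act c (y : W)) : U) : A) = _
    rw [hactap, hactap, hwell, hwell, MulAut.conjNormal_apply, MulAut.conjNormal_apply]
    calc (c : A) * x * (c : A)⁻¹ * ((c : A) * y * (c : A)⁻¹) * ((c : A) * x * (c : A)⁻¹)⁻¹ *
          ((c : A) * y * (c : A)⁻¹)⁻¹ = (c : A) * ((x : A) * y * (x : A)⁻¹ * (y : A)⁻¹) * (c : A)⁻¹ := by group
      _ = _ := by
        rw [← Subgroup.mem_centralizer_iff.1 c.2 _ (hcomm x x.2 y y.2), mul_inv_cancel_right]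
  have hS := hβ.card_le S.subtype Subtype.val_injective hpres he
  have hM : U.relIndex C = U.relIndex L * Nat.card S := by
    rw [← Subgroup.relIndex_mul_relIndex U L C hUL hLC, ← Subgroup.index_ker, hker]
    rfl
  refine ⟨a, d, e, U.relIndex C, ha, hd, hV, he1, hed, hU, hidx, rfl,
    hM ▸ Nat.mul_le_mul hL hS, ?_, ?_, ?_⟩
  · intro he48
    have h2 : ∀ w : W, w * w = 1 := by
      intro w
      obtain ⟨x, rfl⟩ := QuotientGroup.mk_surjective w
      rw [← QuotientGroup.mk_mul, QuotientGroup.eq_one_iff, Subgroup.mem_subgroupOf, Subgroup.coe_mul,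
        ← pow_two]
      have hk : ∀ k : ℕ, (x : A) ^ (2 * 2 ^ k) ∈ U → (x : A) ^ 2 ∈ U := by
        intro k
        induction k with
        | zero => simp
        | succ k ih =>
          intro h
          refine ih ?_
          rw [mul_comm, pow_mul]
          refine hsqf 2 Nat.prime_two _ (pow_mem x.2 _) ?_
          rw [← pow_mul]
          convert h using 2
          ring
      have hw : ((x : W)) ^ (e * e) = 1 := he ▸ pow_card_eq_one'
      rw [← QuotientGroup.mk_pow, QuotientGroup.eq_one_iff, Subgroup.mem_subgroupOf, Subgroup.coe_pow] at hw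
      rcases he48 with rfl | rfl
      · exact hk 3 hw
      · exact hk 5 hw
    have h16 : 16 ≤ Nat.card W := by rcases he48 with rfl | rfl <;> omega
    have h5 := hβ.five_mul_le S.subtype Subtype.val_injective hpres hSsol h2 h16 he
    rw [hM]
    calc 5 * (U.relIndex L * Nat.card S) = U.relIndex L * (5 * Nat.card S) := by ring
      _ ≤ e * e * Bd e := Nat.mul_le_mul hL h5
  · rintro rfl
    have : Fact (Nat.Prime 3) := ⟨Nat.prime_three⟩
    obtain ⟨w, hw⟩ := exists_prime_orderOf_dvd_card' (G := W) 3 (by rw [he]; norm_num)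
    obtain ⟨w', hw'⟩ : ∃ w', β w w' ≠ 1 := by
      by_contra h
      push Not at h
      rw [hβ.nondeg w h, orderOf_one] at hw
      norm_num at hw
    refine dvd_trans ?_ hU
    rw [← orderOf_eq_prime (show β w w' ^ 3 = 1 by
      rw [← hβ.pow_left, ← hw, pow_orderOf_eq_one, hβ.one_left]) hw']
    exact orderOf_dvd_natCard _
  · rintro rfl
    refine ⟨E, hEn, hUE, hEC, hWidx, fun x hx => ?_, fun c hc h => ?_⟩
    · have hw : (((⟨x, hx⟩ : E) : W)) ^ (2 * 2) = 1 := he ▸ pow_card_eq_one'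
      rw [← QuotientGroup.mk_pow, QuotientGroup.eq_one_iff, Subgroup.mem_subgroupOf, Subgroup.coe_pow] at hw
      rw [← pow_two]
      exact hsqf 2 Nat.prime_two x hx hw
    · have hcL : c ∈ L := ⟨hc, fun y hy => by
        rw [show y * c * y⁻¹ * c⁻¹ = (c * y * c⁻¹ * y⁻¹)⁻¹ by group]; exact inv_mem (h y hy)⟩
      have heq : U.relIndex L = U.relIndex E := le_antisymm (hL.trans_eq hWidx.symm)
        (Subgroup.relIndex_le_of_le_right hEL Subgroup.index_ne_zero_of_finite)
      have h1 : E.relIndex L = 1 := by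
        have := Subgroup.relIndex_mul_relIndex U E L hUE hEL
        rw [heq] at this
        exact (Nat.mul_eq_left Subgroup.index_ne_zero_of_finite).1 this
      exact Subgroup.relIndex_eq_one.1 h1 hcL

end CfsgLib.ClassPSq
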