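import Cfsg.Agent.Lib.ClassNumberPSq.PairingBasic
import Mathlib.Tactic.IntervalCases
import Mathlib.Tactic.Linarith

/-!
The numerical inequalities.
-/

set_option autoImplicit false
set_option linter.unusedSectionVars false

namespace CfsgLib.ClassPSq

theorem maxPrime_small : maxPrime 2 = 2 ∧ maxPrime 3 = 3 ∧ maxPrime 4 = 2 ∧ maxPrime 5 = 5 ∧
    maxPrime 6 = 3 ∧ maxPrime 7 = 7 ∧ maxPrime 8 = 2 := by
  have key : ∀ e q : ℕ, 1 < e → q.Prime → q ∣ e → (∀ r, r.Prime → r ∣ e → r ≤ q) → maxPrime e = q := by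
    intro e q he hq hqe hle
    obtain ⟨h1, h2⟩ := maxPrime_spec he
    refine le_antisymm (hle _ h1 h2) ?_
    exact Finset.le_sup (f := id) (Nat.mem_primeFactors.2 ⟨hq, hqe, by omega⟩)
  have hs : ∀ e r : ℕ, 1 < e → r ∣ e → r ≤ e := fun e r he h => Nat.le_of_dvd (by omega) h
  refine ⟨key 2 2 ?_ ?_ ?_ ?_, key 3 3 ?_ ?_ ?_ ?_, key 4 2 ?_ ?_ ?_ ?_, key 5 5 ?_ ?_ ?_ ?_,
    key 6 3 ?_ ?_ ?_ ?_, key 7 7 ?_ ?_ ?_ ?_, key 8 2 ?_ ?_ ?_ ?_⟩
  all_goals first
    | norm_num; done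
    | intro r hr h
      have := hs _ r (by norm_num) h
      interval_cases r <;> first | omega | (norm_num at hr)

theorem Bd_small : Bd 0 = 1 ∧ Bd 1 = 1 ∧ Bd 2 = 6 ∧ Bd 3 = 24 ∧ Bd 4 = 720 ∧ Bd 5 = 120 ∧ Bd 6 = 2520 ∧
    Bd 7 = 336 ∧ Bd 8 = 1451520 := by
  obtain ⟨m2, m3, m4, m5, m6, m7, m8⟩ := maxPrime_small
  have b0 : Bd 0 = 1 := by rw [Bd]; simp
  have b1 : Bd 1 = 1 := by rw [Bd]; simp
  have b2 : Bd 2 = 6 := by rw [Bd, dif_pos (by norm_num), m2]; norm_num [b1]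
  have b3 : Bd 3 = 24 := by rw [Bd, dif_pos (by norm_num), m3]; norm_num [b1]
  have b4 : Bd 4 = 720 := by rw [Bd, dif_pos (by norm_num), m4]; norm_num [b2]
  have b5 : Bd 5 = 120 := by rw [Bd, dif_pos (by norm_num), m5]; norm_num [b1]
  have b6 : Bd 6 = 2520 := by rw [Bd, dif_pos (by norm_num), m6]; norm_num [b2]
  have b7 : Bd 7 = 336 := by rw [Bd, dif_pos (by norm_num), m7]; norm_num [b1]
  have b8 : Bd 8 = 1451520 := by rw [Bd, dif_pos (by norm_num), m8]; norm_num [b4]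
  exact ⟨b0, b1, b2, b3, b4, b5, b6, b7, b8⟩

theorem Bd_step {e : ℕ} (he : 2 ≤ e) : ∃ f, f ≤ e / 2 ∧ 2 * Bd e ≤ e ^ 4 * Bd f := by
  obtain ⟨hq, hqe⟩ := maxPrime_spec (show 1 < e by omega)
  refine ⟨e / maxPrime e, Nat.div_le_div_left hq.two_le (by norm_num), ?_⟩
  rw [Bd, dif_pos (by omega)]
  have h1 : 2 * (e * e / maxPrime e) ≤ e * e :=
    le_trans (Nat.mul_le_mul_right _ hq.two_le) (Nat.mul_div_le _ _)
  calc 2 * ((e * e - 1) * (e * e / maxPrime e) * Bd (e / maxPrime e))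
      = (e * e - 1) * (2 * (e * e / maxPrime e)) * Bd (e / maxPrime e) := by ring
    _ ≤ (e * e) * (e * e) * Bd (e / maxPrime e) :=
        Nat.mul_le_mul_right _ (Nat.mul_le_mul (Nat.sub_le _ _) h1)
    _ = e ^ 4 * Bd (e / maxPrime e) := by ring

theorem six_pow_le {g : ℕ} (hg : 9 ≤ g) : 32 * g ^ 6 ≤ 11 ^ g := by
  induction g, hg using Nat.le_induction with
  | base => norm_num
  | succ g hg ih =>
    have h6 : (g + 1) ^ 6 ≤ 11 * g ^ 6 := by
      have h1 : (9 * (g + 1)) ^ 6 ≤ (10 * g) ^ 6 := Nat.pow_le_pow_left (by omega) 6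
      rw [mul_pow, mul_pow] at h1
      omega
    calc 32 * (g + 1) ^ 6 ≤ 11 * (32 * g ^ 6) := by omega
      _ ≤ 11 * 11 ^ g := Nat.mul_le_mul_left _ ih
      _ = _ := by ring

/-- Beyond eight the index is small against the space. -/
theorem Bd_large : ∀ e : ℕ, 9 ≤ e → e * e * Bd e ≤ 17 * 11 ^ (e - 2) := by
  intro e
  induction e using Nat.strong_induction_on with
  | _ e ih =>
    intro he
    obtain ⟨f, hf, hB⟩ := Bd_step (e := e) (by omega)
    have hmain : 2 * (e * e * Bd e) ≤ e ^ 6 * Bd f := by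
      calc 2 * (e * e * Bd e) = e * e * (2 * Bd e) := by ring
        _ ≤ e * e * (e ^ 4 * Bd f) := Nat.mul_le_mul_left _ hB
        _ = _ := by ring
    obtain ⟨b0, b1, b2, b3, b4, b5, b6, b7, b8⟩ := Bd_small
    rcases Nat.lt_or_ge f 9 with hf9 | hf9
    · rcases Nat.lt_or_ge e 16 with he16 | he16
      · rcases Nat.eq_or_lt_of_le he with rfl | he10
        · have hb : Bd f ≤ 720 := by interval_cases f <;> omega
          have := hmain.trans (Nat.mul_le_mul_left _ hb)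
          norm_num at this ⊢
          omega
        · have hb : Bd f ≤ 2520 := by interval_cases f <;> omega
          have := hmain.trans (Nat.mul_le_mul_left _ hb)
          interval_cases e <;> norm_num at this ⊢ <;> omega
      · have hb : Bd f ≤ 1451520 := by interval_cases f <;> omega
        have key : ∀ m, 16 ≤ m → m ^ 6 * 1451520 ≤ 2 * (17 * 11 ^ (m - 2)) := by
          intro m hm
          induction m, hm using Nat.le_induction with
          | base => norm_num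
          | succ m hm ihm =>
            rw [show m + 1 - 2 = m - 2 + 1 by omega, pow_succ]
            have h6 : (m + 1) ^ 6 ≤ 11 * m ^ 6 := by
              have h1 : (9 * (m + 1)) ^ 6 ≤ (10 * m) ^ 6 := Nat.pow_le_pow_left (by omega) 6
              rw [mul_pow, mul_pow] at h1
              omega
            calc (m + 1) ^ 6 * 1451520 ≤ 11 * (m ^ 6 * 1451520) :=
                  (Nat.mul_le_mul_right _ h6).trans_eq (mul_assoc _ _ _)
              _ ≤ 11 * (2 * (17 * 11 ^ (m - 2))) := Nat.mul_le_mul_left _ ihm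
              _ = _ := by ring
        have := (hmain.trans (Nat.mul_le_mul_left _ hb)).trans (key e he16)
        omega
    · have h2 := ih f (by omega) hf9
      have hff : Bd f ≤ 17 * 11 ^ (f - 2) :=
        le_trans (Nat.le_mul_of_pos_left _ (Nat.mul_pos (by omega) (by omega))) h2
      have hg := six_pow_le (g := e - f) (by omega)
      have hle : e ^ 6 ≤ 64 * (e - f) ^ 6 := by
        calc e ^ 6 ≤ (2 * (e - f)) ^ 6 := Nat.pow_le_pow_left (by omega) 6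
          _ = _ := by ring
      have : 2 * (e * e * Bd e) ≤ 2 * (17 * 11 ^ (e - 2)) := by
        calc 2 * (e * e * Bd e) ≤ e ^ 6 * Bd f := hmain
          _ ≤ 64 * (e - f) ^ 6 * (17 * 11 ^ (f - 2)) := Nat.mul_le_mul hle hff
          _ ≤ 2 * 11 ^ (e - f) * (17 * 11 ^ (f - 2)) :=
              Nat.mul_le_mul_right _ (by omega)
          _ = 2 * (17 * (11 ^ (e - f) * 11 ^ (f - 2))) := by ring
          _ = _ := by rw [← pow_add, show e - f + (f - 2) = e - 2 by omega]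
      omega

/-- From the uniform bound on the index to the first inequality. -/
theorem first_of_le {p e M : ℕ} (hp : 11 ≤ p) (he : 2 ≤ e) (hM : 2 ≤ M) (h : M ≤ 17 * 11 ^ (e - 2)) :
    M * M ≤ p ^ (e - 1) * (3 * M - 2) := by
  have hx : 11 ^ (e - 2) ≤ p ^ (e - 2) := Nat.pow_le_pow_left hp _
  have h1 : 11 * p ^ (e - 2) ≤ p ^ (e - 1) := by
    rw [show e - 1 = e - 2 + 1 by omega, pow_succ, mul_comm]
    exact Nat.mul_le_mul_left _ hp
  have h1' : 1 ≤ p ^ (e - 2) := Nat.one_le_pow _ _ (by omega)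
  obtain ⟨m, rfl⟩ := Nat.exists_eq_add_of_le hM
  rw [show 3 * (2 + m) - 2 = 3 * m + 4 by omega]
  nlinarith [hx, h, h1, h1']

/-- From the uniform bound on the index to the second inequality. -/
theorem second_of_le {p e M : ℕ} (hp : 11 ≤ p) (he : 3 ≤ e) (hM : 2 ≤ M) (h : M ≤ 17 * 11 ^ (e - 2)) :
    2401 * p ^ 2 * (M * M) ≤ 14400 * (p ^ e - 1) * (3 * M - 2) := by
  have hx : 11 ^ (e - 2) ≤ p ^ (e - 2) := Nat.pow_le_pow_left hp _
  have hpe : p ^ e = p ^ 2 * p ^ (e - 2) := by rw [← pow_add, show 2 + (e - 2) = e by omega]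
  have hbig : 121 ≤ p ^ e :=
    le_trans (by nlinarith) (Nat.pow_le_pow_right (show 1 ≤ p by omega) (show 2 ≤ e by omega))
  obtain ⟨P, hP⟩ := Nat.exists_eq_add_of_le (show 1 ≤ p ^ e by omega)
  obtain ⟨m, rfl⟩ := Nat.exists_eq_add_of_le hM
  rw [show 3 * (2 + m) - 2 = 3 * m + 4 by omega, show p ^ e - 1 = P by omega]
  -- `6 M * M ≤ 35 x (3 M - 2)`
  have h1 : 6 * ((2 + m) * (2 + m)) ≤ 35 * p ^ (e - 2) * (3 * m + 4) := by
    have h11 : 11 ≤ p ^ (e - 2) :=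
      hp.trans (Nat.le_self_pow (by omega) p)
    have h2M : 2 * (3 + m) ≤ 35 * p ^ (e - 2) := by omega
    have := Nat.mul_le_mul_right (3 * m + 4) h2M
    nlinarith
  have h2 : 84035 * p ^ e ≤ 86400 * P := by omega
  have h3 : 6 * (2401 * p ^ 2 * ((2 + m) * (2 + m))) ≤ 6 * (14400 * P * (3 * m + 4)) := by
    calc 6 * (2401 * p ^ 2 * ((2 + m) * (2 + m))) = 2401 * p ^ 2 * (6 * ((2 + m) * (2 + m))) := by ring
      _ ≤ 2401 * p ^ 2 * (35 * p ^ (e - 2) * (3 * m + 4)) := Nat.mul_le_mul_left _ h1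
      _ = 84035 * p ^ e * (3 * m + 4) := by rw [hpe]; ring
      _ ≤ 86400 * P * (3 * m + 4) := Nat.mul_le_mul_right _ h2
      _ = _ := by ring
  omega

/-- The bound `M * M / (3 M - 2)` is monotone. -/
theorem ratio_mono {M B : ℕ} (hM : 1 ≤ M) (h : M ≤ B) : M * M * (3 * B - 2) ≤ B * B * (3 * M - 2) := by
  obtain ⟨m, rfl⟩ := Nat.exists_eq_add_of_le hM
  obtain ⟨k, rfl⟩ := Nat.exists_eq_add_of_le h
  rw [show 3 * (1 + m + k) - 2 = 3 * (m + k) + 1 by omega, show 3 * (1 + m) - 2 = 3 * m + 1 by omega]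
  rcases Nat.eq_zero_or_pos (m + k) with h0 | h0
  · obtain ⟨rfl, rfl⟩ : m = 0 ∧ k = 0 := by omega
    norm_num
  · nlinarith [h0, Nat.zero_le (m * m * k), Nat.zero_le (m * k * k), Nat.zero_le (k * (m + k))]

theorem tau_sq {p t τ : ℕ} (hp : 11 ≤ p) (ht : 2 ≤ t) (h3 : 3 * τ ≤ 3 ^ t) (hf : τ ≤ t.factorial) :
    10 * τ ^ 2 ≤ 59 * p ^ (t - 2) := by
  have hx : 11 ^ (t - 2) ≤ p ^ (t - 2) := Nat.pow_le_pow_left hp _
  refine le_trans ?_ (Nat.mul_le_mul_left _ hx)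
  rcases Nat.lt_or_ge t 5 with h | h
  · interval_cases t <;> norm_num [Nat.factorial] at hf ⊢ <;> nlinarith
  · have hτ : τ ≤ 3 ^ (t - 1) := by
      rw [show t = t - 1 + 1 by omega, pow_succ] at h3
      omega
    have key : ∀ m, 5 ≤ m → 10 * 9 ^ (m - 1) ≤ 59 * 11 ^ (m - 2) := by
      intro m hm
      induction m, hm using Nat.le_induction with
      | base => norm_num
      | succ m hm ih =>
        rw [show m + 1 - 1 = m - 1 + 1 by omega, show m + 1 - 2 = m - 2 + 1 by omega, pow_succ, pow_succ]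
        omega
    calc 10 * τ ^ 2 ≤ 10 * (3 ^ (t - 1)) ^ 2 := Nat.mul_le_mul_left _ (Nat.pow_le_pow_left hτ 2)
      _ = 10 * 9 ^ (t - 1) := by rw [← pow_mul, mul_comm (t - 1) 2, pow_mul]; norm_num
      _ ≤ _ := key t h

theorem tau_first {p t τ : ℕ} (hp : 11 ≤ p) (ht : 2 ≤ t) (h3 : 3 * τ ≤ 3 ^ t) : τ ^ 2 ≤ p ^ (t - 1) := by
  have hτ : τ ≤ 3 ^ (t - 1) := by
    rw [show t = t - 1 + 1 by omega, pow_succ] at h3
    omega
  calc τ ^ 2 ≤ (3 ^ (t - 1)) ^ 2 := Nat.pow_le_pow_left hτ 2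
    _ = 9 ^ (t - 1) := by rw [← pow_mul, mul_comm (t - 1) 2, pow_mul]; norm_num
    _ ≤ _ := Nat.pow_le_pow_left (by omega) _

theorem sq_le_pow {p : ℕ} (hp : 4 ≤ p) : ∀ a : ℕ, 1 ≤ a → a ^ 2 ≤ p ^ (a - 1) := by
  intro a ha
  refine le_trans ?_ (Nat.pow_le_pow_left hp _)
  induction a, ha using Nat.le_induction with
  | base => norm_num
  | succ a ha ih =>
    rw [show a + 1 - 1 = a - 1 + 1 by omega, pow_succ (4 : ℕ)]
    nlinarith

/-- The extremal case. -/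
theorem extremal {p z K : ℕ} (hz : 2 ∣ z) (hz0 : 0 < z) (hdvd : z ∣ p - 1) (hp : 2 ≤ p)
    (h : 96 * z * z + (p ^ 2 - 1) ≤ K * (24 * z)) : 49 * p ≤ 60 * K := by
  obtain ⟨d, hd⟩ := hdvd
  obtain rfl : p = z * d + 1 := by omega
  by_contra hlt
  push Not at hlt
  obtain ⟨w, rfl⟩ := hz
  have hsq : (2 * w * d + 1) ^ 2 - 1 = 4 * w * w * d * d + 4 * w * d := by
    rw [show (2 * w * d + 1) ^ 2 = 4 * w * w * d * d + 4 * w * d + 1 by ring]; omega
  rw [hsq] at h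
  rcases Nat.lt_or_ge d 10 with hd' | hd'
  · interval_cases d
    all_goals
      first
        | omega
        | nlinarith
        | (rcases Nat.lt_or_ge w 2 with h2 | h2
           · interval_cases w <;> omega
           · nlinarith)
  · obtain ⟨m, rfl⟩ := Nat.exists_eq_add_of_le hd'
    have hk : 48 * w * (60 * K) ≤ 48 * w * (98 * w * (10 + m) + 48) :=
      Nat.mul_le_mul_left _ (by linarith)
    have : 0 ≤ w * w * (5 * (m * m) + 2 * m) := Nat.zero_le _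
    nlinarith [this, hk, h, Nat.zero_le (w * m)]

/-- The first inequality from a crude bound on the index. -/
theorem first_crude {x M : ℕ} (hM : 2 ≤ M) (h : M + 1 ≤ 3 * x) : M * M ≤ x * (3 * M - 2) := by
  obtain ⟨m, rfl⟩ := Nat.exists_eq_add_of_le hM
  obtain ⟨k, hk⟩ := Nat.exists_eq_add_of_le h
  rw [show 3 * (2 + m) - 2 = 3 * m + 4 by omega]
  have : (3 * x) * (3 * m + 4) = (2 + m + 1 + k) * (3 * m + 4) := by rw [hk]
  nlinarith [Nat.zero_le (k * m)]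

/-- The second inequality passes to smaller indices. -/
theorem core_mono {p E M B : ℕ} (hM : 1 ≤ M) (h : M ≤ B)
    (hB : 2401 * p ^ 2 * (B * B) ≤ 14400 * (p ^ E - 1) * (3 * B - 2)) :
    2401 * p ^ 2 * (M * M) ≤ 14400 * (p ^ E - 1) * (3 * M - 2) := by
  refine Nat.le_of_mul_le_mul_right ?_ (show 0 < 3 * B - 2 by omega)
  calc 2401 * p ^ 2 * (M * M) * (3 * B - 2) = 2401 * p ^ 2 * (M * M * (3 * B - 2)) := by ring
    _ ≤ 2401 * p ^ 2 * (B * B * (3 * M - 2)) := Nat.mul_le_mul_left _ (ratio_mono hM h)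
    _ = 2401 * p ^ 2 * (B * B) * (3 * M - 2) := by ring
    _ ≤ 14400 * (p ^ E - 1) * (3 * B - 2) * (3 * M - 2) := Nat.mul_le_mul_right _ hB
    _ = _ := by ring

theorem core_two {p : ℕ} (hp : 11 ≤ p) :
    2401 * p ^ 2 * (17 * 17) ≤ 14400 * (p ^ 2 - 1) * (3 * 17 - 2) := by
  have : 121 ≤ p ^ 2 := le_trans (by norm_num) (Nat.pow_le_pow_left hp 2)
  omega

theorem core_two' {p : ℕ} (hp : 11 ≤ p) :
    2401 * p ^ 2 * (24 * 24) ≤ 14400 * (p ^ 3 - 1) * (3 * 24 - 2) := by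
  have : 121 ≤ p ^ 2 := le_trans (by norm_num) (Nat.pow_le_pow_left hp 2)
  have h3 : 11 * p ^ 2 ≤ p ^ 3 := by rw [pow_succ p 2, mul_comm (p ^ 2) p]; exact Nat.mul_le_mul_right _ hp
  omega

theorem core_three {p : ℕ} (hp : 13 ≤ p) :
    2401 * p ^ 2 * (216 * 216) ≤ 14400 * (p ^ 3 - 1) * (3 * 216 - 2) := by
  have : 169 ≤ p ^ 2 := le_trans (by norm_num) (Nat.pow_le_pow_left hp 2)
  have h3 : 13 * p ^ 2 ≤ p ^ 3 := by rw [pow_succ p 2, mul_comm (p ^ 2) p]; exact Nat.mul_le_mul_right _ hp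
  omega

theorem core_four {p : ℕ} (hp : 13 ≤ p) :
    2401 * p ^ 2 * (2304 * 2304) ≤ 14400 * (p ^ 4 - 1) * (3 * 2304 - 2) := by
  have : 169 ≤ p ^ 2 := le_trans (by norm_num) (Nat.pow_le_pow_left hp 2)
  have h4 : 169 * p ^ 2 ≤ p ^ 4 := by rw [show p ^ 4 = p ^ 2 * p ^ 2 by ring]; exact Nat.mul_le_mul_right _ this
  omega

/-- Raising the exponent pays for the factor `a`. -/
theorem scale {p a E n : ℕ} (ha : 1 ≤ a) (h : a * a * p ^ E ≤ p ^ n) :
    a * a * (p ^ E - 1) ≤ p ^ n - 1 := by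
  rw [Nat.mul_sub, mul_one]
  have := Nat.mul_pos ha ha
  omega

theorem scale_same {p a d e : ℕ} (hp : 4 ≤ p) (ha : 1 ≤ a) (he : 1 ≤ e) (hed : e ≤ d) :
    a * a * p ^ e ≤ p ^ (a * d) := by
  have h := sq_le_pow hp a ha
  rw [pow_two] at h
  refine (Nat.mul_le_mul_right _ h).trans ?_
  rw [← pow_add]
  refine Nat.pow_le_pow_right (by omega) ?_
  obtain ⟨b, rfl⟩ := Nat.exists_eq_add_of_le ha
  have hb : b ≤ b * d := Nat.le_mul_of_pos_right b (by omega)
  rw [add_mul, one_mul]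
  omega

theorem scale_succ {p a d e : ℕ} (hp : 4 ≤ p) (ha : 1 ≤ a) (he : 2 ≤ e) (hed : e ≤ d)
    (h : 2 ≤ a ∨ e + 1 ≤ d) : a * a * p ^ (e + 1) ≤ p ^ (a * d) := by
  rcases Nat.eq_or_lt_of_le ha with rfl | ha2
  · simpa using Nat.pow_le_pow_right (show 1 ≤ p by omega) (show e + 1 ≤ d by omega)
  have h' := sq_le_pow hp a ha
  rw [pow_two] at h'
  refine (Nat.mul_le_mul_right _ h').trans ?_
  rw [← pow_add]
  refine Nat.pow_le_pow_right (by omega) ?_
  obtain ⟨b, rfl⟩ := Nat.exists_eq_add_of_le ha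
  have hb : b * 2 ≤ b * d := Nat.mul_le_mul_left _ (by omega)
  rw [add_mul, one_mul]
  omega

theorem scale_one {p a n : ℕ} (hp : 11 ≤ p) (ha : 1 ≤ a) (han : a ≤ n) (hn : 2 ≤ n) :
    a * a * p ^ 2 ≤ 4 * p ^ n := by
  rcases Nat.eq_or_lt_of_le ha with rfl | ha2
  · calc 1 * 1 * p ^ 2 ≤ p ^ n := by simpa using Nat.pow_le_pow_right (show 1 ≤ p by omega) hn
      _ ≤ 4 * p ^ n := Nat.le_mul_of_pos_left _ (by norm_num)
  have key : ∀ b, 2 ≤ b → b * b ≤ 4 * p ^ (b - 2) := by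
    intro b hb
    induction b, hb using Nat.le_induction with
    | base => norm_num
    | succ b hb ih =>
      rw [show b + 1 - 2 = b - 2 + 1 by omega, pow_succ]
      have h1 : 11 * p ^ (b - 2) ≤ p ^ (b - 2) * p := by rw [mul_comm]; exact Nat.mul_le_mul_left _ hp
      nlinarith
  calc a * a * p ^ 2 ≤ 4 * p ^ (a - 2) * p ^ 2 := Nat.mul_le_mul_right _ (key a ha2)
    _ = 4 * p ^ a := by rw [mul_assoc, ← pow_add, show a - 2 + 2 = a by omega]
    _ ≤ _ := Nat.mul_le_mul_left _ (Nat.pow_le_pow_right (by omega) han)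

/-- The arithmetic-geometric mean step. -/
theorem amgm {p h K k X : ℕ} (hh : 0 < h) (h2 : 2401 * p ^ 2 * h ≤ 14400 * X * K)
    (hk : K * h + X ≤ k * h) : 49 * p ≤ 60 * k := by
  refine Nat.le_of_mul_le_mul_right ?_ hh
  refine Nat.mul_self_le_mul_self_iff.1 ?_
  have h1 : (K * h + X) * (K * h + X) ≤ (k * h) * (k * h) := Nat.mul_le_mul hk hk
  have h3 := Nat.mul_le_mul_right h h2
  zify at h1 h3 ⊢
  nlinarith [sq_nonneg ((K : ℤ) * h - X)]

end CfsgLib.ClassPSq
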