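import Cfsg.Agent.Lib.ClassNumberPSq.Count
import Mathlib.GroupTheory.Perm.Cycle.Type
import Mathlib.Tactic.Group

/-!
The class number of a central extension of the symmetric group of degree four with a quaternion
layer.
-/

set_option autoImplicit false
set_option linter.unusedSectionVars false

namespace CfsgLib.ClassPSq

open Subgroup

section quotient

variable {Q : Type*} [Group Q] [Finite Q] {K : Subgroup Q}

/-- Elements of order three and elements of cyclic subgroups of order four. -/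
theorem order_counts (hKn : K.Normal) (hQ : Nat.card Q = 24) (hK : Nat.card K = 4)
    (hsq : ∀ k ∈ K, k * k = 1) (hself : ∀ q : Q, (∀ k ∈ K, q * k = k * q) → q ∈ K) :
    ∃ T F : Finset Q, T.card = 8 ∧ F.card = 9 ∧ (∀ q ∈ T, orderOf q = 3) ∧
      (∀ q ∈ F, q ≠ 1 ∧ orderOf q ≠ 3 ∧ ∃ r, orderOf r = 4 ∧ q ∈ zpowers r) := by
  classical
  have := Fintype.ofFinite Q
  have := Fintype.ofFinite K
  have : Fact (Nat.Prime 3) := ⟨Nat.prime_three⟩
  have : Fact (Nat.Prime 2) := ⟨Nat.prime_two⟩
  have h3 : ∀ {t : Q}, orderOf t = 3 → t * t * t = 1 := fun {t} h => by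
    have := pow_orderOf_eq_one t
    rwa [h, pow_succ, pow_two] at this
  have hK3 : ∀ {t : Q}, orderOf t = 3 → t ∉ K := fun {t} h ht => by
    have := orderOf_dvd_natCard K ht
    rw [h, hK] at this
    norm_num at this
  -- the fourth element
  have hcomm : ∀ k ∈ K, ∀ l ∈ K, k * l = l * k := fun k hk l hl => by
    rw [← inv_eq_of_mul_eq_one_right (hsq _ (mul_mem hk hl)), mul_inv_rev,
      inv_eq_of_mul_eq_one_right (hsq l hl), inv_eq_of_mul_eq_one_right (hsq k hk)]
  have hfour : ∀ {a b c : Q}, a ∈ K → a ≠ 1 → b ∈ K → b ≠ 1 → b ≠ a → c ∈ K →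
      c = 1 ∨ c = a ∨ c = b ∨ c = a * b := fun {a b c} ha ha1 hb hb1 hne hc => by
    have hab : a * b ≠ 1 := fun e => hne (by rw [← hsq a ha] at e; exact mul_left_cancel e)
    let s : Finset K := {1, ⟨a, ha⟩, ⟨b, hb⟩, ⟨a * b, mul_mem ha hb⟩}
    have hs : s.card = 4 := by
      rw [Finset.card_eq_four]
      exact ⟨_, _, _, _, by simp [Subtype.ext_iff, Ne.symm ha1], by simp [Subtype.ext_iff, Ne.symm hb1],
        by simp [Subtype.ext_iff, Ne.symm hab], by simp [Subtype.ext_iff, Ne.symm hne],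
        by simp [Subtype.ext_iff, hb1], by simp [Subtype.ext_iff, ha1], rfl⟩
    have hm : (⟨c, hc⟩ : K) ∈ s := by
      rw [Finset.eq_univ_of_card s (by rw [hs, ← Nat.card_eq_fintype_card, hK])]
      exact Finset.mem_univ _
    simpa [s, Subtype.ext_iff] using hm
  obtain ⟨t, ht⟩ := exists_prime_orderOf_dvd_card' (G := Q) 3 (by rw [hQ]; norm_num)
  have htc : t * t * t = 1 := h3 ht
  have hconj : ∀ {g k : Q}, k ∈ K → g * k * g⁻¹ ∈ K := fun {g k} hk => hKn.conj_mem k hk g
  have hfpf : ∀ k ∈ K, t * k = k * t → k = 1 := by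
    intro k hk hc
    by_contra hk1
    refine hK3 ht (hself t fun l hl => ?_)
    by_cases h1 : l = 1
    · rw [h1, mul_one, one_mul]
    by_cases h2 : l = k
    · rw [h2]; exact hc
    set l' := t * l * t⁻¹ with hl'
    have hkfix : t * k * t⁻¹ = k := by rw [hc, mul_inv_cancel_right]
    rcases hfour hk hk1 hl h1 h2 (hconj (g := t) hl) with e | e | e | e
    · exact absurd (conj_eq_one_iff.1 e) h1
    · exact absurd (mul_left_cancel (mul_right_cancel (e.trans hkfix.symm))) h2
    · exact mul_inv_eq_iff_eq_mul.1 e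
    · exfalso
      -- three steps give back the wrong element
      have e2 : t * (k * l) * t⁻¹ = l := by
        rw [show t * (k * l) * t⁻¹ = (t * k * t⁻¹) * (t * l * t⁻¹) by group, hkfix, e, ← mul_assoc,
          hsq k hk, one_mul]
      have e3 : t * t * t * l * (t * t * t)⁻¹ = k * l := by
        calc t * t * t * l * (t * t * t)⁻¹ = t * (t * (t * l * t⁻¹) * t⁻¹) * t⁻¹ := by group
          _ = _ := by rw [e, e2, e]
      rw [htc, one_mul, inv_one, mul_one] at e3
      exact hk1 (mul_eq_right.1 e3.symm)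
  -- elements of order three
  let f : K × Bool → Q := fun v => (v.1 : Q) * (cond v.2 t t⁻¹) * (v.1 : Q)⁻¹
  have hf : Function.Injective f := by
    rintro ⟨k, b⟩ ⟨l, c⟩ e
    have e' : (k : Q) * (cond b t t⁻¹) * (k : Q)⁻¹ = (l : Q) * (cond c t t⁻¹) * (l : Q)⁻¹ := e
    set m : Q := (l : Q)⁻¹ * k
    have hm : m ∈ K := mul_mem (inv_mem l.2) k.2
    have e2 : m * (cond b t t⁻¹) * m⁻¹ = cond c t t⁻¹ := by
      calc m * (cond b t t⁻¹) * m⁻¹ = (l : Q)⁻¹ * ((k : Q) * (cond b t t⁻¹) * (k : Q)⁻¹) * l := by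
            simp only [m]; group
        _ = _ := by rw [e']; group
    have hbc : b = c := by
      by_contra hne
      refine hK3 ht ?_
      have hx : m * (cond b t t⁻¹) * m⁻¹ * (cond b t t⁻¹)⁻¹ ∈ K := by
        rw [show m * (cond b t t⁻¹) * m⁻¹ * (cond b t t⁻¹)⁻¹ =
          m * ((cond b t t⁻¹) * m⁻¹ * (cond b t t⁻¹)⁻¹) by group]
        exact mul_mem hm (hconj (inv_mem hm))
      rw [e2] at hx
      cases b <;> cases c <;> simp at hne hx
      · rw [show t = (t * t)⁻¹ from (inv_eq_of_mul_eq_one_right htc).symm]; exact inv_mem hx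
      · rw [show t = (t⁻¹ * t⁻¹) from (by
          rw [← mul_inv_rev]; exact (inv_eq_of_mul_eq_one_right htc).symm)]; exact hx
    subst hbc
    have hcm : t * m = m * t := by
      have : m * (cond b t t⁻¹) = (cond b t t⁻¹) * m := mul_inv_eq_iff_eq_mul.1 e2
      cases b
      · exact ((show Commute m t⁻¹ from this).inv_right.eq.symm.trans (by rw [inv_inv])) |> fun h => by
          simpa using h
      · exact this.symm
    have := hfpf m hm hcm
    exact Prod.ext (Subtype.ext (inv_mul_eq_one.1 this).symm) rfl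
  -- an element of order four
  obtain ⟨r, hr, hrK⟩ : ∃ r, orderOf r = 4 ∧ r * r ∈ K := by
    let π := QuotientGroup.mk' K
    obtain ⟨sb, hsb⟩ := exists_prime_orderOf_dvd_card' (G := Q ⧸ K) 2 (by
      have := K.card_eq_card_quotient_mul_card_subgroup
      rw [hQ, hK] at this
      omega)
    obtain ⟨s, rfl⟩ := QuotientGroup.mk_surjective sb
    have hsK : s ∉ K := fun h => by
      rw [(QuotientGroup.eq_one_iff s).2 h, orderOf_one] at hsb; norm_num at hsb
    have hssK : s * s ∈ K := (QuotientGroup.eq_one_iff _).1 (by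
      rw [QuotientGroup.mk_mul, ← pow_two, ← hsb, pow_orderOf_eq_one])
    have ho : ∀ {x : Q}, x * x ≠ 1 → x * x ∈ K → orderOf x = 4 := fun {x} h hk =>
      orderOf_eq_prime_pow (p := 2) (n := 1) (by simpa [pow_two] using h)
        (by rw [show (2 : ℕ) ^ (1 + 1) = 2 * 2 from rfl, pow_mul, pow_two, pow_two]; exact hsq _ hk)
    by_cases hs1 : s * s = 1
    · obtain ⟨k, hk, hne⟩ : ∃ k ∈ K, s * k ≠ k * s := by
        by_contra h
        push Not at h
        exact hsK (hself s h)
      refine ⟨s * k, ho (fun e => hne ?_) ?_, ?_⟩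
      · have h1 := eq_inv_of_mul_eq_one_left e
        rw [mul_inv_rev, inv_eq_of_mul_eq_one_right (hsq k hk), inv_eq_of_mul_eq_one_right hs1] at h1
        exact h1
      all_goals
        rw [show s * k * (s * k) = (s * k * s⁻¹) * (s * s) * k by group, hs1, mul_one]
        exact mul_mem (hconj hk) hk
    · exact ⟨s, ho hs1 hssK, hssK⟩
  have hr2 : r * r ≠ 1 := fun e => by
    have := orderOf_dvd_of_pow_eq_one (show r ^ 2 = 1 by rw [pow_two, e])
    rw [hr] at this; norm_num at this
  have hrnK : r ∉ K := fun h => hr2 (hsq r h)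
  let rr : Fin 3 → Q := fun i => t ^ (i : ℕ) * r * (t ^ (i : ℕ))⁻¹
  have hrr : ∀ i, orderOf (rr i) = 4 := fun i => by
    show orderOf (t ^ (i : ℕ) * r * (t ^ (i : ℕ))⁻¹) = 4
    rw [← MulAut.conj_apply, MulEquiv.orderOf_eq, hr]
  have hrr2 : ∀ i j, rr i * rr i = rr j * rr j → i = j := by
    intro i j e
    have e' : t ^ (i : ℕ) * (r * r) * (t ^ (i : ℕ))⁻¹ = t ^ (j : ℕ) * (r * r) * (t ^ (j : ℕ))⁻¹ := by
      calc t ^ (i : ℕ) * (r * r) * (t ^ (i : ℕ))⁻¹ = rr i * rr i := by simp only [rr]; group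
        _ = rr j * rr j := e
        _ = _ := by simp only [rr]; group
    set g := (t ^ (j : ℕ))⁻¹ * t ^ (i : ℕ) with hg
    have hgc : g * (r * r) = r * r * g := by
      calc g * (r * r) = (t ^ (j : ℕ))⁻¹ * (t ^ (i : ℕ) * (r * r) * (t ^ (i : ℕ))⁻¹) * t ^ (i : ℕ) := by
            rw [hg]; group
        _ = _ := by rw [e', hg]; group
    by_contra hne
    have hgen : t ∈ zpowers g := by
      have hgt : g ∈ zpowers t := mul_mem (inv_mem (pow_mem (mem_zpowers t) _)) (pow_mem (mem_zpowers t) _)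
      have hg1 : g ≠ 1 := fun h1 => hne (Fin.ext (pow_injOn_Iio_orderOf (Set.mem_Iio.2 (by rw [ht]; exact i.2))
        (Set.mem_Iio.2 (by rw [ht]; exact j.2)) (inv_mul_eq_one.1 h1).symm))
      have hz : zpowers g = zpowers t := Subgroup.eq_of_le_of_card_ge (zpowers_le.2 hgt) (by
        have hd : orderOf g ∣ 3 := ht ▸ orderOf_dvd_of_mem_zpowers hgt
        rcases (Nat.dvd_prime Nat.prime_three).1 hd with h | h
        · exact absurd (orderOf_eq_one_iff.1 h) hg1
        · rw [Nat.card_zpowers, Nat.card_zpowers, h, ht])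
      exact hz.symm ▸ mem_zpowers t
    obtain ⟨l, hl⟩ := mem_zpowers_iff.1 hgen
    exact hr2 (hfpf _ hrK (by rw [← hl]; exact ((show Commute g (r * r) from hgc).zpow_left l).eq))
  let g : Fin 3 × Fin 3 → Q := fun v => rr v.1 ^ ((v.2 : ℕ) + 1)
  have hgmem : ∀ v, g v ≠ 1 ∧ orderOf (g v) ≠ 3 := by
    rintro ⟨i, j⟩
    have hd : orderOf (g (i, j)) ∣ 4 := hrr i ▸ orderOf_pow_dvd _
    refine ⟨fun e => ?_, fun e => by rw [e] at hd; norm_num at hd⟩
    have := orderOf_dvd_of_pow_eq_one e
    rw [hrr] at this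
    have := Nat.le_of_dvd (by omega) this
    simp only at this
    omega
  have hg : Function.Injective g := by
    rintro ⟨i, j⟩ ⟨i', j'⟩ e
    have e' : rr i ^ ((j : ℕ) + 1) = rr i' ^ ((j' : ℕ) + 1) := e
    have hi : i = i' := by
      by_cases hj : (j : ℕ) = 1
      · by_cases hj' : (j' : ℕ) = 1
        · refine hrr2 i i' ?_
          rw [hj, hj', pow_two, pow_two] at e'
          exact e'
        · exfalso
          have hK' : rr i' ^ ((j' : ℕ) + 1) ∈ K := by
            rw [← e', hj, pow_two]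
            show t ^ (i : ℕ) * r * (t ^ (i : ℕ))⁻¹ * (t ^ (i : ℕ) * r * (t ^ (i : ℕ))⁻¹) ∈ K
            rw [show t ^ (i : ℕ) * r * (t ^ (i : ℕ))⁻¹ * (t ^ (i : ℕ) * r * (t ^ (i : ℕ))⁻¹) =
              t ^ (i : ℕ) * (r * r) * (t ^ (i : ℕ))⁻¹ by group]
            exact hconj hrK
          have h2 := hsq _ hK'
          rw [← pow_two, ← pow_mul] at h2
          have := orderOf_dvd_of_pow_eq_one h2
          rw [hrr] at this
          have := j'.2
          interval_cases (j' : ℕ) <;> omega
      · have hsq' : ∀ (i : Fin 3) (j : Fin 3), (j : ℕ) ≠ 1 →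
            rr i ^ ((j : ℕ) + 1) * rr i ^ ((j : ℕ) + 1) = rr i * rr i := by
          intro i j hj
          rw [← pow_add, ← pow_two]
          refine pow_eq_pow_iff_modEq.2 ?_
          rw [hrr]
          have := j.2
          interval_cases (j : ℕ) <;> first | rfl | omega
        by_cases hj' : (j' : ℕ) = 1
        · exfalso
          have h2 := congrArg (fun x => x * x) e'
          rw [hsq' i j hj, hj', ← pow_add] at h2
          have h4 : rr i' ^ 4 = 1 := hrr i' ▸ pow_orderOf_eq_one (rr i')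
          rw [show 1 + 1 + (1 + 1) = 4 from rfl, h4] at h2
          have := orderOf_dvd_of_pow_eq_one (show rr i ^ 2 = 1 by rw [pow_two, h2])
          rw [hrr] at this
          norm_num at this
        · refine hrr2 i i' ?_
          rw [← hsq' i j hj, ← hsq' i' j' hj', e']
    subst hi
    have := pow_injOn_Iio_orderOf (x := rr i)
    rw [hrr] at this
    refine Prod.ext rfl (Fin.ext ?_)
    show (j : ℕ) = (j' : ℕ)
    have h1 : (j : ℕ) < 3 := j.isLt
    have h2 : (j' : ℕ) < 3 := j'.isLt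
    have := this (Set.mem_Iio.2 (by omega)) (Set.mem_Iio.2 (by omega)) e'
    omega
  refine ⟨Finset.univ.image f, Finset.univ.image g, ?_, ?_, ?_, ?_⟩
  · rw [Finset.card_image_of_injective _ hf, Finset.card_univ, Fintype.card_prod, Fintype.card_bool,
      ← Nat.card_eq_fintype_card, hK]
  · rw [Finset.card_image_of_injective _ hg, Finset.card_univ, Fintype.card_prod, Fintype.card_fin]
  · intro q hq
    obtain ⟨⟨k, b⟩, -, rfl⟩ := Finset.mem_image.1 hq
    show orderOf ((k : Q) * (cond b t t⁻¹) * (k : Q)⁻¹) = 3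
    rw [← MulAut.conj_apply, MulEquiv.orderOf_eq]
    cases b <;> simp [ht]
  · intro q hq
    obtain ⟨v, -, rfl⟩ := Finset.mem_image.1 hq
    exact ⟨(hgmem v).1, (hgmem v).2, rr v.1, hrr _, pow_mem (mem_zpowers _) _⟩

end quotient

variable {A : Type*} [Group A] [Finite A]

/-- The class number is at least four times the order of the central layer. -/
theorem four_z_le (U E : Subgroup A) (hU : U ≤ center A) (_hUE : U ≤ E) (hEn : E.Normal)
    (h4 : U.relIndex E = 4) (h24 : U.index = 24) (hsq : ∀ x ∈ E, x * x ∈ U)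
    (hker : ∀ c, (∀ x ∈ E, c * x * c⁻¹ * x⁻¹ ∈ U) → c ∈ E) :
    4 * Nat.card U ≤ Nat.card (ConjClasses A) := by
  classical
  have hUn : U.Normal := ⟨fun u hu g => by
    rw [mem_center_iff.1 (hU hu) g, mul_inv_cancel_right]; exact hu⟩
  let π := QuotientGroup.mk' U
  have := Fintype.ofFinite A
  have := Fintype.ofFinite (A ⧸ U)
  obtain ⟨T, F, hT, hF, hT3, hF4⟩ := order_counts (Q := A ⧸ U) (K := E.map π)
    (hEn.map _ (QuotientGroup.mk'_surjective U)) (by rw [← index_eq_card, h24])
    (by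
      have h := Subgroup.relIndex_comap (⊥ : Subgroup (A ⧸ U)) π E
      rw [MonoidHom.comap_bot, QuotientGroup.ker_mk', relIndex_bot_left, h4] at h
      exact h.symm)
    (by
      rintro _ ⟨x, hx, rfl⟩
      rw [← map_mul]; exact (QuotientGroup.eq_one_iff _).2 (hsq x hx))
    (by
      intro q h
      obtain ⟨c, rfl⟩ := QuotientGroup.mk'_surjective U q
      refine ⟨c, hker c fun x hx => (QuotientGroup.eq_one_iff _).1 ?_, rfl⟩
      show π (c * x * c⁻¹ * x⁻¹) = 1
      rw [map_mul, map_mul, map_mul, map_inv, map_inv, h _ ⟨x, hx, rfl⟩, mul_inv_cancel_right, mul_inv_cancel])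
  let w : A ⧸ U → ℕ := fun q => if q = 1 then 24 else if q ∈ F then 4 else if q ∈ T then 3 else 2
  have hbound : ∀ (x : A) (y : A), (x : A ⧸ U) ∈ zpowers (y : A ⧸ U) →
      orderOf (y : A ⧸ U) * Nat.card U ≤ Nat.card ↥(centralizer ({x} : Set A)) := by
    intro x y hxy
    set Y := (zpowers (y : A ⧸ U)).comap π with hY
    have hcard : Nat.card Y = orderOf (y : A ⧸ U) * Nat.card U := by
      have hUY : U ≤ Y := fun u hu => by
        show π u ∈ zpowers (y : A ⧸ U)
        rw [show π u = 1 from (QuotientGroup.eq_one_iff u).2 hu]; exact one_mem _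
      have h := relIndex_mul_relIndex ⊥ U Y bot_le hUY
      simp only [relIndex_bot_left] at h
      have h2 := Subgroup.relIndex_comap (⊥ : Subgroup (A ⧸ U)) π Y
      rw [MonoidHom.comap_bot, QuotientGroup.ker_mk', relIndex_bot_left, hY,
        map_comap_eq_self_of_surjective (QuotientGroup.mk'_surjective U), Nat.card_zpowers, ← hY] at h2
      rw [← h, h2, mul_comm]
    rw [← hcard]
    refine Nat.le_of_dvd Nat.card_pos (card_dvd_of_le ?_)
    have hYc : Y ≤ U ⊔ zpowers y := fun v hv => by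
      obtain ⟨i, hi⟩ := mem_zpowers_iff.1 (show π v ∈ zpowers (y : A ⧸ U) from hv)
      have hm : (y ^ i)⁻¹ * v ∈ U := QuotientGroup.eq.1 (by rw [QuotientGroup.mk_zpow]; exact hi)
      have := mul_mem (mem_sup_right (S := U) (zpow_mem (mem_zpowers y) i)) (mem_sup_left (T := zpowers y) hm)
      rwa [mul_inv_cancel_left] at this
    refine hYc.trans (sup_le (fun u hu => mem_centralizer_singleton_iff.2 (mem_center_iff.1 (hU hu) x).symm) ?_)
    rw [zpowers_le, mem_centralizer_singleton_iff]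
    obtain ⟨i, hi⟩ := mem_zpowers_iff.1 hxy
    have hm : (y ^ i)⁻¹ * x ∈ U := QuotientGroup.eq.1 (by rw [QuotientGroup.mk_zpow]; exact hi)
    have hc : Commute y (y ^ i * ((y ^ i)⁻¹ * x)) :=
      ((Commute.refl y).zpow_right i).mul_right (mem_center_iff.1 (hU hm) y)
    rw [mul_inv_cancel_left] at hc
    exact hc.eq
  have h := central_sum_le U hU (fun x => w (x : A ⧸ U)) (fun x hx => ?_) (fun x hx => ?_)
  · have hsum : ∑ x : A, w (x : A ⧸ U) = Nat.card U * ∑ q : A ⧸ U, w q := by
      rw [← Finset.sum_fiberwise (Finset.univ : Finset A) (fun x => (x : A ⧸ U)) (fun x => w (x : A ⧸ U)),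
        Finset.mul_sum]
      refine Finset.sum_congr rfl fun q _ => ?_
      rw [Finset.sum_congr rfl (fun x hx => by rw [(Finset.mem_filter.1 hx).2]), Finset.sum_const, smul_eq_mul]
      congr 1
      obtain ⟨a, rfl⟩ := QuotientGroup.mk_surjective q
      rw [Nat.card_eq_fintype_card, ← Fintype.card_subtype]
      exact Fintype.card_congr
        { toFun := fun x => ⟨a⁻¹ * x.1, QuotientGroup.eq.1 x.2.symm⟩
          invFun := fun u => ⟨a * u.1, (QuotientGroup.eq.2 (by rw [inv_mul_cancel_left]; exact u.2)).symm⟩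
          left_inv := fun x => Subtype.ext (mul_inv_cancel_left a x.1)
          right_inv := fun u => Subtype.ext (inv_mul_cancel_left a u.1) }
    have hT1 : (1 : A ⧸ U) ∉ T := fun h1 => by have := hT3 1 h1; rw [orderOf_one] at this; norm_num at this
    have hF1 : (1 : A ⧸ U) ∉ F := fun h1 => (hF4 1 h1).1 rfl
    have hTF : Disjoint T F := Finset.disjoint_left.2 fun q h1 h2 => (hF4 q h2).2.1 (hT3 q h1)
    have hw : 96 ≤ ∑ q : A ⧸ U, w q := by
      have hrw : ∀ q : A ⧸ U, w q = 2 + ((if q = 1 then 22 else 0) + (if q ∈ F then 2 else 0) +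
          (if q ∈ T then 1 else 0)) := by
        intro q
        simp only [w]
        by_cases h1 : q = 1
        · subst h1; simp [hT1, hF1]
        by_cases h2 : q ∈ F
        · simp [h1, h2, Finset.disjoint_right.1 hTF h2]
        by_cases h3 : q ∈ T <;> simp [h1, h2, h3]
      simp only [hrw, Finset.sum_add_distrib, Finset.sum_const, smul_eq_mul, Finset.card_univ]
      rw [← Nat.card_eq_fintype_card, ← index_eq_card, h24]
      simp only [Finset.sum_ite_mem, Finset.univ_inter, Finset.sum_const, smul_eq_mul, hT, hF,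
        Finset.sum_ite_eq', Finset.mem_univ, if_true]
      norm_num
    rw [hsum, ← U.card_mul_index, h24] at h
    have hz := Nat.card_pos (α := U)
    have h1 : Nat.card U * 96 * Nat.card U ≤ Nat.card (ConjClasses A) * (Nat.card U * 24) :=
      le_trans (Nat.mul_le_mul_right _ (Nat.mul_le_mul_left _ hw)) h
    refine Nat.le_of_mul_le_mul_right ?_ (show 0 < Nat.card U * 24 by omega)
    calc 4 * Nat.card U * (Nat.card U * 24) = Nat.card U * 96 * Nat.card U := by ring
      _ ≤ _ := h1
  · have hx1 : (x : A ⧸ U) ≠ 1 := fun e => hx ((QuotientGroup.eq_one_iff x).1 e)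
    show w (x : A ⧸ U) * Nat.card U ≤ _
    simp only [w, if_neg hx1]
    split_ifs with h2 h3
    · obtain ⟨-, -, r, hr, hxr⟩ := hF4 _ h2
      obtain ⟨y, rfl⟩ := QuotientGroup.mk_surjective r
      exact hr ▸ hbound x y hxr
    · exact hT3 _ h3 ▸ hbound x x (mem_zpowers _)
    · refine le_trans (Nat.mul_le_mul_right _ ?_) (hbound x x (mem_zpowers _))
      have := orderOf_pos (x : A ⧸ U)
      have : orderOf (x : A ⧸ U) ≠ 1 := fun e => hx1 (orderOf_eq_one_iff.1 e)
      omega
  · simp [w, h24, (QuotientGroup.eq_one_iff x).2 hx]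

end CfsgLib.ClassPSq
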