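import Cfsg.Agent.Lib.ClassNumberPSq.Blocks
import Cfsg.Agent.Lib.ClassNumberPSq.FieldBound
import Cfsg.Agent.Lib.ClassNumberPSq.SFour
import Cfsg.Agent.Lib.ClassNumberPSq.Numeric
import Mathlib.Data.Nat.Prime.Pow

/-!
The class number of a solvable irreducible linear group in characteristic at least eleven.
-/

set_option autoImplicit false
set_option linter.unusedSectionVars false
set_option linter.style.haveILetI false

namespace CfsgLib.ClassPSq

open CfsgLib.BaseTwo (FieldCase Irr scalars)

universe u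

section small

variable {A : Type*} [Group A] [Finite A]

/-- Class numbers of subgroups. -/
theorem classes_le_index_mul (H : Subgroup A) :
    Nat.card (ConjClasses H) ≤ H.index * Nat.card (ConjClasses A) := by
  have h := H.commProb_subgroup_le
  rw [commProb_def', commProb_def', div_mul_eq_mul_div,
    div_le_div_iff₀ (by exact_mod_cast Nat.card_pos) (by exact_mod_cast Nat.card_pos)] at h
  have h' : Nat.card (ConjClasses H) * Nat.card A ≤
      Nat.card (ConjClasses A) * H.index ^ 2 * Nat.card H := by exact_mod_cast h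
  rw [← H.card_mul_index] at h'
  refine Nat.le_of_mul_le_mul_right ?_ (Nat.mul_pos (Nat.card_pos (α := H))
    (Nat.pos_of_ne_zero H.index_ne_zero_of_finite))
  exact h'.trans_eq (by ring)

/-- A group acting on a four group with kernel the layer. -/
theorem index_dvd_six (U E : Subgroup A) (hUn : U.Normal) (_hUE : U ≤ E) (hEn : E.Normal)
    (h4 : U.relIndex E = 4) (hsq : ∀ x ∈ E, x * x ∈ U)
    (hker : ∀ c, (∀ x ∈ E, c * x * c⁻¹ * x⁻¹ ∈ U) → c ∈ E) : E.index ∣ 6 := by
  classical
  let π := QuotientGroup.mk' U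
  let K := E.map π
  haveI : K.Normal := hEn.map _ (QuotientGroup.mk'_surjective U)
  have hK : Nat.card K = 4 := by
    have h := Subgroup.relIndex_comap (⊥ : Subgroup (A ⧸ U)) π E
    rw [MonoidHom.comap_bot, QuotientGroup.ker_mk', Subgroup.relIndex_bot_left, h4] at h
    exact h.symm
  let toPerm : MulAut K →* Equiv.Perm {k : K // k ≠ 1} :=
    { toFun := fun φ => φ.toEquiv.subtypeEquiv fun k => (by simp)
      map_one' := Equiv.ext fun k => rfl
      map_mul' := fun φ ψ => Equiv.ext fun k => rfl }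
  have hinj : Function.Injective toPerm := by
    intro φ ψ h
    refine MulEquiv.ext fun k => ?_
    by_cases hk : k = 1
    · rw [hk, map_one, map_one]
    · exact congrArg Subtype.val (DFunLike.congr_fun h ⟨k, hk⟩)
  let act : A →* Equiv.Perm {k : K // k ≠ 1} := toPerm.comp (MulAut.conjNormal.comp π)
  have hcomm : ∀ k ∈ K, ∀ l ∈ K, k * l = l * k := by
    have hs : ∀ k ∈ K, k * k = 1 := by
      rintro _ ⟨x, hx, rfl⟩
      rw [← map_mul]; exact (QuotientGroup.eq_one_iff _).2 (hsq x hx)
    intro k hk l hl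
    rw [← inv_eq_of_mul_eq_one_right (hs _ (mul_mem hk hl)), mul_inv_rev,
      inv_eq_of_mul_eq_one_right (hs l hl), inv_eq_of_mul_eq_one_right (hs k hk)]
  have hk : act.ker = E := by
    ext c
    rw [MonoidHom.mem_ker]
    show toPerm (MulAut.conjNormal (π c)) = 1 ↔ _
    rw [map_eq_one_iff toPerm hinj]
    constructor
    · intro h
      refine hker c fun x hx => (QuotientGroup.eq_one_iff _).1 ?_
      have h1 := congrArg Subtype.val (DFunLike.congr_fun h (⟨π x, x, hx, rfl⟩ : K))
      rw [MulAut.conjNormal_apply, MulAut.one_apply] at h1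
      show π (c * x * c⁻¹ * x⁻¹) = 1
      rw [map_mul, map_mul, map_mul, map_inv, map_inv, h1, mul_inv_cancel]
    · intro hc
      refine MulEquiv.ext fun k => Subtype.ext ?_
      rw [MulAut.conjNormal_apply, MulAut.one_apply, hcomm _ ⟨c, hc, rfl⟩ _ k.2, mul_inv_cancel_right]
  rw [← hk, Subgroup.index_ker]
  refine (Subgroup.card_subgroup_dvd_card _).trans ?_
  have := Fintype.ofFinite K
  rw [Nat.card_perm, Nat.card_eq_fintype_card, Fintype.card_subtype_compl, Fintype.card_subtype_eq,
    ← Nat.card_eq_fintype_card, hK]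
  decide

end small

variable {A V : Type u} [Group A] [Finite A] [AddCommGroup V] [Finite V] [DistribMulAction A V]

omit [AddCommGroup V] [Finite V] [DistribMulAction A V] in
theorem exists_max_abelian : ∃ U : Subgroup A, U.Normal ∧ (∀ x ∈ U, ∀ y ∈ U, x * y = y * x) ∧
    ∀ W : Subgroup A, W.Normal → U ≤ W → (∀ x ∈ W, ∀ y ∈ W, x * y = y * x) → W = U := by
  obtain ⟨U, hU, hUmax⟩ := Set.Finite.exists_maximal
    (s := {W : Subgroup A | W.Normal ∧ ∀ x ∈ W, ∀ y ∈ W, x * y = y * x}) (Set.toFinite _)
    ⟨⊥, inferInstance, fun x hx y hy => by rw [Subgroup.mem_bot.1 hx, Subgroup.mem_bot.1 hy]⟩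
  exact ⟨U, hU.1, hU.2, fun W hW hle hc => le_antisymm (hUmax ⟨hW, hc⟩ hle) hle⟩

/-- What the field case gives. -/
theorem field_data (hsolv : Group.IsSolvable A) {U : Subgroup A} (F : FieldCase A V U)
    (hmax : ∀ W : Subgroup A, W.Normal → U ≤ W → (∀ x ∈ W, ∀ y ∈ W, x * y = y * x) → W = U)
    {p : ℕ} [Fact p.Prime] (hexp : ∀ v : V, p • v = 0) :
    ∃ a d e M : ℕ, 1 ≤ a ∧ 1 ≤ e ∧ e ≤ d ∧ 1 ≤ M ∧ Nat.card V = p ^ (a * d) ∧
      Nat.card A * (3 * M - 2) ≤ a * a * (M * M) * Nat.card (ConjClasses A) ∧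
      (e = 1 → M = 1) ∧ (e = 2 → M ≤ 24) ∧ (e = 3 → M ≤ 216 ∧ 3 ∣ p ^ a - 1) ∧
      (e = 4 → M ≤ 2304) ∧ (5 ≤ e → M ≤ 17 * 11 ^ (e - 2)) ∧
      (a = 1 → e = 4 → ∃ z, z ∣ p - 1 ∧ Nat.card A = z * M ∧
        z * (3 * M - 2) ≤ Nat.card (ConjClasses A) * M) ∧
      (a = 1 → e = 2 → M ≤ 17 ∨ ∃ z, 0 < z ∧ 2 ∣ z ∧ z ∣ p - 1 ∧ Nat.card A = 24 * z ∧
        4 * z ≤ Nat.card (ConjClasses A)) := by
  classical
  obtain ⟨a, d, e, M, ha, -, hV, he, hed, hz, hidx, hM, hMB, h48, h3, h2⟩ :=
    field_bound hsolv F hmax hexp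
  set C := Subgroup.centralizer (U : Set A) with hC
  haveI := F.normal
  have hUC : U ≤ C := fun x hx => Subgroup.mem_centralizer_iff.2 fun y hy => F.comm y hy x hx
  have hM1 : 1 ≤ M := hM ▸ Nat.one_le_iff_ne_zero.2 Subgroup.index_ne_zero_of_finite
  have hcU : Nat.card (U.subgroupOf C) = Nat.card U :=
    Nat.card_congr (Subgroup.subgroupOfEquivOfLe hUC).toEquiv
  have hCc : Nat.card C = Nat.card U * M := by
    rw [← (U.subgroupOf C).card_mul_index, hcU]
    exact congrArg _ hM
  have hcard : Nat.card A = Nat.card U * M * C.index := by rw [← hCc, C.card_mul_index]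
  have hkC : Nat.card U * (3 * M - 2) ≤ Nat.card (ConjClasses C) * M := by
    have h := central_bound (U.subgroupOf C) (fun x hx => Subgroup.mem_center_iff.2 fun y =>
      Subtype.ext (Subgroup.mem_centralizer_iff.1 y.2 _ hx).symm)
    rw [hcU] at h
    rwa [show (U.subgroupOf C).index = M from hM] at h
  have hK : Nat.card (ConjClasses C) ≤ C.index * Nat.card (ConjClasses A) := classes_le_index_mul C
  obtain ⟨-, b1, b2, b3, b4, b5, b6, b7, b8⟩ := Bd_small
  refine ⟨a, d, e, M, ha, he, hed, hM1, hV, ?_, ?_, ?_, ?_, ?_, ?_, ?_, ?_⟩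
  · calc Nat.card A * (3 * M - 2) = C.index * M * (Nat.card U * (3 * M - 2)) := by rw [hcard]; ring
      _ ≤ C.index * M * (C.index * Nat.card (ConjClasses A) * M) :=
          Nat.mul_le_mul_left _ (hkC.trans (Nat.mul_le_mul_right _ hK))
      _ = C.index * C.index * (M * M) * Nat.card (ConjClasses A) := by ring
      _ ≤ _ := Nat.mul_le_mul_right _ (Nat.mul_le_mul_right _ (Nat.mul_le_mul hidx hidx))
  · rintro rfl; omega
  · rintro rfl; omega
  · rintro rfl; exact ⟨by omega, h3 rfl⟩
  · rintro rfl; have := h48 (Or.inl rfl); omega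
  · intro he5
    rcases Nat.lt_or_ge e 9 with he9 | he9
    · interval_cases e <;> first
        | (have := h48 (Or.inr rfl); norm_num [b8] at this ⊢; omega)
        | (norm_num [b5, b6, b7] at hMB ⊢; omega)
    · exact hMB.trans (Bd_large e he9)
  · rintro rfl -
    have hC1 : C.index = 1 := le_antisymm hidx (Nat.one_le_iff_ne_zero.2 C.index_ne_zero_of_finite)
    refine ⟨Nat.card U, by simpa using hz, by rw [hcard, hC1, mul_one], ?_⟩
    refine hkC.trans (Nat.mul_le_mul_right _ ?_)
    simpa [hC1] using hK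
  · rintro rfl he2
    obtain ⟨E, hEn, hUE, hEC, h4, hsq, hker⟩ := h2 he2
    have hC1 : C.index = 1 := le_antisymm hidx (Nat.one_le_iff_ne_zero.2 C.index_ne_zero_of_finite)
    have hCt : ∀ x, x ∈ C := fun x => by rw [Subgroup.index_eq_one.1 hC1]; trivial
    have hUi : U.index = M := by
      rw [← hM, ← Subgroup.relIndex_mul_index hUC, hC1, mul_one]
    have hker' : ∀ c, (∀ x ∈ E, c * x * c⁻¹ * x⁻¹ ∈ U) → c ∈ E := fun c h => hker c (hCt c) h
    have h6 : E.index ∣ 6 := index_dvd_six U E F.normal hUE hEn h4 hsq hker'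
    have hM4 : M = 4 * E.index := by rw [← hUi, ← Subgroup.relIndex_mul_index hUE, h4]
    rcases Nat.lt_or_ge M 18 with hlt | hge
    · left; omega
    right
    have hE6 : E.index = 6 := by
      have := Nat.le_of_dvd (by norm_num) h6
      interval_cases hi : E.index <;> omega
    have hcen : U ≤ Subgroup.center A := fun u hu => Subgroup.mem_center_iff.2 fun g =>
      (Subgroup.mem_centralizer_iff.1 (hCt g) u hu).symm
    have h24 : U.index = 24 := by omega
    refine ⟨Nat.card U, Nat.card_pos, ?_, by simpa using hz, by rw [hcard, hC1, mul_one, show M = 24 by omega, mul_comm],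
      four_z_le U E hcen hUE hEn h4 h24 hsq hker'⟩
    obtain ⟨x, hx, y, hy, hne⟩ : ∃ x ∈ E, ∃ y ∈ E, x * y ≠ y * x := by
      by_contra hn
      push Not at hn
      have := hmax E hEn hUE hn
      rw [this, Subgroup.relIndex_self] at h4
      norm_num at h4
    set c := x * y * x⁻¹ * y⁻¹ with hc
    have hcU : c ∈ U := by
      rw [hc, show x * y * x⁻¹ * y⁻¹ = x * y * (x * y) * (y⁻¹ * (x * x)⁻¹ * y⁻¹⁻¹) * (y * y)⁻¹ by group]
      exact mul_mem (mul_mem (hsq _ (mul_mem hx hy)) (F.normal.conj_mem _ (inv_mem (hsq x hx)) y⁻¹))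
        (inv_mem (hsq y hy))
    have hc1 : c ≠ 1 := fun h => hne (by
      rw [hc, mul_inv_eq_one, mul_inv_eq_iff_eq_mul] at h; exact h)
    have hc2 : c ^ 2 = 1 := by
      have hcy : Commute c y := (Subgroup.mem_center_iff.1 (hcen hcU) y).symm
      have h1 : c * y * (c * y) = y * y := by
        have hyy := Subgroup.mem_center_iff.1 (hcen (hsq y hy)) x
        calc c * y * (c * y) = x * (y * y) * x⁻¹ := by rw [hc]; group
          _ = y * y := by rw [hyy, mul_inv_cancel_right]
      have h2 : c * y * (c * y) = c * c * (y * y) := by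
        rw [mul_assoc c y, ← mul_assoc y c, ← hcy.eq]; simp [mul_assoc]
      rw [pow_two]
      exact mul_eq_right.1 (h2.symm.trans h1)
    rw [← orderOf_eq_prime hc2 hc1]
    exact Subgroup.orderOf_dvd_natCard U hcU

theorem exponent_pow {p n : ℕ} [hp : Fact p.Prime] {W : Type u} [AddCommGroup W] [Finite W]
    {t : ℕ} (ht : 1 ≤ t) (hn : Nat.card W ^ t = p ^ n) : ∃ m, Nat.card W = p ^ m ∧ m * t = n := by
  obtain ⟨m, -, hm⟩ := (Nat.dvd_prime_pow hp.out).1 (hn ▸ dvd_pow_self (Nat.card W) (by omega))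
  refine ⟨m, hm, Nat.pow_right_injective hp.out.two_le ?_⟩
  show p ^ (m * t) = p ^ n
  rw [pow_mul, ← hm, hn]

/-- **The first bound**: the order is at most `p ^ (n - 1)` times the class number. -/
theorem first_bound {p : ℕ} [hp : Fact p.Prime] (hp11 : 11 ≤ p) : ∀ (N : ℕ) (A V : Type u) [Group A] [Finite A]
    [AddCommGroup V] [Finite V] [DistribMulAction A V], Nat.card A ≤ N → Group.IsSolvable A →
    (∀ a : A, (∀ v : V, a • v = v) → a = 1) → Irr A V → (∀ v : V, p • v = 0) →
    ∀ n, 1 ≤ n → Nat.card V = p ^ n → Nat.card A ≤ p ^ (n - 1) * Nat.card (ConjClasses A) := by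
  intro N
  induction N using Nat.strong_induction_on with
  | _ N ih =>
    intro A V _ _ _ _ _ hN hsol hf hirr hexp n hn hV
    classical
    obtain ⟨U, hU, hUc, hmax⟩ := exists_max_abelian (A := A)
    by_cases hfield : ∀ s ∈ scalars V U, s ≠ 0 → ∃ s' ∈ scalars V U, s * s' = 1
    · have hnt : ∃ v : V, v ≠ 0 := by
        by_contra h
        push Not at h
        have : Subsingleton V := ⟨fun a b => by rw [h a, h b]⟩
        rw [Nat.card_of_subsingleton (0 : V)] at hV
        exact absurd hV (Nat.one_lt_pow (by omega) hp.out.one_lt).ne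
      obtain ⟨a, d, e, M, ha, he, hed, hM1, hV', hA, e1, e2, e3, e4, e5, -, -⟩ :=
        field_data hsol ⟨hnt, hU, hUc, hfield, hf⟩ hmax hexp
      obtain rfl : n = a * d := Nat.pow_right_injective hp.out.two_le (hV.symm.trans hV')
      have key : a * a * (M * M) ≤ p ^ (a * d - 1) * (3 * M - 2) := by
        have hsq := sq_le_pow (show 4 ≤ p by omega) a ha
        rw [pow_two] at hsq
        rcases Nat.eq_or_lt_of_le he with rfl | he2
        · obtain rfl := e1 rfl
          simp only [mul_one, show (3 : ℕ) - 2 = 1 by norm_num]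
          calc a * a ≤ p ^ (a - 1) := hsq
            _ ≤ p ^ (a * d - 1) := Nat.pow_le_pow_right (by omega)
              (Nat.sub_le_sub_right (Nat.le_mul_of_pos_right a (by omega)) 1)
        rcases Nat.eq_or_lt_of_le hM1 with hM | hM2
        · subst hM
          simp only [mul_one, show (3 : ℕ) - 2 = 1 by norm_num]
          calc a * a ≤ p ^ (a - 1) := hsq
            _ ≤ p ^ (a * d - 1) := Nat.pow_le_pow_right (by omega)
              (Nat.sub_le_sub_right (Nat.le_mul_of_pos_right a (by omega)) 1)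
        have hx : 11 ^ (e - 1) ≤ p ^ (e - 1) := Nat.pow_le_pow_left hp11 _
        have hMx : M + 1 ≤ 3 * p ^ (e - 1) := by
          rcases Nat.lt_or_ge e 5 with h5 | h5
          · have : e = 2 ∨ e = 3 ∨ e = 4 := by omega
            rcases this with rfl | rfl | rfl
            · have := e2 rfl; norm_num at hx ⊢; omega
            · have := (e3 rfl).1; norm_num at hx ⊢; omega
            · have := e4 rfl; norm_num at hx ⊢; omega
          · have := e5 h5
            have h11 : 11 * 11 ^ (e - 2) ≤ p ^ (e - 1) := by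
              rw [← pow_succ', show e - 2 + 1 = e - 1 by omega]; exact hx
            omega
        have h1 := first_crude hM2 hMx
        calc a * a * (M * M) ≤ p ^ (a - 1) * (p ^ (e - 1) * (3 * M - 2)) := Nat.mul_le_mul hsq h1
          _ ≤ _ := by
            rw [← mul_assoc, ← pow_add]
            refine Nat.mul_le_mul_right _ (Nat.pow_le_pow_right (by omega) ?_)
            obtain ⟨b, rfl⟩ := Nat.exists_eq_add_of_le ha
            have : b ≤ b * d := Nat.le_mul_of_pos_right b (by omega)
            rw [add_mul, one_mul]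
            omega
      refine Nat.le_of_mul_le_mul_right ?_ (show 0 < 3 * M - 2 by omega)
      calc Nat.card A * (3 * M - 2) ≤ a * a * (M * M) * Nat.card (ConjClasses A) := hA
        _ ≤ p ^ (a * d - 1) * (3 * M - 2) * Nat.card (ConjClasses A) := Nat.mul_le_mul_right _ key
        _ = _ := by ring
    · obtain ⟨H, _, _, W, _, _, _, t, τ, ht, hHsol, hHf, hHirr, hlt, hW, hexpW, h3, -, hb⟩ :=
        blocks_bound hsol hf hirr hU hUc hfield
      obtain ⟨m, hm, hmt⟩ := exponent_pow (W := W) (p := p) (n := n) (show 1 ≤ t by omega) (hW.trans hV)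
      have hm1 : 1 ≤ m := by
        rcases Nat.eq_zero_or_pos m with rfl | h
        · omega
        · exact h
      have hH := ih _ (lt_of_lt_of_le hlt hN) H W le_rfl hHsol hHf hHirr (hexpW p hexp) m hm1 hm
      have hK0 : 0 < Nat.card (ConjClasses H) ^ t := Nat.pos_of_ne_zero (pow_ne_zero _ Nat.card_pos.ne')
      refine Nat.le_of_mul_le_mul_right ?_ hK0
      calc Nat.card A * Nat.card (ConjClasses H) ^ t
          ≤ τ ^ 2 * Nat.card H ^ t * Nat.card (ConjClasses A) := hb
        _ ≤ p ^ (t - 1) * (p ^ (m - 1) * Nat.card (ConjClasses H)) ^ t * Nat.card (ConjClasses A) :=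
            Nat.mul_le_mul_right _ (Nat.mul_le_mul (tau_first hp11 ht h3) (Nat.pow_le_pow_left hH t))
        _ = p ^ (t - 1 + (m - 1) * t) * Nat.card (ConjClasses A) * Nat.card (ConjClasses H) ^ t := by
            rw [mul_pow, ← pow_mul, pow_add]; ring
        _ = _ := by
            congr 3
            rw [Nat.sub_mul, one_mul]
            have : t ≤ m * t := Nat.le_mul_of_pos_left t hm1
            omega

/-- **The second bound**, in the form in which it is used. -/
theorem second_bound {p : ℕ} [hp : Fact p.Prime] (hp11 : 11 ≤ p) (hsol : Group.IsSolvable A)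
    (hf : ∀ a : A, (∀ v : V, a • v = v) → a = 1) (hirr : Irr A V) (hexp : ∀ v : V, p • v = 0)
    {n k : ℕ} (hn : 2 ≤ n) (hV : Nat.card V = p ^ n)
    (hk : Nat.card (ConjClasses A) * Nat.card A + (p ^ n - 1) ≤ k * Nat.card A) : 49 * p ≤ 60 * k := by
  classical
  obtain ⟨U, hU, hUc, hmax⟩ := exists_max_abelian (A := A)
  have hh : 0 < Nat.card A := Nat.card_pos
  have hp2 : 121 ≤ p ^ n := le_trans (le_trans (by norm_num) (Nat.pow_le_pow_left hp11 2))
    (Nat.pow_le_pow_right (by omega) hn)
  by_cases hfield : ∀ s ∈ scalars V U, s ≠ 0 → ∃ s' ∈ scalars V U, s * s' = 1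
  · have hnt : ∃ v : V, v ≠ 0 := by
      by_contra h
      push Not at h
      have : Subsingleton V := ⟨fun a b => by rw [h a, h b]⟩
      rw [Nat.card_of_subsingleton (0 : V)] at hV
      exact absurd hV (by omega)
    obtain ⟨a, d, e, M, ha, he, hed, hM1, hV', hA, e1, e2, e3, e4, e5, e4', e2'⟩ :=
      field_data hsol ⟨hnt, hU, hUc, hfield, hf⟩ hmax hexp
    obtain rfl : n = a * d := Nat.pow_right_injective hp.out.two_le (hV.symm.trans hV')
    have finish : 2401 * p ^ 2 * (a * a * (M * M)) ≤ 14400 * (p ^ (a * d) - 1) * (3 * M - 2) →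
        49 * p ≤ 60 * k := fun h => amgm hh (by
      refine Nat.le_of_mul_le_mul_right ?_ (show 0 < 3 * M - 2 by omega)
      calc 2401 * p ^ 2 * Nat.card A * (3 * M - 2) = 2401 * p ^ 2 * (Nat.card A * (3 * M - 2)) := by ring
        _ ≤ 2401 * p ^ 2 * (a * a * (M * M) * Nat.card (ConjClasses A)) := Nat.mul_le_mul_left _ hA
        _ = 2401 * p ^ 2 * (a * a * (M * M)) * Nat.card (ConjClasses A) := by ring
        _ ≤ 14400 * (p ^ (a * d) - 1) * (3 * M - 2) * Nat.card (ConjClasses A) := Nat.mul_le_mul_right _ h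
        _ = _ := by ring) hk
    have viaE : ∀ E, a * a * p ^ E ≤ p ^ (a * d) →
        2401 * p ^ 2 * (M * M) ≤ 14400 * (p ^ E - 1) * (3 * M - 2) → 49 * p ≤ 60 * k := fun E hs h =>
      finish (by
        calc 2401 * p ^ 2 * (a * a * (M * M)) = a * a * (2401 * p ^ 2 * (M * M)) := by ring
          _ ≤ a * a * (14400 * (p ^ E - 1) * (3 * M - 2)) := Nat.mul_le_mul_left _ h
          _ = 14400 * (a * a * (p ^ E - 1)) * (3 * M - 2) := by ring
          _ ≤ _ := Nat.mul_le_mul_right _ (Nat.mul_le_mul_left _ (scale ha hs)))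
    rcases Nat.eq_or_lt_of_le hM1 with hM | hM2
    · refine finish ?_
      subst hM
      have := scale_one hp11 ha (Nat.le_mul_of_pos_right a (by omega)) hn
      rw [show 2401 * p ^ 2 * (a * a * (1 * 1)) = 2401 * (a * a * p ^ 2) by ring]
      clear e2' e4'
      omega
    have hes : a * a * p ^ e ≤ p ^ (a * d) := scale_same (by omega) ha he hed
    rcases Nat.eq_or_lt_of_le he with rfl | he2
    · have := e1 rfl; omega
    have hsucc : 2 ≤ a ∨ e + 1 ≤ d → a * a * p ^ (e + 1) ≤ p ^ (a * d) :=
      scale_succ (by omega) ha he2 hed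
    have h13 : p ≠ 11 → 13 ≤ p := by
      intro h
      rcases Nat.lt_or_ge p 13 with h' | h'
      · obtain rfl : p = 12 := by omega
        exact absurd hp.out (by norm_num)
      · exact h'
    rcases Nat.lt_or_ge e 5 with h5 | h5
    · have he' : e = 2 ∨ e = 3 ∨ e = 4 := by omega
      rcases he' with rfl | rfl | rfl
      · by_cases hbig : 2 ≤ a ∨ 2 + 1 ≤ d
        · exact viaE 3 (hsucc hbig) (core_mono hM1 (e2 rfl) (core_two' hp11))
        obtain rfl : a = 1 := by omega
        rcases e2' rfl rfl with hM17 | ⟨z, hz0, hz2, hzp, hAz, hKz⟩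
        · exact viaE 2 hes (core_mono hM1 hM17 (core_two hp11))
        obtain rfl : d = 2 := by omega
        refine extremal hz2 hz0 hzp (by omega) ?_
        rw [← hAz]
        rw [one_mul] at hk
        refine le_trans (Nat.add_le_add_right ?_ _) hk
        calc 96 * z * z = 4 * z * (24 * z) := by ring
          _ ≤ _ := by rw [hAz]; exact Nat.mul_le_mul_right _ hKz
      · by_cases hp' : p = 11
        · subst hp'
          have ha2 : 2 ≤ a := by
            by_contra h
            obtain rfl : a = 1 := by omega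
            exact absurd (e3 rfl).2 (by norm_num)
          exact viaE 4 (hsucc (Or.inl ha2)) (core_mono hM1 (e3 rfl).1 (by norm_num))
        · exact viaE 3 hes (core_mono hM1 (e3 rfl).1 (core_three (h13 hp')))
      · by_cases hp' : p = 11
        · subst hp'
          by_cases hbig : 2 ≤ a ∨ 4 + 1 ≤ d
          · exact viaE 5 (hsucc hbig) (core_mono hM1 (e4 rfl) (by norm_num))
          obtain rfl : a = 1 := by omega
          obtain rfl : d = 4 := by omega
          obtain ⟨z, hz, hAz, hKz⟩ := e4' rfl rfl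
          have hM4 := e4 rfl
          by_contra hlt
          have hk8 : k ≤ 8 := by omega
          have h1 : z * (z * (3 * M - 2)) + 14640 ≤ 8 * (z * M) := by
            calc z * (z * (3 * M - 2)) + 14640 ≤ z * (Nat.card (ConjClasses A) * M) + 14640 :=
                  Nat.add_le_add_right (Nat.mul_le_mul_left _ hKz) _
              _ = Nat.card (ConjClasses A) * Nat.card A + (11 ^ (1 * 4) - 1) := by
                  rw [hAz, show (11 : ℕ) ^ (1 * 4) - 1 = 14640 by norm_num]; ring
              _ ≤ k * Nat.card A := hk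
              _ ≤ 8 * (z * M) := by rw [hAz]; exact Nat.mul_le_mul_right _ hk8
          have hz10 : z ≤ 10 := Nat.le_of_dvd (by norm_num) hz
          interval_cases z <;> omega
        · exact viaE 4 hes (core_mono hM1 (e4 rfl) (core_four (h13 hp')))
    · exact viaE e hes (second_of_le hp11 (by omega) hM2 (e5 h5))
  · obtain ⟨H, _, _, W, _, _, _, t, τ, ht, hHsol, hHf, hHirr, -, hW, hexpW, h3, hfac, hb⟩ :=
      blocks_bound hsol hf hirr hU hUc hfield
    obtain ⟨m, hm, hmt⟩ := exponent_pow (W := W) (p := p) (n := n) (show 1 ≤ t by omega) (hW.trans hV)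
    have hm1 : 1 ≤ m := by
      rcases Nat.eq_zero_or_pos m with rfl | h
      · omega
      · exact h
    have hH := first_bound hp11 _ H W le_rfl hHsol hHf hHirr (hexpW p hexp) m hm1 hm
    have hK0 : 0 < Nat.card (ConjClasses H) ^ t := Nat.pos_of_ne_zero (pow_ne_zero _ Nat.card_pos.ne')
    have hb' : 10 * Nat.card A ≤ 59 * p ^ (n - 2) * Nat.card (ConjClasses A) := by
      refine Nat.le_of_mul_le_mul_right ?_ hK0
      calc 10 * Nat.card A * Nat.card (ConjClasses H) ^ t
          = 10 * (Nat.card A * Nat.card (ConjClasses H) ^ t) := by ring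
        _ ≤ 10 * (τ ^ 2 * Nat.card H ^ t * Nat.card (ConjClasses A)) := Nat.mul_le_mul_left _ hb
        _ = 10 * τ ^ 2 * Nat.card H ^ t * Nat.card (ConjClasses A) := by ring
        _ ≤ 59 * p ^ (t - 2) * (p ^ (m - 1) * Nat.card (ConjClasses H)) ^ t * Nat.card (ConjClasses A) :=
            Nat.mul_le_mul_right _ (Nat.mul_le_mul (tau_sq hp11 ht h3 hfac) (Nat.pow_le_pow_left hH t))
        _ = 59 * p ^ (t - 2 + (m - 1) * t) * Nat.card (ConjClasses A) * Nat.card (ConjClasses H) ^ t := by
            rw [mul_pow, ← pow_mul, pow_add]; ring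
        _ = _ := by
            congr 4
            rw [Nat.sub_mul, one_mul]
            have : t ≤ m * t := Nat.le_mul_of_pos_left t hm1
            omega
    refine amgm hh ?_ hk
    refine Nat.le_of_mul_le_mul_left ?_ (show 0 < 10 by norm_num)
    calc 10 * (2401 * p ^ 2 * Nat.card A) = 2401 * p ^ 2 * (10 * Nat.card A) := by ring
      _ ≤ 2401 * p ^ 2 * (59 * p ^ (n - 2) * Nat.card (ConjClasses A)) := Nat.mul_le_mul_left _ hb'
      _ = 141659 * p ^ n * Nat.card (ConjClasses A) := by
          have hpn : p ^ n = p ^ 2 * p ^ (n - 2) := by rw [← pow_add, show 2 + (n - 2) = n by omega]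
          rw [hpn]; ring
      _ ≤ 144000 * (p ^ n - 1) * Nat.card (ConjClasses A) := Nat.mul_le_mul_right _ (by omega)
      _ = _ := by ring

end CfsgLib.ClassPSq
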