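import Cfsg.Agent.Lib.ClassNumberPSq.Count
import Cfsg.Agent.Lib.Solvable.MinNormal
import Cfsg.Agent.Lib.Coprime.MaschkeAbelian

/-!
Reduction of the class number bound to a self-centralizing minimal normal subgroup.
-/

set_option autoImplicit false
set_option linter.unusedSectionVars false
set_option maxHeartbeats 1600000

namespace CfsgLib.ClassPSq

open Subgroup

universe u

/-- A self-centralizing minimal normal subgroup of order `p ^ n`, `n ≥ 2`. -/
structure Crit (G : Type u) [Group G] (p n : ℕ) (N : Subgroup G) : Prop where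
  solvable : Group.IsSolvable G
  normal : N.Normal
  card : Nat.card N = p ^ n
  two_le : 2 ≤ n
  exp : ∀ x ∈ N, x ^ p = 1
  comm : ∀ x ∈ N, ∀ y ∈ N, x * y = y * x
  cent : centralizer (N : Set G) = N
  min : ∀ K : Subgroup G, K.Normal → K ≠ ⊥ → N ≤ K
  sq : ¬ p ^ 2 ∣ N.index

variable {G : Type u} [Group G] [Finite G]

/-- Class numbers of quotients. -/
theorem classes_quotient_le (N : Subgroup G) [N.Normal] :
    Nat.card (ConjClasses (G ⧸ N)) ≤ Nat.card (ConjClasses G) :=
  Nat.card_le_card_of_surjective _ (ConjClasses.map_surjective (QuotientGroup.mk'_surjective N))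

/-- The commutator of two elements normalizing a cyclic subgroup centralizes it. -/
theorem comm_fix {x g k : G} (hg : g * x * g⁻¹ ∈ zpowers x) (hk : k * x * k⁻¹ ∈ zpowers x) :
    g * k * g⁻¹ * k⁻¹ * x = x * (g * k * g⁻¹ * k⁻¹) := by
  obtain ⟨i, hi⟩ := mem_zpowers_iff.1 hg
  obtain ⟨j, hj⟩ := mem_zpowers_iff.1 hk
  have h1 : g * k * x * (g * k)⁻¹ = k * g * x * (k * g)⁻¹ := by
    rw [show g * k * x * (g * k)⁻¹ = g * (k * x * k⁻¹) * g⁻¹ by group, ← hj, ← conj_zpow, ← hi,
      show k * g * x * (k * g)⁻¹ = k * (g * x * g⁻¹) * k⁻¹ by group, ← hi, ← conj_zpow, ← hj,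
      ← zpow_mul, ← zpow_mul, mul_comm]
  have h2 : (k * g)⁻¹ * (g * k) * x * ((k * g)⁻¹ * (g * k))⁻¹ = x := by
    calc (k * g)⁻¹ * (g * k) * x * ((k * g)⁻¹ * (g * k))⁻¹
        = (k * g)⁻¹ * (g * k * x * (g * k)⁻¹) * (k * g) := by group
      _ = x := by rw [h1]; group
  -- conjugate back
  have h3 : (g * k * g⁻¹ * k⁻¹) * x * (g * k * g⁻¹ * k⁻¹)⁻¹ = x := by
    have e : g * k * g⁻¹ * k⁻¹ = k * g * ((k * g)⁻¹ * (g * k)) * (k * g)⁻¹ := by group
    have hm : (k * g)⁻¹ * x * (k * g) ∈ zpowers x := by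
      have hn : ∀ {a : G}, a * x * a⁻¹ ∈ zpowers x → a⁻¹ * x * a ∈ zpowers x := fun {a} ha => by
        obtain ⟨m, hm⟩ := mem_zpowers_iff.1 ha
        have heq : zpowers (a * x * a⁻¹) = zpowers x := by
          refine Subgroup.eq_of_le_of_card_ge (zpowers_le.2 ha) ?_
          rw [Nat.card_zpowers, Nat.card_zpowers, ← MulAut.conj_apply, MulEquiv.orderOf_eq]
        obtain ⟨l, hl⟩ := mem_zpowers_iff.1 (heq ▸ mem_zpowers x : x ∈ zpowers (a * x * a⁻¹))
        exact mem_zpowers_iff.2 ⟨l, by rw [conj_zpow] at hl; calc x ^ l = a⁻¹ * (a * x ^ l * a⁻¹) * a := by group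
          _ = a⁻¹ * x * a := by rw [hl]⟩
      rw [show (k * g)⁻¹ * x * (k * g) = g⁻¹ * (k⁻¹ * x * k) * g by group]
      obtain ⟨l, hl⟩ := mem_zpowers_iff.1 (hn hk)
      rw [← hl, show g⁻¹ * x ^ l * g = (g⁻¹ * x * g) ^ l by
        have := conj_zpow (a := g⁻¹) (b := x) (i := l); rw [inv_inv] at this; exact this.symm]
      exact zpow_mem (hn hg) l
    obtain ⟨m, hm'⟩ := mem_zpowers_iff.1 hm
    set c := (k * g)⁻¹ * (g * k) with hc
    rw [e, show k * g * c * (k * g)⁻¹ * x * (k * g * c * (k * g)⁻¹)⁻¹ =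
      k * g * (c * ((k * g)⁻¹ * x * (k * g)) * c⁻¹) * (k * g)⁻¹ by group, ← hm', ← conj_zpow, h2, hm']
    group
  exact mul_inv_eq_iff_eq_mul.1 h3

/-- An abelian normal subgroup with a coprime central extension inside it gives a normal subgroup of
order prime to `p`. -/
theorem exists_coprime_normal {p : ℕ} {N K : Subgroup G} (hN : N.Normal) (hK : K.Normal)
    (hNK : N < K) (hKC : K ≤ centralizer (N : Set G)) (hcop : (Nat.card N).Coprime (N.relIndex K))
    (hp : ∀ q : ℕ, q.Prime → q ∣ Nat.card N → q = p) (hp' : p ∣ Nat.card N) (hne1 : ¬ p ∣ 1) :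
    ∃ R : Subgroup G, R.Normal ∧ R ≠ ⊥ ∧ ¬ p ∣ Nat.card R := by
  classical
  set M := N.subgroupOf K with hM
  have hMn : M.Normal := normal_subgroupOf
  have hMc : Nat.card M = Nat.card N := Nat.card_congr (subgroupOfEquivOfLe hNK.le).toEquiv
  obtain ⟨R, hR⟩ := exists_right_complement'_of_coprime (N := M) (by rw [hMc]; exact hcop)
  have hRc : Nat.card R = N.relIndex K := hR.symm.index_eq_card.symm
  have hcen : ∀ m ∈ M, ∀ x : K, m * x = x * m := fun m hm x =>
    Subtype.ext (mem_centralizer_iff.1 (hKC x.2) _ hm)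
  -- members of the complement are characterised by their order
  have hmem : ∀ x : K, x ^ Nat.card R = 1 → x ∈ R := by
    intro x hx
    obtain ⟨⟨⟨m, hm⟩, ⟨r, hr⟩⟩, rfl⟩ := hR.2 x
    have hc : Commute m r := hcen m hm r
    have hr1 : r ^ Nat.card R = 1 :=
      orderOf_dvd_iff_pow_eq_one.1 (orderOf_dvd_natCard R hr)
    have hm1 : m ^ Nat.card R = 1 := by
      have hx' : (m * r) ^ Nat.card R = 1 := hx
      rwa [hc.mul_pow, hr1, mul_one] at hx'
    have hm2 : orderOf m ∣ Nat.card M := orderOf_dvd_natCard M hm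
    have : m = 1 := orderOf_eq_one_iff.1 (Nat.eq_one_of_dvd_coprimes
      (show (Nat.card R).Coprime (Nat.card M) by rw [hRc, hMc]; exact hcop.symm)
      (orderOf_dvd_of_pow_eq_one hm1) hm2)
    show m * r ∈ R
    rw [this, one_mul]
    exact hr
  refine ⟨R.map K.subtype, ⟨?_⟩, ?_, ?_⟩
  · rintro _ ⟨x, hx, rfl⟩ g
    refine ⟨⟨g * x * g⁻¹, hK.conj_mem x x.2 g⟩, hmem _ (Subtype.ext ?_), rfl⟩
    have hx1 : (x : G) ^ Nat.card R = 1 := by
      rw [← Subgroup.coe_pow, orderOf_dvd_iff_pow_eq_one.1 (orderOf_dvd_natCard R hx), Subgroup.coe_one]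
    rw [Subgroup.coe_pow, Subgroup.coe_one, conj_pow, hx1, mul_one, mul_inv_cancel]
  · intro e
    rw [map_eq_bot_iff_of_injective _ K.subtype_injective] at e
    rw [e, card_bot] at hRc
    exact hNK.not_ge (relIndex_eq_one.1 hRc.symm)
  · rw [card_map_of_injective K.subtype_injective, hRc]
    intro h
    have hq := Nat.eq_one_of_dvd_coprimes hcop hp' h
    by_cases hN1 : Nat.card N = 1
    · exact hne1 (hN1 ▸ hp')
    obtain ⟨q, hq1, hq2⟩ := Nat.exists_prime_and_dvd hN1
    exact hq1.ne_one ((hp q hq1 hq2).trans hq)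

variable (p : ℕ) [hpf : Fact p.Prime]

/-- A normal subgroup of order `p` and no normal subgroup of order prime to `p`. -/
theorem bound_of_order_p (hsol : Group.IsSolvable G) (hp2 : p ^ 2 ∣ Nat.card G)
    {N : Subgroup G} (hNn : N.Normal) (hN : Nat.card N = p) (hidx : ¬ p ^ 2 ∣ N.index)
    (hno : ∀ R : Subgroup G, R.Normal → R ≠ ⊥ → p ∣ Nat.card R) :
    49 * p ≤ 60 * Nat.card (ConjClasses G) := by
  classical
  have hp := hpf.out
  have hpN : ∀ q : ℕ, q.Prime → q ∣ Nat.card N → q = p := fun q hq h =>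
    (Nat.prime_dvd_prime_iff_eq hq hp).1 (hN ▸ h)
  have hNcomm : ∀ x ∈ N, ∀ y ∈ N, x * y = y * x := fun x hx y hy => by
    have : IsCyclic N := isCyclic_of_prime_card hN
    exact congrArg Subtype.val ((IsCyclic.isMulCommutative (α := N)).is_comm.comm (⟨x, hx⟩ : N) ⟨y, hy⟩)
  set C := centralizer (N : Set G)
  have hCn : C.Normal := inferInstance
  have hNC : N ≤ C := fun x hx => mem_centralizer_iff.2 fun y hy => hNcomm y hy x hx
  have hCidx : ¬ p ∣ C.index := by
    intro h
    obtain ⟨x, hx⟩ : ∃ x : G, zpowers x = N := by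
      have : IsCyclic N := isCyclic_of_prime_card hN
      obtain ⟨x, hx⟩ := IsCyclic.exists_generator (α := N)
      exact ⟨x, le_antisymm (zpowers_le.2 x.2) fun y hy => by
        obtain ⟨i, hi⟩ := mem_zpowers_iff.1 (hx ⟨y, hy⟩)
        exact mem_zpowers_iff.2 ⟨i, by simpa using congrArg Subtype.val hi⟩⟩
    -- the conjugates of a generator
    let f : G ⧸ C → {y : N // y ≠ 1} := fun q => ⟨⟨q.out * x * q.out⁻¹, hNn.conj_mem x (hx ▸ mem_zpowers x) _⟩,
      fun e => by
        have h1 := conj_eq_one_iff.1 (congrArg Subtype.val e)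
        rw [← hx, h1, zpowers_one_eq_bot, card_bot] at hN
        exact hp.ne_one hN.symm⟩
    have hf : Function.Injective f := fun a b e => by
      have e' : a.out * x * a.out⁻¹ = b.out * x * b.out⁻¹ := congrArg (fun y => ((y : N) : G)) (congrArg Subtype.val e)
      rw [← a.out_eq', ← b.out_eq', QuotientGroup.eq]
      have hfix : (a.out⁻¹ * b.out) * x = x * (a.out⁻¹ * b.out) := by
        calc a.out⁻¹ * b.out * x = a.out⁻¹ * (b.out * x * b.out⁻¹) * b.out := by group
          _ = x * (a.out⁻¹ * b.out) := by rw [← e']; group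
      refine mem_centralizer_iff.2 fun y hy => ?_
      obtain ⟨i, rfl⟩ := mem_zpowers_iff.1 (hx ▸ hy : y ∈ zpowers x)
      exact ((show Commute (a.out⁻¹ * b.out) x from hfix).zpow_right i).eq.symm
    have hcl : Nat.card {y : N // y ≠ 1} = p - 1 := by
      have : Fintype N := Fintype.ofFinite N
      rw [Nat.card_eq_fintype_card, Fintype.card_subtype_compl, Fintype.card_subtype_eq,
        ← Nat.card_eq_fintype_card, hN]
    have := (Nat.card_le_card_of_injective f hf).trans_eq hcl
    rw [← Subgroup.index_eq_card] at this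
    have := Nat.le_of_dvd (Nat.pos_of_ne_zero index_ne_zero_of_finite) h
    have := hp.pos
    omega
  -- a minimal normal subgroup above `N` inside the centralizer
  have hNlt : N < C := by
    refine lt_of_le_of_ne hNC fun e => ?_
    have h1 := N.card_mul_index
    rw [hN] at h1
    rw [← h1, pow_two] at hp2
    exact hCidx (e ▸ Nat.dvd_of_mul_dvd_mul_left hp.pos hp2)
  have : N.Normal := hNn
  obtain ⟨Mb, hMbn, hMb1, hMbC, hMbmin⟩ := CfsgLib.Solvable.exists_minimal_normal_le
    (N := C.map (QuotientGroup.mk' N)) (hCn.map _ (QuotientGroup.mk'_surjective N))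
    (fun e => hNlt.not_ge (by rwa [Subgroup.map_eq_bot_iff, QuotientGroup.ker_mk'] at e))
  have : Group.IsSolvable G := hsol
  have : Group.IsSolvable Mb := inferInstance
  obtain ⟨q, hq, hMbp, -, -⟩ := CfsgLib.Solvable.exists_isPGroup_of_minimal_normal hMb1 hMbmin
  set M := Mb.comap (QuotientGroup.mk' N) with hMdef
  have hNM : N ≤ M := fun x hx => by
    show QuotientGroup.mk' N x ∈ Mb
    rw [show QuotientGroup.mk' N x = 1 from (QuotientGroup.eq_one_iff x).2 hx]; exact one_mem _
  have hMn : M.Normal := hMbn.comap _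
  have hrel : N.relIndex M = Nat.card Mb := by
    have := Subgroup.relIndex_comap (⊥ : Subgroup (G ⧸ N)) (QuotientGroup.mk' N) M
    rw [MonoidHom.comap_bot, QuotientGroup.ker_mk', hMdef,
      map_comap_eq_self_of_surjective (QuotientGroup.mk'_surjective N), relIndex_bot_left] at this
    exact this
  have hNM' : N < M := lt_of_le_of_ne hNM fun e => by
    rw [← e, relIndex_self] at hrel
    exact hMb1 (card_eq_one.1 hrel.symm)
  have hMC : M ≤ C := by
    intro x hx
    obtain ⟨c, hc, e⟩ := hMbC (show QuotientGroup.mk' N x ∈ Mb from hx)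
    have := mul_mem hc (hNC (QuotientGroup.eq.1 e))
    rwa [mul_inv_cancel_left] at this
  have : Fact q.Prime := ⟨hq⟩
  obtain ⟨j, hj⟩ := hMbp.exists_card_eq
  have hMp : p ∣ Nat.card Mb := by
    by_contra h
    obtain ⟨R, hR, hR1, hRp⟩ := exists_coprime_normal hNn hMn hNM' hMC
      (by rw [hN, hrel]; exact hp.coprime_iff_not_dvd.2 h) hpN (by rw [hN]) hp.not_dvd_one
    exact hRp (hno R hR hR1)
  have hqp : q = p := ((Nat.prime_dvd_prime_iff_eq hp hq).1 (hp.dvd_of_dvd_pow (hj ▸ hMp))).symm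
  subst hqp
  have hj1 : j = 1 := by
    rcases j with _ | _ | j
    · rw [hj, pow_zero] at hMp; exact absurd (Nat.dvd_one.1 hMp) hp.ne_one
    · rfl
    · exfalso
      refine hidx (dvd_trans (pow_dvd_pow q (show 2 ≤ j + 1 + 1 by omega)) ?_)
      rw [← hj, N.index_eq_card]
      exact Mb.card_subgroup_dvd_card
  have hMcard : Nat.card M = q ^ 2 := by
    have := relIndex_mul_relIndex ⊥ N M bot_le hNM
    simp only [relIndex_bot_left] at this
    rw [← this, hN, hrel, hj, hj1, pow_one, pow_two]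
  have hMcomm : ∀ x ∈ M, ∀ y ∈ M, x * y = y * x := fun x hx y hy => by
    have := IsPGroup.isMulCommutative_of_card_eq_prime_sq (p := q) (G := M) hMcard
    exact congrArg Subtype.val (this.is_comm.comm (⟨x, hx⟩ : M) ⟨y, hy⟩)
  have hMidx : ¬ q ∣ M.index := fun h => hidx (by
    rw [← relIndex_mul_index hNM, hrel, hj, hj1, pow_one, pow_two]; exact mul_dvd_mul_left q h)
  have hself : centralizer (M : Set G) = M := by
    by_contra hne
    have hle : M ≤ centralizer (M : Set G) := fun x hx => mem_centralizer_iff.2 fun y hy => hMcomm y hy x hx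
    obtain ⟨R, hR, hR1, hRp⟩ := exists_coprime_normal hMn (inferInstance : (centralizer (M : Set G)).Normal)
      (lt_of_le_of_ne hle (Ne.symm hne)) le_rfl
      (by rw [hMcard]; exact (hp.coprime_iff_not_dvd.2 fun h => hMidx
        (h.trans (relIndex_dvd_index_of_normal M _))).pow_left 2)
      (fun r hr h => (Nat.prime_dvd_prime_iff_eq hr hp).1 (hr.dvd_of_dvd_pow (hMcard ▸ h)))
      (by rw [hMcard]; exact dvd_pow_self q two_ne_zero) hp.not_dvd_one
    exact hRp (hno R hR hR1)
  -- the quotient is abelian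
  obtain ⟨S, hS1, hS2⟩ : ∃ S : Set G, (∀ x ∈ S, ∀ g : G, g * x * g⁻¹ ∈ zpowers x) ∧ M ≤ closure S := by
    by_cases hcyc : ∃ x ∈ M, orderOf x = q ^ 2
    · obtain ⟨x, hx, hox⟩ := hcyc
      have hz : zpowers x = M := Subgroup.eq_of_le_of_card_ge (zpowers_le.2 hx)
        (by rw [Nat.card_zpowers, hox, hMcard])
      exact ⟨{x}, fun y hy g => by obtain rfl := Set.mem_singleton_iff.1 hy; rw [hz]; exact hMn.conj_mem _ hx g,
        hz ▸ zpowers_le.2 (subset_closure rfl)⟩
    push Not at hcyc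
    have hexp : ∀ x ∈ M, x ^ q = 1 := fun x hx => by
      obtain ⟨i, hi2, hi⟩ := (Nat.dvd_prime_pow hp).1 (hMcard ▸ orderOf_dvd_natCard M hx)
      refine orderOf_dvd_iff_pow_eq_one.1 ?_
      rw [hi]
      rcases i with _ | _ | _ | i
      · exact one_dvd _
      · rw [pow_one]
      · exact absurd hi (hcyc x hx)
      · omega
    let _ : CommGroup M := { (inferInstance : Group M) with
      mul_comm := fun a b => Subtype.ext (hMcomm _ a.2 _ b.2) }
    let ρ₀ : G →* MulAut M := MulAut.conjNormal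
    have hker : M ≤ ρ₀.ker := fun m hm => MonoidHom.mem_ker.2 (MulEquiv.ext fun x => Subtype.ext (by
      rw [MulAut.conjNormal_apply, MulAut.one_apply, hMcomm m hm _ x.2, mul_inv_cancel_right]))
    let ρ : G ⧸ M →* MulAut M := QuotientGroup.lift M ρ₀ hker
    obtain ⟨U, -, hUW, hWU, hUi⟩ := CfsgLib.Coprime.exists_invariant_compl (X := G ⧸ M) hp ρ
      (by rw [← index_eq_card]; exact (hp.coprime_iff_not_dvd.2 hMidx).symm)
      (T := ⊤) (W := N.subgroupOf M) (fun t _ => Subtype.ext (hexp _ t.2)) le_top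
      (fun _ _ _ => mem_top _) (fun g w hw => by
        obtain ⟨g, rfl⟩ := QuotientGroup.mk_surjective g
        exact hNn.conj_mem _ hw g)
    have hN2 : Nat.card (N.subgroupOf M) = q := by rw [Nat.card_congr (subgroupOfEquivOfLe hNM).toEquiv, hN]
    have hU2 : Nat.card U = q := by
      have hc : Subgroup.IsComplement' (N.subgroupOf M) U := isComplement'_of_disjoint_and_mul_eq_univ
        (disjoint_iff.2 (by rw [inf_comm]; exact hUW))
        (by rw [← normal_mul, hWU, coe_top])
      have := hc.card_mul_card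
      rw [hN2, hMcard, pow_two] at this
      exact Nat.eq_of_mul_eq_mul_left hp.pos this
    obtain ⟨x, hx, hx1⟩ := (N.subgroupOf M).bot_or_exists_ne_one.resolve_left fun e => by
      rw [e, card_bot] at hN2; exact hp.ne_one hN2.symm
    obtain ⟨y, hy, hy1⟩ := U.bot_or_exists_ne_one.resolve_left fun e => by
      rw [e, card_bot] at hU2; exact hp.ne_one hU2.symm
    have hgen : ∀ {K : Subgroup M} {z : M}, Nat.card K = q → z ∈ K → z ≠ 1 →
        ∀ w ∈ K, ((w : G)) ∈ zpowers (z : G) := fun {K z} hK hz hz1 w hw => by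
      have hzK : zpowers z = K := Subgroup.eq_of_le_of_card_ge (zpowers_le.2 hz) (by
        rw [Nat.card_zpowers, hK, orderOf_eq_prime (Subtype.ext (hexp _ z.2) : z ^ q = 1) hz1])
      obtain ⟨i, hi⟩ := mem_zpowers_iff.1 (hzK ▸ hw : w ∈ zpowers z)
      exact mem_zpowers_iff.2 ⟨i, by rw [← hi]; simp⟩
    refine ⟨{(x : G), (y : G)}, ?_, ?_⟩
    · rintro z (rfl | rfl) g
      · exact hgen hN2 hx hx1 ⟨_, hMn.conj_mem _ x.2 g⟩ (hNn.conj_mem _ hx g)
      · exact hgen hU2 hy hy1 ⟨_, hMn.conj_mem _ y.2 g⟩ (hUi (g : G ⧸ M) y hy)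
    · intro m hm
      have hmem : (⟨m, hm⟩ : M) ∈ N.subgroupOf M ⊔ U := by rw [hWU]; exact mem_top _
      obtain ⟨a, ha, b, hb, hab⟩ := mem_sup.1 hmem
      rw [← show (a : G) * b = m from congrArg Subtype.val hab]
      have hxS : (x : G) ∈ closure ({(x : G), (y : G)} : Set G) := subset_closure (Set.mem_insert (x : G) _)
      have hyS : (y : G) ∈ closure ({(x : G), (y : G)} : Set G) :=
        subset_closure (Set.mem_insert_of_mem (x : G) rfl)
      have h1 : (a : G) ∈ zpowers (x : G) := hgen hN2 hx hx1 a ha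
      have h2 : (b : G) ∈ zpowers (y : G) := hgen hU2 hy hy1 b hb
      exact Subgroup.mul_mem _ (Subgroup.zpowers_le.2 hxS h1) (Subgroup.zpowers_le.2 hyS h2)
  have : M.Normal := hMn
  have hab : ∀ a b : G ⧸ M, a * b = b * a := by
    intro a b
    obtain ⟨g, rfl⟩ := QuotientGroup.mk_surjective a
    obtain ⟨k, rfl⟩ := QuotientGroup.mk_surjective b
    have hle : g * k * g⁻¹ * k⁻¹ ∈ centralizer (M : Set G) := by
      have : closure S ≤ centralizer ({g * k * g⁻¹ * k⁻¹} : Set G) := (closure_le _).2 fun x hx =>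
        mem_centralizer_singleton_iff.2 (comm_fix (hS1 x hx g) (hS1 x hx k)).symm
      exact mem_centralizer_iff.2 fun m hm => mem_centralizer_singleton_iff.1 (this (hS2 hm))
    rw [hself] at hle
    have := (QuotientGroup.eq_one_iff _).2 hle
    rwa [QuotientGroup.mk_mul, QuotientGroup.mk_mul, QuotientGroup.mk_mul, QuotientGroup.mk_inv,
      QuotientGroup.mk_inv, mul_inv_eq_one, mul_inv_eq_iff_eq_mul] at this
  have hk : Nat.card (ConjClasses (G ⧸ M)) = Nat.card (G ⧸ M) :=
    (Nat.card_eq_of_bijective ConjClasses.mk ⟨fun a b e => by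
      obtain ⟨c, hc⟩ := isConj_iff.1 (ConjClasses.mk_eq_mk_iff_isConj.1 e)
      rw [← hc, hab c a, mul_inv_cancel_right], ConjClasses.mk_surjective⟩).symm
  have hmain := classes_quotient_add M hMcomm
  rw [hk, ← index_eq_card, hMcard] at hmain
  set i := M.index
  set k := Nat.card (ConjClasses G)
  have hi : 0 < i := Nat.pos_of_ne_zero index_ne_zero_of_finite
  have h2 := hp.two_le
  have hsq : q ^ 2 - 1 + 1 = q ^ 2 := Nat.succ_pred_eq_of_pos (pow_pos hp.pos 2)
  by_contra hlt
  push Not at hlt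
  have h1 : (60 * k + 1) * i ≤ 49 * q * i := Nat.mul_le_mul_right i hlt
  nlinarith [sq_nonneg ((i : ℤ) * 120 - 49 * q), hmain, h1, hsq, h2]

/-- Reduction to self-centralizing minimal normal subgroups. -/
theorem reduce
    (hcrit : ∀ (G : Type u) [Group G] [Finite G] (N : Subgroup G) (n : ℕ), Crit G p n N →
      49 * p ≤ 60 * Nat.card (ConjClasses G))
    (G : Type u) [Group G] [Finite G] (hsol : Group.IsSolvable G) (hp2 : p ^ 2 ∣ Nat.card G) :
    49 * p ≤ 60 * Nat.card (ConjClasses G) := by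
  classical
  obtain ⟨m, hm⟩ : ∃ m, Nat.card G = m := ⟨_, rfl⟩
  induction m using Nat.strong_induction_on generalizing G with
  | _ m ih =>
    have hp := hpf.out
    have : Group.IsSolvable G := hsol
    -- quotients with `p ^ 2` in the order
    have hquot : ∀ (K : Subgroup G) [K.Normal], K ≠ ⊥ → p ^ 2 ∣ K.index →
        49 * p ≤ 60 * Nat.card (ConjClasses G) := by
      intro K _ hK h
      have hlt : Nat.card (G ⧸ K) < m := by
        rw [← hm, ← index_eq_card, ← K.card_mul_index]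
        refine (Nat.lt_mul_iff_one_lt_left (Nat.pos_of_ne_zero index_ne_zero_of_finite)).2 ?_
        exact K.one_lt_card_iff_ne_bot.2 hK
      exact (ih _ hlt (G ⧸ K) inferInstance (by rwa [← index_eq_card]) rfl).trans
        (Nat.mul_le_mul_left 60 (classes_quotient_le K))
    by_cases hR : ∃ R : Subgroup G, R.Normal ∧ R ≠ ⊥ ∧ ¬ p ∣ Nat.card R
    · obtain ⟨R, hRn, hR1, hRp⟩ := hR
      refine hquot R hR1 ((Nat.Coprime.dvd_of_dvd_mul_left ?_ (R.card_mul_index.symm ▸ hp2)))
      exact (hp.coprime_iff_not_dvd.2 hRp).pow_left 2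
    push Not at hR
    by_cases hone : ∃ N : Subgroup G, N.Normal ∧ Nat.card N = p
    · obtain ⟨N, hNn, hN⟩ := hone
      by_cases hidx : p ^ 2 ∣ N.index
      · exact hquot N (fun e => by rw [e, card_bot] at hN; exact hp.ne_one hN.symm) hidx
      exact bound_of_order_p p hsol hp2 hNn hN hidx hR
    push Not at hone
    have : Nontrivial G := Finite.one_lt_card_iff_nontrivial.1 (lt_of_lt_of_le
      (Nat.one_lt_pow two_ne_zero hp.one_lt) (Nat.le_of_dvd Nat.card_pos hp2))
    obtain ⟨N, hNn, hN1, hNmin⟩ := CfsgLib.Solvable.exists_minimal_normal (G := G)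
    by_cases hidx : p ^ 2 ∣ N.index
    · exact hquot N hN1 hidx
    -- every minimal normal subgroup has order at least `p ^ 2`
    have hbig : ∀ K : Subgroup G, K.Normal → K ≠ ⊥ →
        (∀ L : Subgroup G, L.Normal → L ≤ K → L = ⊥ ∨ L = K) →
        ∃ j, 2 ≤ j ∧ Nat.card K = p ^ j ∧ (∀ x ∈ K, x ^ p = 1) ∧ ∀ x ∈ K, ∀ y ∈ K, x * y = y * x := by
      intro K hK hK1 hKmin
      obtain ⟨q, hq, hKp, hexp, hcomm⟩ := CfsgLib.Solvable.exists_isPGroup_of_minimal_normal hK1 hKmin
      have : Fact q.Prime := ⟨hq⟩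
      obtain ⟨j, hj⟩ := hKp.exists_card_eq
      have hpq : p = q := (Nat.prime_dvd_prime_iff_eq hp hq).1 (hp.dvd_of_dvd_pow (hj ▸ hR K hK hK1))
      subst hpq
      refine ⟨j, ?_, hj, hexp, fun x hx y hy => congrArg Subtype.val (hcomm.is_comm.comm (⟨x, hx⟩ : K) ⟨y, hy⟩)⟩
      rcases j with _ | _ | j
      · exact absurd (card_eq_one.1 (by rw [hj, pow_zero])) hK1
      · exact absurd (by rw [hj, pow_one]) (hone K hK)
      · omega
    obtain ⟨n, hn2, hNc, hexp, hcomm⟩ := hbig N hNn hN1 hNmin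
    have hmin : ∀ K : Subgroup G, K.Normal → K ≠ ⊥ → N ≤ K := by
      intro K hK hK1
      obtain ⟨L, hLn, hL1, hLK, hLmin⟩ := CfsgLib.Solvable.exists_minimal_normal_le hK hK1
      by_contra hno
      have hd : L ⊓ N = ⊥ := (hNmin (L ⊓ N) inferInstance inf_le_right).resolve_right fun e =>
        hno ((inf_eq_right.1 e).trans hLK)
      obtain ⟨j, hj2, hLc, -, -⟩ := hbig L hLn hL1 hLmin
      refine hidx ((pow_dvd_pow p hj2).trans (hLc ▸ ?_))
      rw [index_eq_card]
      refine Subgroup.card_dvd_of_injective ((QuotientGroup.mk' N).comp L.subtype) ?_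
      · rw [injective_iff_map_eq_one]
        intro x hx
        exact Subtype.ext ((mem_bot (x := (x : G))).1 (hd ▸ mem_inf.2 ⟨x.2, (QuotientGroup.eq_one_iff _).1 hx⟩))
    refine hcrit G N n ⟨hsol, hNn, hNc, hn2, hexp, hcomm, ?_, hmin, hidx⟩
    -- self-centralizing
    by_contra hne
    have hNC : N ≤ centralizer (N : Set G) := fun x hx => mem_centralizer_iff.2 fun y hy => hcomm y hy x hx
    obtain ⟨Mb, hMbn, hMb1, hMbC, hMbmin⟩ := CfsgLib.Solvable.exists_minimal_normal_le
      (N := (centralizer (N : Set G)).map (QuotientGroup.mk' N))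
      ((inferInstance : (centralizer (N : Set G)).Normal).map _ (QuotientGroup.mk'_surjective N))
      (fun e => (lt_of_le_of_ne hNC (Ne.symm hne)).not_ge
        (by rwa [Subgroup.map_eq_bot_iff, QuotientGroup.ker_mk'] at e))
    obtain ⟨q, hq, hMbp, -, -⟩ := CfsgLib.Solvable.exists_isPGroup_of_minimal_normal hMb1 hMbmin
    set M := Mb.comap (QuotientGroup.mk' N) with hMdef
    have hNM : N ≤ M := fun x hx => by
      show QuotientGroup.mk' N x ∈ Mb
      rw [show QuotientGroup.mk' N x = 1 from (QuotientGroup.eq_one_iff x).2 hx]; exact one_mem _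
    have hMn : M.Normal := hMbn.comap _
    have hrel : N.relIndex M = Nat.card Mb := by
      have := Subgroup.relIndex_comap (⊥ : Subgroup (G ⧸ N)) (QuotientGroup.mk' N) M
      rw [MonoidHom.comap_bot, QuotientGroup.ker_mk', hMdef,
        map_comap_eq_self_of_surjective (QuotientGroup.mk'_surjective N), relIndex_bot_left] at this
      exact this
    have hNM' : N < M := lt_of_le_of_ne hNM fun e => by
      rw [← e, relIndex_self] at hrel
      exact hMb1 (card_eq_one.1 hrel.symm)
    have hMC : M ≤ centralizer (N : Set G) := by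
      intro x hx
      obtain ⟨c, hc, e⟩ := hMbC (show QuotientGroup.mk' N x ∈ Mb from hx)
      have := mul_mem hc (hNC (QuotientGroup.eq.1 e))
      rwa [mul_inv_cancel_left] at this
    have : Fact q.Prime := ⟨hq⟩
    obtain ⟨j, hj⟩ := hMbp.exists_card_eq
    have hMp : p ∣ Nat.card Mb := by
      by_contra h
      obtain ⟨R, hR', hR1, hRp⟩ := exists_coprime_normal hNn hMn hNM' hMC
        (by rw [hNc, hrel]; exact (hp.coprime_iff_not_dvd.2 h).pow_left n)
        (fun r hr hd => (Nat.prime_dvd_prime_iff_eq hr hp).1 (hr.dvd_of_dvd_pow (hNc ▸ hd)))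
        (by rw [hNc]; exact dvd_pow_self p (by omega)) hp.not_dvd_one
      exact hRp (hR R hR' hR1)
    have hqp : p = q := (Nat.prime_dvd_prime_iff_eq hp hq).1 (hp.dvd_of_dvd_pow (hj ▸ hMp))
    subst hqp
    have hcardMb : Nat.card Mb = p := by
      rcases j with _ | _ | j
      · rw [hj, pow_zero] at hMp; exact absurd (Nat.dvd_one.1 hMp) hp.ne_one
      · rw [hj, pow_one]
      · refine absurd ?_ hidx
        rw [N.index_eq_card]
        exact ((pow_dvd_pow p (show 2 ≤ j + 1 + 1 by omega)).trans (dvd_of_eq hj.symm)).trans Mb.card_subgroup_dvd_card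
    have hMidx : ¬ p ∣ M.index := fun h => hidx (by
      rw [← relIndex_mul_index hNM, hrel, hcardMb, pow_two]; exact mul_dvd_mul_left p h)
    -- generated by `N` and one element
    obtain ⟨x, hxM, hxN⟩ := SetLike.exists_of_lt hNM'
    have hgen : ∀ y ∈ M, ∃ i : ℤ, (x ^ i)⁻¹ * y ∈ N := by
      have hz : zpowers (QuotientGroup.mk' N x) = Mb := Subgroup.eq_of_le_of_card_ge (zpowers_le.2 hxM) (by
        rw [Nat.card_zpowers, hcardMb, orderOf_eq_prime (x := QuotientGroup.mk' N x) (p := p) ?_ fun e => hxN ((QuotientGroup.eq_one_iff x).1 e)]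
        have := congrArg Subtype.val (pow_card_eq_one' (x := (⟨_, hxM⟩ : Mb)))
        rw [hcardMb] at this
        simpa using this)
      intro y hy
      obtain ⟨i, hi⟩ := mem_zpowers_iff.1 (hz.symm ▸ hy : QuotientGroup.mk' N y ∈ zpowers (QuotientGroup.mk' N x))
      rw [← map_zpow] at hi
      exact ⟨i, QuotientGroup.eq.1 hi⟩
    have hxc : ∀ i : ℤ, ∀ a ∈ N, Commute (x ^ i) a := fun i a ha =>
      (show Commute x a from (mem_centralizer_iff.1 (hMC hxM) a ha).symm).zpow_left i
    have hMcomm : ∀ a ∈ M, ∀ b ∈ M, Commute a b := by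
      intro a ha b hb
      obtain ⟨i, hi⟩ := hgen a ha
      obtain ⟨k, hk⟩ := hgen b hb
      rw [← mul_inv_cancel_left (x ^ i) a, ← mul_inv_cancel_left (x ^ k) b]
      exact ((((Commute.refl x).zpow_zpow i k).mul_right (hxc i _ hk))).mul_left
        ((hxc k _ hi).symm.mul_right (hcomm _ hi _ hk))
    let _ : CommGroup M := { (inferInstance : Group M) with
      mul_comm := fun a b => Subtype.ext (hMcomm _ a.2 _ b.2).eq }
    by_cases hxp : x ^ p = 1
    · have hexpM : ∀ y ∈ M, y ^ p = 1 := fun y hy => by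
        obtain ⟨i, hi⟩ := hgen y hy
        rw [← mul_inv_cancel_left (x ^ i) y, (hxc i _ hi).mul_pow, hexp _ hi, mul_one, ← zpow_natCast,
          ← zpow_mul, mul_comm, zpow_mul, zpow_natCast, hxp, one_zpow]
      let ρ₀ : G →* MulAut M := MulAut.conjNormal
      have hker : M ≤ ρ₀.ker := fun m hm => MonoidHom.mem_ker.2 (MulEquiv.ext fun y => Subtype.ext (by
        rw [MulAut.conjNormal_apply, MulAut.one_apply, (hMcomm m hm _ y.2).eq, mul_inv_cancel_right]))
      let ρ : G ⧸ M →* MulAut M := QuotientGroup.lift M ρ₀ hker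
      obtain ⟨U, -, hUW, hWU, hUi⟩ := CfsgLib.Coprime.exists_invariant_compl (X := G ⧸ M) hp ρ
        (by rw [← index_eq_card]; exact (hp.coprime_iff_not_dvd.2 hMidx).symm)
        (T := ⊤) (W := N.subgroupOf M) (fun t _ => Subtype.ext (hexpM _ t.2)) le_top
        (fun _ _ _ => mem_top _) (fun g w hw => by
          obtain ⟨g, rfl⟩ := QuotientGroup.mk_surjective g
          exact hNn.conj_mem _ hw g)
      have hUn : (U.map M.subtype).Normal := ⟨by
        rintro _ ⟨y, hy, rfl⟩ g
        exact ⟨⟨_, hMn.conj_mem _ y.2 g⟩, hUi (g : G ⧸ M) y hy, rfl⟩⟩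
      have hU1 : U.map M.subtype ≠ ⊥ := fun e => by
        rw [map_eq_bot_iff_of_injective _ M.subtype_injective] at e
        rw [e, sup_bot_eq] at hWU
        exact hxN (show (⟨x, hxM⟩ : M) ∈ N.subgroupOf M by rw [hWU]; exact mem_top _)
      obtain ⟨y, hy, hy1⟩ := N.bot_or_exists_ne_one.resolve_left hN1
      obtain ⟨z, hz, hzy⟩ := hmin _ hUn hU1 hy
      have hzb : z ∈ U ⊓ N.subgroupOf M := ⟨hz, (show M.subtype z ∈ N by rw [hzy]; exact hy)⟩
      rw [hUW, mem_bot] at hzb
      exact hy1 (by rw [← hzy, hzb]; rfl)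
    -- the `p`-th powers form a normal subgroup of order `p`
    let f : M →* M := powMonoidHom p
    have hIn : (f.range.map M.subtype).Normal := ⟨by
      rintro _ ⟨_, ⟨y, rfl⟩, rfl⟩ g
      exact ⟨f ⟨_, hMn.conj_mem _ y.2 g⟩, ⟨_, rfl⟩, by simp [f, conj_pow]⟩⟩
    have hI1 : f.range.map M.subtype ≠ ⊥ := fun e => hxp (by
      have : x ^ p ∈ f.range.map M.subtype := ⟨f ⟨x, hxM⟩, ⟨_, rfl⟩, by simp [f]⟩
      rwa [e, mem_bot] at this)
    have hle := Subgroup.card_dvd_of_le (hmin _ hIn hI1)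
    rw [card_map_of_injective M.subtype_injective, hNc] at hle
    have hdvd : Nat.card f.range ∣ p := by
      have hk : N.subgroupOf M ≤ f.ker := fun y hy => MonoidHom.mem_ker.2 (Subtype.ext (hexp _ hy))
      have := Subgroup.index_dvd_of_le hk
      rw [Subgroup.index_ker, show (N.subgroupOf M).index = N.relIndex M from rfl, hrel, hcardMb] at this
      exact this
    have := Nat.le_of_dvd hp.pos (hle.trans hdvd)
    have : p ^ 1 < p ^ n := Nat.pow_lt_pow_right hp.one_lt (by omega)
    rw [pow_one] at this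
    omega

end CfsgLib.ClassPSq
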