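import Cfsg.Agent.Lib.ClassNumberPSq.Assembly
import Cfsg.Agent.Lib.ClassNumberPSq.Reduce

/-!
Class numbers of solvable groups of order divisible by `p ^ 2`.
-/

set_option autoImplicit false
set_option linter.unusedSectionVars false
set_option linter.style.haveILetI false

namespace CfsgLib.ClassPSq

open Subgroup

universe u

/-- The bound in the critical configuration. -/
theorem crit_bound (p : ℕ) [hp : Fact p.Prime] (hp5 : 5 ≤ p) (G : Type u) [Group G] [Finite G] (N : Subgroup G)
    (n : ℕ) (h : Crit G p n N) : 49 * p ≤ 60 * Nat.card (ConjClasses G) := by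
  classical
  haveI : N.Normal := h.normal
  have hk := classes_quotient_add N h.comm
  rw [h.card] at hk
  have hG : Nat.card G = p ^ n * N.index := by rw [← N.card_mul_index, h.card]
  have hidx : N.index = Nat.card (G ⧸ N) := rfl
  have hK0 : 0 < Nat.card (ConjClasses (G ⧸ N)) := Nat.card_pos
  rcases Nat.lt_or_ge p 11 with hlt | hp11
  · have hpn : p ^ 2 ≤ p ^ n := Nat.pow_le_pow_right (by omega) h.two_le
    obtain ⟨k2, k3, k4⟩ := small_classes (G := G ⧸ N)
    obtain ⟨-, -, g4⟩ := small_classes (G := G)
    have hi0 : 1 ≤ N.index := Nat.one_le_iff_ne_zero.2 N.index_ne_zero_of_finite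
    have hp7 : p = 5 ∨ p = 7 := by
      have := hp.out
      interval_cases p <;> first | omega | (norm_num at this)
    rcases hp7 with rfl | rfl
    · by_contra hc
      have hkG : Nat.card (ConjClasses G) ≤ 4 := by omega
      have := g4 hkG
      have h25 : 25 * N.index ≤ 5 ^ n * N.index := Nat.mul_le_mul_right _ hpn
      have h1 : N.index = 1 := by omega
      rw [h1, mul_one, mul_one] at hk
      norm_num at hpn
      omega
    · by_contra hc
      have hkG : Nat.card (ConjClasses G) * N.index ≤ 5 * N.index := Nat.mul_le_mul_right _ (by omega)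
      norm_num at hpn
      rcases Nat.lt_or_ge (Nat.card (ConjClasses (G ⧸ N))) 5 with h5 | h5
      · interval_cases hK : Nat.card (ConjClasses (G ⧸ N))
        · have := k2 (by norm_num); omega
        · have := k2 (by norm_num); omega
        · have := k3 (by norm_num); omega
        · have := k4 (by norm_num); omega
      · have := Nat.mul_le_mul_right N.index h5
        omega
  -- the action on the normal subgroup
  letI : CommGroup N := { (inferInstance : Group N) with
    mul_comm := fun a b => Subtype.ext (h.comm _ a.2 _ b.2) }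
  let ρ : G ⧸ N →* MulAut N := QuotientGroup.lift N MulAut.conjNormal (fun g hg => by
    rw [MonoidHom.mem_ker]
    refine MulEquiv.ext fun x => Subtype.ext ?_
    rw [MulAut.conjNormal_apply, MulAut.one_apply, h.comm g hg x x.2, mul_inv_cancel_right])
  letI act : DistribMulAction (G ⧸ N) (Additive N) :=
    { smul := fun a v => Additive.ofMul (ρ a v.toMul)
      one_smul := fun v => by show Additive.ofMul (ρ 1 v.toMul) = v; rw [map_one]; rfl
      mul_smul := fun a b v => by
        show Additive.ofMul (ρ (a * b) v.toMul) = Additive.ofMul (ρ a (ρ b v.toMul))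
        rw [map_mul]; rfl
      smul_zero := fun a => by show Additive.ofMul (ρ a 1) = 0; rw [map_one]; rfl
      smul_add := fun a v w => by
        show Additive.ofMul (ρ a (v.toMul * w.toMul)) = _
        rw [map_mul]; rfl }
  have hf : ∀ a : G ⧸ N, (∀ v : Additive N, a • v = v) → a = 1 := by
    intro a ha
    obtain ⟨g, rfl⟩ := QuotientGroup.mk_surjective a
    refine (QuotientGroup.eq_one_iff g).2 ?_
    rw [← SetLike.mem_coe, ← h.cent, SetLike.mem_coe, mem_centralizer_iff]
    intro x hx
    have := congrArg Subtype.val (show ρ (g : G ⧸ N) ⟨x, hx⟩ = ⟨x, hx⟩ from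
      ha (Additive.ofMul (⟨x, hx⟩ : N)))
    change g * x * g⁻¹ = x at this
    exact (mul_inv_eq_iff_eq_mul.1 this).symm
  have hirr : CfsgLib.BaseTwo.Irr (G ⧸ N) (Additive N) := by
    intro W hW
    let K : Subgroup G := (AddSubgroup.toSubgroup' W).map N.subtype
    have hKn : K.Normal := ⟨by
      rintro _ ⟨x, hx, rfl⟩ g
      exact ⟨ρ (g : G ⧸ N) x, hW _ (mem_top (g : G ⧸ N)) _ hx, rfl⟩⟩
    by_cases hK : K = ⊥
    · left
      rw [AddSubgroup.eq_bot_iff_forall]
      intro v hv
      have hmem : ((v.toMul : N) : G) ∈ K := ⟨v.toMul, hv, rfl⟩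
      rw [hK, mem_bot] at hmem
      exact congrArg Additive.ofMul (Subtype.ext hmem : v.toMul = 1)
    · right
      rw [AddSubgroup.eq_top_iff']
      intro v
      obtain ⟨x, hx, hxv⟩ := h.min K hKn hK v.toMul.2
      obtain rfl : x = v.toMul := Subtype.ext hxv
      exact hx
  have hsol : Group.IsSolvable (G ⧸ N) := by
    haveI := h.solvable
    exact Group.isSolvable_of_surjective (QuotientGroup.mk'_surjective N)
  have hexp : ∀ v : Additive N, p • v = 0 := fun v =>
    show Additive.ofMul (v.toMul ^ p) = 0 by
      rw [show v.toMul ^ p = 1 from Subtype.ext (h.exp _ v.toMul.2)]; rfl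
  exact second_bound hp11 hsol hf hirr hexp h.two_le
    ((Nat.card_congr Additive.toMul).trans h.card) (by rwa [← hidx])

/-- A solvable group of order divisible by `p ^ 2` has at least `49 p / 60` classes. -/
theorem class_number_bound (G : Type u) [Group G] [Finite G] (hsol : Group.IsSolvable G) (p : ℕ)
    [hp : Fact p.Prime] (hp2 : p ^ 2 ∣ Nat.card G) : 49 * p ≤ 60 * Nat.card (ConjClasses G) := by
  rcases Nat.lt_or_ge p 5 with hlt | h5
  · obtain ⟨k2, k3, -⟩ := small_classes (G := G)
    have hle := Nat.le_of_dvd Nat.card_pos hp2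
    have hp23 : p = 2 ∨ p = 3 := by
      have := hp.out
      interval_cases p <;> first | omega | (norm_num at this)
    rcases hp23 with rfl | rfl
    · norm_num at hle
      rcases Nat.lt_or_ge (Nat.card (ConjClasses G)) 3 with h | h
      · have := k2 (by omega); omega
      · omega
    · norm_num at hle
      rcases Nat.lt_or_ge (Nat.card (ConjClasses G)) 4 with h | h
      · have := k3 (by omega); omega
      · omega
  · exact reduce p (fun G _ _ N n h => crit_bound p h5 G N n h) G hsol hp2

end CfsgLib.ClassPSq
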