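import Mathlib

/-!
Alternating pairings of finite abelian groups into cyclic groups: the order is a square and the
order of an isometry group is bounded by the recursive product `Bd`.
-/

set_option autoImplicit false

namespace CfsgLib.ClassPSq

/-- An alternating nondegenerate pairing. -/
structure IsPairing {W μ : Type*} [CommGroup W] [CommGroup μ] (β : W → W → μ) : Prop where
  mul_left : ∀ a b c, β (a * b) c = β a c * β b c
  mul_right : ∀ a b c, β a (b * c) = β a b * β a c
  alt : ∀ a, β a a = 1
  nondeg : ∀ a, (∀ b, β a b = 1) → a = 1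

/-- The largest prime factor. -/
def maxPrime (e : ℕ) : ℕ := e.primeFactors.sup id

theorem maxPrime_spec {e : ℕ} (he : 1 < e) : (maxPrime e).Prime ∧ maxPrime e ∣ e := by
  have hne : e.primeFactors.Nonempty := Nat.nonempty_primeFactors.2 he
  obtain ⟨q, hq, hqe⟩ := Finset.exists_mem_eq_sup e.primeFactors hne id
  rw [maxPrime, hqe]
  exact ⟨Nat.prime_of_mem_primeFactors hq, Nat.dvd_of_mem_primeFactors hq⟩

/-- The bound on the isometry group of a pairing on a group of order `e * e`. -/
def Bd (e : ℕ) : ℕ :=
  if h : 1 < e then (e * e - 1) * (e * e / maxPrime e) * Bd (e / maxPrime e) else 1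
termination_by e
decreasing_by exact Nat.div_lt_self (by omega) (maxPrime_spec h).1.one_lt

namespace IsPairing

variable {W μ : Type*} [CommGroup W] [CommGroup μ] {β : W → W → μ} (hβ : IsPairing β)
include hβ

theorem one_left (a : W) : β 1 a = 1 := by
  have := hβ.mul_left 1 1 a
  rwa [one_mul, left_eq_mul] at this

theorem one_right (a : W) : β a 1 = 1 := by
  have := hβ.mul_right a 1 1
  rwa [one_mul, left_eq_mul] at this

theorem skew (a b : W) : β b a = (β a b)⁻¹ := by
  have h := hβ.alt (a * b)
  rw [hβ.mul_left, hβ.mul_right, hβ.mul_right, hβ.alt, hβ.alt, one_mul, mul_one] at h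
  exact eq_inv_of_mul_eq_one_right h

theorem inv_left (a b : W) : β a⁻¹ b = (β a b)⁻¹ := by
  have := hβ.mul_left a⁻¹ a b
  rw [inv_mul_cancel, hβ.one_left] at this
  exact eq_inv_of_mul_eq_one_left this.symm

theorem pow_left (a b : W) (n : ℕ) : β (a ^ n) b = β a b ^ n := by
  induction n with
  | zero => simp [hβ.one_left]
  | succ n ih => rw [pow_succ, pow_succ, hβ.mul_left, ih]

theorem pow_right (a b : W) (n : ℕ) : β a (b ^ n) = β a b ^ n := by
  induction n with
  | zero => simp [hβ.one_right]
  | succ n ih => rw [pow_succ, pow_succ, hβ.mul_right, ih]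

/-- The pairing against a fixed element. -/
def toHom (x : W) : W →* μ where
  toFun w := β x w
  map_one' := hβ.one_right x
  map_mul' := hβ.mul_right x

theorem toHom_apply (x w : W) : hβ.toHom x w = β x w := rfl

variable [Finite W] [IsCyclic μ] [Finite μ]

/-- The perpendicular of an element of prime order has prime index, and pairs nondegenerately
modulo that element. -/
theorem reduce {x : W} {q : ℕ} (hq : q.Prime) (hx : orderOf x = q) :
    Nat.card (hβ.toHom x).ker * q = Nat.card W ∧ x ∈ (hβ.toHom x).ker ∧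
      (∀ c : μ, c ^ q = 1 → ∀ y, β x y ≠ 1 → ∃ j : ℕ, c = β x y ^ j) ∧
      ∀ k ∈ (hβ.toHom x).ker, (∀ l ∈ (hβ.toHom x).ker, β k l = 1) →
        k ∈ Subgroup.zpowers x := by
  classical
  haveI := Fintype.ofFinite μ
  haveI := Fact.mk hq
  have hxq : ∀ y, β x y ^ q = 1 := fun y => by
    rw [← hβ.pow_left, ← hx, pow_orderOf_eq_one, hβ.one_left]
  have hgen : ∀ c : μ, c ^ q = 1 → ∀ y, β x y ≠ 1 → ∃ j : ℕ, c = β x y ^ j := by
    intro c hc y hy
    have ho : orderOf (β x y) = q := orderOf_eq_prime (hxq y) hy
    have hsub : (Subgroup.zpowers (β x y) : Set μ).toFinset ⊆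
        Finset.univ.filter fun a : μ => a ^ q = 1 := by
      intro a ha
      rw [Set.mem_toFinset, SetLike.mem_coe, Subgroup.mem_zpowers_iff] at ha
      obtain ⟨i, rfl⟩ := ha
      rw [Finset.mem_filter]
      refine ⟨Finset.mem_univ _, ?_⟩
      rw [← zpow_natCast, ← zpow_mul, mul_comm, zpow_mul, zpow_natCast, hxq, one_zpow]
    have heq := Finset.eq_of_subset_of_card_le hsub (by
      rw [Set.toFinset_card, ← Nat.card_eq_fintype_card, SetLike.coe_sort_coe,
        Nat.card_zpowers, ho]
      exact IsCyclic.card_pow_eq_one_le hq.pos)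
    have hcm : c ∈ (Subgroup.zpowers (β x y) : Set μ).toFinset := by
      rw [heq]; exact Finset.mem_filter.2 ⟨Finset.mem_univ _, hc⟩
    rw [Set.mem_toFinset, SetLike.mem_coe, mem_zpowers_iff_mem_range_orderOf] at hcm
    obtain ⟨j, -, hj⟩ := Finset.mem_image.1 hcm
    exact ⟨j, hj.symm⟩
  obtain ⟨y, hy⟩ : ∃ y, β x y ≠ 1 := by
    by_contra h
    push Not at h
    rw [hβ.nondeg x h, orderOf_one] at hx
    exact hq.ne_one hx.symm
  have hrange : (hβ.toHom x).range = Subgroup.zpowers (β x y) := by
    refine le_antisymm ?_ (Subgroup.zpowers_le.2 ⟨y, rfl⟩)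
    rintro _ ⟨w, rfl⟩
    obtain ⟨j, hj⟩ := hgen _ (hxq w) y hy
    rw [toHom_apply, hj]
    exact pow_mem (Subgroup.mem_zpowers _) _
  have hidx : (hβ.toHom x).ker.index = q := by
    rw [Subgroup.index_ker, hrange, Nat.card_zpowers, orderOf_eq_prime (hxq y) hy]
  refine ⟨by rw [← hidx]; exact Subgroup.card_mul_index _, hβ.alt x, hgen, fun k hk hkl => ?_⟩
  have hyq : y ^ q ∈ (hβ.toHom x).ker := by
    rw [MonoidHom.mem_ker, toHom_apply, hβ.pow_right, hxq]
  have hkyq : β k y ^ q = 1 := by rw [← hβ.pow_right]; exact hkl _ hyq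
  obtain ⟨j, hj⟩ := hgen _ hkyq y hy
  refine ⟨(j : ℤ), ?_⟩
  change x ^ (j : ℤ) = k
  rw [zpow_natCast]
  refine (mul_inv_eq_one.1 (hβ.nondeg (k * (x ^ j)⁻¹) fun w => ?_)).symm
  obtain ⟨i, hi⟩ := hgen _ (hxq w) y hy
  have hl : w * (y ^ i)⁻¹ ∈ (hβ.toHom x).ker := by
    rw [MonoidHom.mem_ker, map_mul, map_inv, toHom_apply, toHom_apply, hβ.pow_right, hi,
      mul_inv_cancel]
  rw [show w = w * (y ^ i)⁻¹ * y ^ i by rw [inv_mul_cancel_right], hβ.mul_right, hβ.mul_left,
    hβ.mul_left, hkl _ hl, hβ.inv_left, hβ.inv_left, hβ.pow_left,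
    show β x (w * (y ^ i)⁻¹) = 1 from hl, one_pow, inv_one, one_mul, one_mul, hβ.pow_right,
    hβ.pow_right, hβ.pow_left, hj, mul_inv_cancel]

end IsPairing

section Quot

variable {W μ : Type*} [CommGroup W] [CommGroup μ] {β : W → W → μ} (hβ : IsPairing β)
variable (x : W)

/-- The subgroup of `x` inside its perpendicular. -/
abbrev line : Subgroup (hβ.toHom x).ker := (Subgroup.zpowers x).subgroupOf (hβ.toHom x).ker

theorem pair_line {a b : (hβ.toHom x).ker} (h : a⁻¹ * b ∈ line hβ x) (c : (hβ.toHom x).ker) :
    β (a : W) c = β (b : W) c ∧ β (c : W) a = β (c : W) b := by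
  obtain ⟨j, hj⟩ := Subgroup.mem_zpowers_iff.1 (Subgroup.mem_subgroupOf.1 h)
  have hc : β x (c : W) = 1 := c.2
  have hj' : ∀ d : W, β x d = 1 → β (x ^ j) d = 1 := fun d hd => by
    rcases Int.eq_nat_or_neg j with ⟨n, rfl | rfl⟩
    · rw [zpow_natCast, hβ.pow_left, hd, one_pow]
    · rw [zpow_neg, zpow_natCast, hβ.inv_left, hβ.pow_left, hd, one_pow, inv_one]
  have hb : (b : W) = a * x ^ j := by
    rw [hj, Subgroup.coe_mul, Subgroup.coe_inv, mul_inv_cancel_left]
  refine ⟨by rw [hb, hβ.mul_left, hj' _ hc, mul_one], ?_⟩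
  rw [hb, hβ.mul_right, hβ.skew (x ^ j) c, hj' _ hc, inv_one, mul_one]

/-- The induced pairing on the perpendicular modulo `x`. -/
def quotPair : (hβ.toHom x).ker ⧸ line hβ x → (hβ.toHom x).ker ⧸ line hβ x → μ :=
  Quotient.lift₂ (fun a b => β (a : W) b) fun a b a' b' ha hb =>
    ((pair_line hβ x (QuotientGroup.leftRel_apply.1 ha) b).1).trans
      (pair_line hβ x (QuotientGroup.leftRel_apply.1 hb) a').2

theorem quotPair_mk (a b : (hβ.toHom x).ker) :
    quotPair hβ x (QuotientGroup.mk a) (QuotientGroup.mk b) = β (a : W) b := rfl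

theorem isPairing_quot [Finite W] [IsCyclic μ] [Finite μ] {q : ℕ} (hq : q.Prime)
    (hx : orderOf x = q) : IsPairing (quotPair hβ x) where
  mul_left a b c := by
    induction a using QuotientGroup.induction_on with | H a => ?_
    induction b using QuotientGroup.induction_on with | H b => ?_
    induction c using QuotientGroup.induction_on with | H c => ?_
    exact hβ.mul_left a b c
  mul_right a b c := by
    induction a using QuotientGroup.induction_on with | H a => ?_
    induction b using QuotientGroup.induction_on with | H b => ?_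
    induction c using QuotientGroup.induction_on with | H c => ?_
    exact hβ.mul_right a b c
  alt a := by
    induction a using QuotientGroup.induction_on with | H a => ?_
    exact hβ.alt a
  nondeg a := by
    induction a using QuotientGroup.induction_on with | H a => ?_
    intro h
    exact (QuotientGroup.eq_one_iff _).2 (Subgroup.mem_subgroupOf.2
      ((hβ.reduce hq hx).2.2.2 a a.2 fun l hl => h (QuotientGroup.mk ⟨l, hl⟩)))

theorem card_quot [Finite W] [IsCyclic μ] [Finite μ] {q : ℕ} (hq : q.Prime) (hx : orderOf x = q) :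
    Nat.card ((hβ.toHom x).ker ⧸ line hβ x) * (q * q) = Nat.card W := by
  obtain ⟨h1, h2, -⟩ := hβ.reduce hq hx
  rw [← h1, ← mul_assoc]
  congr 1
  have h := Subgroup.card_eq_card_quotient_mul_card_subgroup (line hβ x)
  rw [Nat.card_congr (Subgroup.subgroupOfEquivOfLe (Subgroup.zpowers_le.2 h2)).toEquiv,
    Nat.card_zpowers, hx] at h
  exact h.symm

end Quot

namespace IsPairing

universe uW

/-- The order of a group with an alternating nondegenerate pairing is a square. -/
theorem exists_sq {W : Type uW} {μ : Type*} [CommGroup W] [CommGroup μ] {β : W → W → μ}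
    (hβ : IsPairing β) [Finite W] [IsCyclic μ] [Finite μ] : ∃ e, Nat.card W = e * e := by
  induction hn : Nat.card W using Nat.strong_induction_on generalizing W with
  | _ n ih =>
  by_cases h1 : n = 1
  · exact ⟨1, by omega⟩
  subst hn
  obtain ⟨q, hq, hqd⟩ := Nat.exists_prime_and_dvd h1
  haveI := Fact.mk hq
  obtain ⟨x, hx⟩ := exists_prime_orderOf_dvd_card' q hqd
  have hc := card_quot hβ x hq hx
  obtain ⟨e, he⟩ := ih _ (by
    rw [← hc]
    exact lt_mul_of_one_lt_right Nat.card_pos (Nat.one_lt_mul_iff.2
      ⟨hq.pos, hq.pos, Or.inl hq.one_lt⟩)) (isPairing_quot hβ x hq hx) rfl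
  exact ⟨e * q, by rw [← hc, he]; ring⟩

/-- The bound for a group of automorphisms preserving a pairing. -/
theorem card_le {W : Type uW} {μ : Type*} [CommGroup W] [CommGroup μ] {β : W → W → μ}
    (hβ : IsPairing β) [Finite W] [IsCyclic μ] [Finite μ] {S : Type*} [Group S] [Finite S]
    (f : S →* MulAut W) (hf : Function.Injective f) (hp : ∀ s a b, β (f s a) (f s b) = β a b)
    {e : ℕ} (he : Nat.card W = e * e) : Nat.card S ≤ Bd e := by
  induction e using Nat.strong_induction_on generalizing W S with
  | _ e ih =>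
  classical
  by_cases he1 : 1 < e
  swap
  · have hW : Nat.card W = 1 := by
      have hpos : 0 < Nat.card W := Nat.card_pos
      rw [he] at hpos ⊢
      interval_cases e <;> simp_all
    obtain ⟨hsub, -⟩ := Nat.card_eq_one_iff_unique.1 hW
    haveI : Subsingleton S := ⟨fun s t => hf (MulEquiv.ext fun w => Subsingleton.elim _ _)⟩
    rw [Bd, dif_neg he1]
    exact Finite.card_le_one_iff_subsingleton.2 inferInstance
  obtain ⟨hq, hqe⟩ := maxPrime_spec he1
  set q := maxPrime e
  haveI := Fact.mk hq
  obtain ⟨x, hx⟩ := exists_prime_orderOf_dvd_card' q (he ▸ dvd_mul_of_dvd_left hqe e :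
    q ∣ Nat.card W)
  have hx1 : x ≠ 1 := fun h => hq.ne_one (by rw [← hx, h, orderOf_one])
  obtain ⟨hK, hxK, hgen, -⟩ := hβ.reduce hq hx
  obtain ⟨y, hy⟩ : ∃ y, β x y ≠ 1 := by
    by_contra h
    push Not at h
    exact hx1 (hβ.nondeg x h)
  -- the two orbit maps
  let S1 : Subgroup S :=
    { carrier := {s | f s x = x}
      one_mem' := by simp
      mul_mem' := fun {s t} hs ht => by
        change f (s * t) x = x
        rw [map_mul, MulAut.mul_apply, show f t x = x from ht, show f s x = x from hs]
      inv_mem' := fun {s} hs => by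
        change f s⁻¹ x = x
        rw [map_inv]
        exact (f s).injective (by rw [MulAut.apply_inv_self]; exact hs.symm) }
  let S2 : Subgroup S1 :=
    { carrier := {s | f (s : S) y = y}
      one_mem' := by simp
      mul_mem' := fun {s t} hs ht => by
        change f ((s * t : S1) : S) y = y
        rw [Subgroup.coe_mul, map_mul, MulAut.mul_apply, show f (t : S) y = y from ht,
          show f (s : S) y = y from hs]
      inv_mem' := fun {s} hs => by
        change f ((s⁻¹ : S1) : S) y = y
        rw [Subgroup.coe_inv, map_inv]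
        exact (f (s : S)).injective (by rw [MulAut.apply_inv_self]; exact hs.symm) }
  have h1 : S1.index ≤ e * e - 1 := by
    have : S1.index ≤ ({1} : Set W)ᶜ.ncard := by
      rw [Subgroup.index_eq_card, ← Nat.card_coe_set_eq]
      refine Nat.card_le_card_of_injective (Quotient.lift (fun s => (⟨f s x, fun h => hx1
        ((f s).injective (h.trans (map_one _).symm))⟩ : ({1}ᶜ : Set W))) ?_) ?_
      · intro s t r
        have hr : f (s⁻¹ * t) x = x := QuotientGroup.leftRel_apply.1 r
        refine Subtype.ext ?_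
        change f s x = f t x
        rw [← mul_inv_cancel_left s t, map_mul, MulAut.mul_apply, hr]
      · intro a b
        induction a using QuotientGroup.induction_on with | H s => ?_
        induction b using QuotientGroup.induction_on with | H t => ?_
        intro hst
        refine QuotientGroup.eq.2 ?_
        have e' : f s x = f t x := congrArg Subtype.val hst
        change f (s⁻¹ * t) x = x
        rw [map_mul, MulAut.mul_apply, ← e', map_inv, MulAut.inv_apply_self]
    rwa [Set.ncard_compl, Set.ncard_singleton, he] at this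
  have h2 : S2.index ≤ e * e / q := by
    have : S2.index ≤ Nat.card (hβ.toHom x).ker := by
      rw [Subgroup.index_eq_card]
      refine Nat.card_le_card_of_injective (Quotient.lift (fun s : S1 => (⟨f (s : S) y * y⁻¹, by
        rw [MonoidHom.mem_ker, map_mul, map_inv, IsPairing.toHom_apply, IsPairing.toHom_apply]
        conv_lhs => arg 1; rw [show x = f (s : S) x from s.2.symm, hp]
        rw [mul_inv_cancel]⟩ : (hβ.toHom x).ker)) ?_) ?_
      · intro s t r
        have hr : f ((s⁻¹ * t : S1) : S) y = y := QuotientGroup.leftRel_apply.1 r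
        refine Subtype.ext ?_
        change f (s : S) y * y⁻¹ = f (t : S) y * y⁻¹
        rw [← mul_inv_cancel_left s t, Subgroup.coe_mul, map_mul, MulAut.mul_apply, hr]
      · intro a b
        induction a using QuotientGroup.induction_on with | H s => ?_
        induction b using QuotientGroup.induction_on with | H t => ?_
        intro hst
        refine QuotientGroup.eq.2 ?_
        have e' : f (s : S) y = f (t : S) y := mul_right_cancel (congrArg Subtype.val hst)
        change f ((s⁻¹ * t : S1) : S) y = y
        rw [Subgroup.coe_mul, Subgroup.coe_inv, map_mul, MulAut.mul_apply, ← e', map_inv,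
          MulAut.inv_apply_self]
    refine this.trans (le_of_eq ?_)
    rw [← he, ← hK, Nat.mul_div_cancel _ hq.pos]
  -- the action on the quotient
  have hkeep : ∀ s : S2, ∀ k ∈ (hβ.toHom x).ker, f ((s : S1) : S) k ∈ (hβ.toHom x).ker := by
    intro s k hk
    rw [MonoidHom.mem_ker, IsPairing.toHom_apply,
      show x = f ((s : S1) : S) x from (s : S1).2.symm, hp]
    exact hk
  have hline : ∀ (s : S2) (a b : (hβ.toHom x).ker), a⁻¹ * b ∈ line hβ x →
      (⟨_, hkeep s a a.2⟩ : (hβ.toHom x).ker)⁻¹ * ⟨_, hkeep s b b.2⟩ ∈ line hβ x := by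
    intro s a b hab
    rw [Subgroup.mem_subgroupOf] at hab ⊢
    obtain ⟨j, hj⟩ := Subgroup.mem_zpowers_iff.1 hab
    refine Subgroup.mem_zpowers_iff.2 ⟨j, ?_⟩
    rw [Subgroup.coe_mul, Subgroup.coe_inv, ← map_inv, ← map_mul,
      show ((a : W))⁻¹ * b = x ^ j from hj.symm, map_zpow, (s : S1).2]
  let act : S2 → (hβ.toHom x).ker ⧸ line hβ x → (hβ.toHom x).ker ⧸ line hβ x := fun s =>
    Quotient.lift (fun a => QuotientGroup.mk ⟨_, hkeep s a a.2⟩) fun a b r =>
      QuotientGroup.eq.2 (hline s a b (QuotientGroup.leftRel_apply.1 r))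
  have hact : ∀ (s : S2) a, act s (QuotientGroup.mk a) = QuotientGroup.mk ⟨_, hkeep s a a.2⟩ :=
    fun _ _ => rfl
  have hinvl : ∀ (s : S2) a, act s⁻¹ (act s a) = a := fun s a => by
    induction a using QuotientGroup.induction_on with | H a => ?_
    rw [hact, hact]
    exact congrArg QuotientGroup.mk (Subtype.ext (by simp))
  let g : S2 →* MulAut ((hβ.toHom x).ker ⧸ line hβ x) :=
    { toFun := fun s =>
        { toFun := act s
          invFun := act s⁻¹
          left_inv := hinvl s
          right_inv := fun a => by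
            have := hinvl s⁻¹ a
            rwa [inv_inv] at this
          map_mul' := fun a b => by
            induction a using QuotientGroup.induction_on with | H a => ?_
            induction b using QuotientGroup.induction_on with | H b => ?_
            rw [← QuotientGroup.mk_mul, hact, hact, hact, ← QuotientGroup.mk_mul]
            exact congrArg QuotientGroup.mk (Subtype.ext (map_mul _ _ _)) }
      map_one' := MulEquiv.ext fun a => by
        induction a using QuotientGroup.induction_on with | H a => ?_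
        exact congrArg QuotientGroup.mk (Subtype.ext (by simp))
      map_mul' := fun s t => MulEquiv.ext fun a => by
        induction a using QuotientGroup.induction_on with | H a => ?_
        exact congrArg QuotientGroup.mk (Subtype.ext (by simp)) }
  have hinj : Function.Injective g := by
    rw [← MonoidHom.ker_eq_bot_iff, eq_bot_iff]
    intro s hs
    rw [Subgroup.mem_bot]
    have hfixK : ∀ k ∈ (hβ.toHom x).ker, f ((s : S1) : S) k = k := by
      intro k hk
      have h := DFunLike.congr_fun (MonoidHom.mem_ker.1 hs)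
        (QuotientGroup.mk (⟨k, hk⟩ : (hβ.toHom x).ker) : (hβ.toHom x).ker ⧸ line hβ x)
      change (QuotientGroup.mk (⟨_, hkeep s k hk⟩ : (hβ.toHom x).ker) :
          (hβ.toHom x).ker ⧸ line hβ x) = QuotientGroup.mk ⟨k, hk⟩ at h
      obtain ⟨j, hj⟩ := Subgroup.mem_zpowers_iff.1
        (Subgroup.mem_subgroupOf.1 (QuotientGroup.eq.1 h))
      rw [Subgroup.coe_mul, Subgroup.coe_inv] at hj
      have hk' : k = f ((s : S1) : S) k * x ^ j := by rw [hj, mul_inv_cancel_left]
      have h2 := hp ((s : S1) : S) k y
      rw [show f ((s : S1) : S) y = y from s.2] at h2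
      conv_rhs at h2 => rw [hk']
      rw [hβ.mul_left, left_eq_mul] at h2
      have h3 : ∀ n : ℕ, β x y ^ n = 1 → x ^ n = 1 := fun n hn => by
        have := orderOf_dvd_of_pow_eq_one hn
        rw [orderOf_eq_prime (show β x y ^ q = 1 by
          rw [← hβ.pow_left, ← hx, pow_orderOf_eq_one, hβ.one_left]) hy, ← hx] at this
        exact orderOf_dvd_iff_pow_eq_one.1 this
      have h4 : x ^ j = 1 := by
        rcases Int.eq_nat_or_neg j with ⟨n, rfl | rfl⟩
        · rw [zpow_natCast, hβ.pow_left] at h2
          rw [zpow_natCast]; exact h3 n h2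
        · rw [zpow_neg, zpow_natCast, hβ.inv_left, hβ.pow_left, inv_eq_one] at h2
          rw [zpow_neg, zpow_natCast, h3 n h2, inv_one]
      rw [h4, mul_one] at hk'
      exact hk'.symm
    refine Subtype.ext (Subtype.ext (hf (MulEquiv.ext fun w => ?_)))
    obtain ⟨i, hi⟩ := hgen (β x w)
      (by rw [← hβ.pow_left, ← hx, pow_orderOf_eq_one, hβ.one_left]) y hy
    have hl : w * (y ^ i)⁻¹ ∈ (hβ.toHom x).ker := by
      rw [MonoidHom.mem_ker, map_mul, map_inv, IsPairing.toHom_apply, IsPairing.toHom_apply,
        hβ.pow_right, hi, mul_inv_cancel]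
    rw [show w = w * (y ^ i)⁻¹ * y ^ i by rw [inv_mul_cancel_right], map_mul, hfixK _ hl, map_pow,
      show f ((s : S1) : S) y = y from s.2, Subgroup.coe_one, Subgroup.coe_one, map_one,
      MulAut.one_apply]
  have hg : ∀ s a b, quotPair hβ x (g s a) (g s b) = quotPair hβ x a b := by
    intro s a b
    induction a using QuotientGroup.induction_on with | H a => ?_
    induction b using QuotientGroup.induction_on with | H b => ?_
    exact hp ((s : S1) : S) a b
  obtain ⟨d, hd⟩ := hqe
  have hdq : e / q = d := by rw [hd, Nat.mul_div_cancel_left _ hq.pos]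
  have h3 := ih (e / q) (Nat.div_lt_self (by omega) hq.one_lt) (isPairing_quot hβ x hq hx) g hinj hg
    (by
      refine Nat.eq_of_mul_eq_mul_right (Nat.mul_pos hq.pos hq.pos) ?_
      rw [card_quot hβ x hq hx, he, hdq, hd]; ring)
  rw [Bd, dif_pos he1, ← S1.card_mul_index, ← S2.card_mul_index]
  calc Nat.card S2 * S2.index * S1.index ≤ Bd (e / q) * (e * e / q) * (e * e - 1) :=
        Nat.mul_le_mul (Nat.mul_le_mul h3 h2) h1
    _ = (e * e - 1) * (e * e / q) * Bd (e / q) := by ring

end IsPairing

end CfsgLib.ClassPSq
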