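import Cfsg.Agent.Lib.BaseTwo.Structure
import Mathlib.FieldTheory.Finite.GaloisField
import Mathlib.LinearAlgebra.Dual.Lemmas
import Mathlib.LinearAlgebra.Dimension.Constructions
import Mathlib.LinearAlgebra.LinearIndependent.Defs

/-!
The field case: parameters of the field generated by the maximal abelian normal subgroup and the
independence bound for the centralizing layer above it.
-/

set_option autoImplicit false
set_option linter.unusedSectionVars false
set_option linter.style.haveILetI false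

namespace CfsgLib.ClassPSq

open CfsgLib.BaseTwo (Irr FieldCase endo conjEnd conjEnd_apply conjEnd_mem_scalars scalars endo_mem_scalars
  scalars_comm commute_of_mem_scalars)

universe u

variable {A V : Type u} [Group A] [Finite A] [AddCommGroup V] [Finite V] [DistribMulAction A V]

/-- A maximal layer above `U` inside its centralizer. -/
theorem exists_layer (hsolv : Group.IsSolvable A) {U : Subgroup A} (hUn : U.Normal)
    (hUc : ∀ x ∈ U, ∀ y ∈ U, x * y = y * x)
    (hmax : ∀ W : Subgroup A, W.Normal → U ≤ W → (∀ x ∈ W, ∀ y ∈ W, x * y = y * x) → W = U) :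
    ∃ E : Subgroup A, E.Normal ∧ U ≤ E ∧ E ≤ Subgroup.centralizer (U : Set A) ∧
      (∀ x ∈ E, ∀ y ∈ E, x * y * x⁻¹ * y⁻¹ ∈ U) ∧
      (∀ q : ℕ, q.Prime → ∀ x ∈ E, x ^ (q * q) ∈ U → x ^ q ∈ U) ∧
      Subgroup.centralizer (U : Set A) ⊓ Subgroup.centralizer (E : Set A) = U := by
  classical
  haveI := hsolv
  haveI := hUn
  set C := Subgroup.centralizer (U : Set A) with hCdef
  have hUC : U ≤ C := fun x hx => Subgroup.mem_centralizer_iff.2 fun y hy => hUc y hy x hx
  obtain ⟨E, ⟨hEn, hUE, hEC, hcomm, hexp⟩, hEmax⟩ := Set.Finite.exists_maximal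
    (s := {E : Subgroup A | E.Normal ∧ U ≤ E ∧ E ≤ C ∧ (∀ x ∈ E, ∀ y ∈ E, x * y * x⁻¹ * y⁻¹ ∈ U) ∧
      ∀ q : ℕ, q.Prime → ∀ x ∈ E, x ^ (q * q) ∈ U → x ^ q ∈ U}) (Set.toFinite _)
    ⟨U, hUn, le_rfl, hUC, fun x hx y hy => mul_mem (mul_mem (mul_mem hx hy) (inv_mem hx)) (inv_mem hy),
      fun q _ x hx _ => pow_mem hx q⟩
  haveI := hEn
  refine ⟨E, hEn, hUE, hEC, hcomm, hexp, ?_⟩
  have hEU : ∀ e ∈ E, ∀ x ∈ U, e * x = x * e := fun e he x hx =>
    (Subgroup.mem_centralizer_iff.1 (hEC he) x hx).symm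
  set M := Subgroup.centralizer (E : Set A) with hMdef
  have hMC : M ≤ C := Subgroup.centralizer_le hUE
  rw [inf_eq_right.2 hMC]
  have hUM : U ≤ M := fun u hu => Subgroup.mem_centralizer_iff.2 fun e he => hEU e he u hu
  have hEM : E ⊓ M = U := hmax _ inferInstance (le_inf hUE hUM)
    fun a ha b hb => Subgroup.mem_centralizer_iff.1 hb.2 a ha.1
  by_contra hne
  obtain ⟨E₂, ⟨hn₂, hU₂, hle₂⟩, hmin⟩ := Set.Finite.exists_minimal
    (s := {E₂ : Subgroup A | E₂.Normal ∧ U < E₂ ∧ E₂ ≤ M}) (Set.toFinite _)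
    ⟨M, (inferInstance : (Subgroup.centralizer (E : Set A)).Normal), lt_of_le_of_ne hUM (Ne.symm hne), le_rfl⟩
  haveI := hn₂
  let π := QuotientGroup.mk' U
  have hker : ∀ {x : A}, π x = 1 ↔ x ∈ U := fun {x} => QuotientGroup.eq_one_iff x
  have hminq : ∀ K : Subgroup (A ⧸ U), K.Normal → K ≤ E₂.map π → K = ⊥ ∨ K = E₂.map π := by
    intro K hK hKE
    have hUK : U ≤ K.comap π := fun x hx => by rw [Subgroup.mem_comap, hker.2 hx]; exact one_mem _
    rcases eq_or_lt_of_le hUK with h | h
    · refine Or.inl ?_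
      rw [← Subgroup.map_comap_eq_self_of_surjective (f := π) (QuotientGroup.mk'_surjective U) K, ← h,
        Subgroup.map_eq_bot_iff, QuotientGroup.ker_mk']
    · refine Or.inr (le_antisymm hKE ?_)
      have hle : K.comap π ≤ E₂ := by
        intro x hx
        obtain ⟨e, he, hex⟩ := hKE (Subgroup.mem_comap.1 hx)
        have := mul_mem he (hU₂.le (QuotientGroup.eq.1 hex))
        rwa [mul_inv_cancel_left] at this
      have := hmin ⟨hK.comap π, h, hle.trans hle₂⟩ hle
      exact Subgroup.map_le_iff_le_comap.2 this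
  have hb : E₂.map π ≠ ⊥ := fun e => hU₂.not_ge (by rwa [Subgroup.map_eq_bot_iff, QuotientGroup.ker_mk'] at e)
  haveI : (E₂.map π).Normal := hn₂.map _ (QuotientGroup.mk'_surjective U)
  haveI : Group.IsSolvable (A ⧸ U) := Group.isSolvable_of_surjective (QuotientGroup.mk'_surjective U)
  haveI : Group.IsSolvable (E₂.map π) := inferInstance
  -- abelian of prime exponent
  have hab : ∀ x ∈ E₂.map π, ∀ y ∈ E₂.map π, x * y = y * x := by
    have hlt := Group.IsSolvable.commutator_lt_of_ne_bot hb
    rcases hminq ⁅E₂.map π, E₂.map π⁆ inferInstance (Subgroup.commutator_le_self _) with h | h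
    · intro x hx y hy
      exact commutatorElement_eq_one_iff_mul_comm.1 (Subgroup.mem_bot.1 (h ▸ Subgroup.commutator_mem_commutator hx hy))
    · exact absurd h hlt.ne
  obtain ⟨w, hw, hw1⟩ := (E₂.map π).bot_or_exists_ne_one.resolve_left hb
  obtain ⟨r, hr, hrd⟩ := Nat.exists_prime_and_dvd (n := orderOf w) (fun h => hw1 (orderOf_eq_one_iff.1 h))
  have hpr : ∀ x ∈ E₂.map π, x ^ r = 1 := by
    let K : Subgroup (A ⧸ U) :=
      { carrier := {x | x ∈ E₂.map π ∧ x ^ r = 1}
        one_mem' := ⟨one_mem _, one_pow _⟩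
        mul_mem' := fun {x y} hx hy => ⟨mul_mem hx.1 hy.1, by
          rw [(show Commute x y from hab x hx.1 y hy.1).mul_pow, hx.2, hy.2, one_mul]⟩
        inv_mem' := fun {x} hx => ⟨inv_mem hx.1, by rw [inv_pow, hx.2, inv_one]⟩ }
    have hK : K.Normal := ⟨fun x hx g => ⟨Subgroup.Normal.conj_mem inferInstance x hx.1 g, by
      rw [conj_pow, hx.2, mul_one, mul_inv_cancel]⟩⟩
    rcases hminq K hK (fun x hx => hx.1) with h | h
    · exfalso
      obtain ⟨k, hk⟩ := hrd
      have hk0 : 0 < k := Nat.pos_of_ne_zero fun h0 => (orderOf_pos w).ne' (by rw [hk, h0, mul_zero])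
      have h1 : w ^ k ∈ K := ⟨pow_mem hw k, by rw [← pow_mul, mul_comm, ← hk, pow_orderOf_eq_one]⟩
      rw [h, Subgroup.mem_bot] at h1
      have := Nat.le_of_dvd hk0 (orderOf_dvd_of_pow_eq_one h1)
      have := hr.two_le
      nlinarith
    · intro x hx
      exact (show x ∈ K from h.symm ▸ hx).2
  have hcomm₂ : ∀ x ∈ E₂, ∀ y ∈ E₂, x * y * x⁻¹ * y⁻¹ ∈ U := fun x hx y hy => hker.1 (by
    simp only [map_mul, map_inv, hab (π x) ⟨x, hx, rfl⟩ (π y) ⟨y, hy, rfl⟩, mul_inv_cancel_right, mul_inv_cancel])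
  have hexp₂ : ∀ q : ℕ, q.Prime → ∀ x ∈ E₂, x ^ (q * q) ∈ U → x ^ q ∈ U := by
    intro q hq x hx h
    refine hker.1 ?_
    rw [← hker, map_pow] at h
    rw [map_pow]
    have h1 : orderOf (π x) ∣ r := orderOf_dvd_of_pow_eq_one (hpr _ ⟨x, hx, rfl⟩)
    have h2 : orderOf (π x) ∣ q * q := orderOf_dvd_of_pow_eq_one h
    refine orderOf_dvd_iff_pow_eq_one.1 ?_
    rcases (Nat.dvd_prime hr).1 h1 with e | e <;> rw [e] at h2 ⊢
    · exact one_dvd q
    · exact ((Nat.Prime.dvd_mul hr).1 h2).elim id id
  have hc : ∀ e ∈ E, ∀ f ∈ E₂, Commute e f := fun e he f hf =>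
    Subgroup.mem_centralizer_iff.1 (hle₂ hf) e he
  have hmem : ∀ {g}, g ∈ E ⊔ E₂ → ∃ e ∈ E, ∃ f ∈ E₂, g = e * f := fun {g} hg => by
    rw [← SetLike.mem_coe, Subgroup.normal_mul] at hg
    obtain ⟨e, he, f, hf, rfl⟩ := hg
    exact ⟨e, he, f, hf, rfl⟩
  have hle : E ⊔ E₂ ≤ E := hEmax ⟨inferInstance, hUE.trans le_sup_left, sup_le hEC (hle₂.trans hMC),
    fun x hx y hy => by
      obtain ⟨e, he, f, hf, rfl⟩ := hmem hx
      obtain ⟨e', he', f', hf', rfl⟩ := hmem hy
      refine hker.1 ?_
      have c1 : Commute (π e) (π f') := (hc e he f' hf').map π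
      have c2 : Commute (π f) (π e') := (hc e' he' f hf).symm.map π
      have c3 : Commute (π e) (π e') := by
        show π e * π e' = π e' * π e
        have h := hker.2 (hcomm e he e' he')
        simp only [map_mul, map_inv, mul_inv_eq_iff_eq_mul, one_mul] at h
        exact h
      have c4 : Commute (π f) (π f') := hab _ ⟨f, hf, rfl⟩ _ ⟨f', hf', rfl⟩
      have : Commute (π e * π f) (π e' * π f') := (c3.mul_right c1).mul_left (c2.mul_right c4)
      simp only [map_mul, map_inv]
      rw [this.eq, mul_inv_cancel_right, mul_inv_cancel],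
    fun q hq x hx h => by
      obtain ⟨e, he, f, hf, rfl⟩ := hmem hx
      rw [(hc e he f hf).mul_pow] at h ⊢
      have he2 : e ^ (q * q) ∈ U := by
        rw [← hEM]
        refine ⟨pow_mem he _, ?_⟩
        have := mul_mem (hUM h) (inv_mem (pow_mem (hle₂ hf) (q * q)))
        rwa [mul_inv_cancel_right] at this
      exact mul_mem (hexp q hq e he he2) (hexp₂ q hq f hf ((mul_mem_cancel_left he2).1 h))⟩ le_sup_left
  exact hU₂.not_ge ((le_inf (le_sup_right.trans hle) hle₂).trans hEM.le)

namespace Scalar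

variable {U : Subgroup A} (F : FieldCase A V U)
include F

/-- Parameters of the scalar field, with the independence bound. -/
theorem field_params {p : ℕ} [Fact p.Prime] (hexp : ∀ v : V, p • v = 0) :
    ∃ a d : ℕ, 1 ≤ a ∧ 1 ≤ d ∧ Nat.card V = p ^ (a * d) ∧ Nat.card U ∣ p ^ a - 1 ∧
      (Subgroup.centralizer (U : Set A)).index ≤ a ∧
      ∀ L E : Subgroup A, U ≤ L → L ≤ Subgroup.centralizer (U : Set A) →
        E ≤ Subgroup.centralizer (U : Set A) → U ≤ E →
        (∀ c ∈ L, ∀ y ∈ E, y * c * y⁻¹ * c⁻¹ ∈ U) → (∀ c ∈ L, (∀ y ∈ E, y * c = c * y) → c ∈ U) →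
        U.relIndex L ≤ d * d ∧ U.relIndex L ≤ U.relIndex E := by
  classical
  haveI := F.isDomain
  haveI : Finite (AddMonoid.End V) := Finite.of_injective (fun f => (f : V → V)) DFunLike.coe_injective
  letI : CommRing (scalars V U) :=
    { (inferInstance : Ring (scalars V U)) with
      mul_comm := fun a b => Subtype.ext (scalars_comm F.comm a.2 b.2) }
  let K := ↥(scalars V U)
  haveI : Fintype K := Fintype.ofFinite _
  letI : Field K := (Finite.isField_of_domain K).toField
  haveI : CharP K p := by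
    refine CharP.charP_iff_prime_eq_zero Fact.out |>.2 ?_
    refine Subtype.ext (DFunLike.ext _ _ fun v => ?_)
    show ((p : AddMonoid.End V)) v = 0
    rw [AddMonoid.End.natCast_apply, hexp]
  letI : Algebra (ZMod p) K := ZMod.algebra K p
  letI : Module K V := Module.compHom V (scalars V U).subtype
  haveI : Module.Finite K V := Module.Finite.of_finite
  have hK : Nat.card K = p ^ Module.finrank (ZMod p) K := by
    rw [Module.natCard_eq_pow_finrank (K := ZMod p) (V := K), Nat.card_zmod]
  have hV : Nat.card V = Nat.card K ^ Module.finrank K V := Module.natCard_eq_pow_finrank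
  set C := Subgroup.centralizer (U : Set A) with hCdef
  have hd : 1 ≤ Module.finrank K V := by
    by_contra h
    obtain ⟨v, hv⟩ := F.nt
    rw [show Module.finrank K V = 0 by omega, pow_zero] at hV
    exact hv (((Nat.card_eq_one_iff_unique.1 hV).1).elim v 0)
  refine ⟨Module.finrank (ZMod p) K, Module.finrank K V, Module.finrank_pos, hd, ?_, ?_, ?_, ?_⟩
  · rw [hV, hK, ← pow_mul]
  · rw [← hK, ← Nat.card_units]
    let g : U →* K := ⟨⟨fun u => ⟨endo A V u, endo_mem_scalars u.2⟩, Subtype.ext (map_one _)⟩,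
      fun a b => Subtype.ext (map_mul _ _ _)⟩
    refine Subgroup.card_dvd_of_injective g.toHomUnits fun a b h => Subtype.ext (F.endo_inj ?_)
    have := congrArg (fun x : Kˣ => ((x : K) : AddMonoid.End V)) h
    exact this
  · haveI := F.normal
    let σ : A → K ≃ₐ[ZMod p] K := fun a =>
      AlgEquiv.ofRingEquiv (f :=
        ({ toFun := fun s => ⟨conjEnd a (s : AddMonoid.End V), conjEnd_mem_scalars F.normal a s.2⟩
           invFun := fun s => ⟨conjEnd a⁻¹ (s : AddMonoid.End V), conjEnd_mem_scalars F.normal a⁻¹ s.2⟩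
           left_inv := fun s => Subtype.ext (by
             show conjEnd a⁻¹ (conjEnd a (s : AddMonoid.End V)) = s
             rw [← CfsgLib.BaseTwo.conjEnd_mul, inv_mul_cancel, CfsgLib.BaseTwo.conjEnd_one])
           right_inv := fun s => Subtype.ext (by
             show conjEnd a (conjEnd a⁻¹ (s : AddMonoid.End V)) = s
             rw [← CfsgLib.BaseTwo.conjEnd_mul, mul_inv_cancel, CfsgLib.BaseTwo.conjEnd_one])
           map_mul' := fun s t => Subtype.ext (map_mul (conjEnd a) _ _)
           map_add' := fun s t => Subtype.ext (map_add (conjEnd a) _ _) } : K ≃+* K))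
        (fun c => by
          obtain ⟨n, rfl⟩ := ZMod.natCast_zmod_surjective c
          rw [map_natCast, map_natCast])
    have hσ : ∀ a b : A, σ a = σ b → a⁻¹ * b ∈ C := by
      intro a b e
      refine Subgroup.mem_centralizer_iff.2 fun u hu => ?_
      have h : conjEnd a (endo A V u) = conjEnd b (endo A V u) :=
        congrArg Subtype.val (DFunLike.congr_fun e (⟨endo A V u, endo_mem_scalars hu⟩ : K))
      have h' : endo A V (a * u * a⁻¹) = endo A V (b * u * b⁻¹) := by
        simp only [map_mul]; exact h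
      have h2 : a * u * a⁻¹ = b * u * b⁻¹ := F.endo_inj h'
      calc u * (a⁻¹ * b) = a⁻¹ * (a * u * a⁻¹) * b := by group
        _ = a⁻¹ * (b * u * b⁻¹) * b := by rw [h2]
        _ = a⁻¹ * b * u := by group
    rw [Subgroup.index_eq_card, ← IsGalois.card_aut_eq_finrank (ZMod p) K]
    refine Nat.card_le_card_of_injective (fun q : A ⧸ C => σ q.out) fun a b e => ?_
    rw [← a.out_eq', ← b.out_eq']
    exact QuotientGroup.eq.2 (hσ _ _ e)
  intro L E hUL hLC hEC hUE hcomm hcent
  haveI := F.normal
  -- the characters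
  let U' := U.subgroupOf L
  let W := ↥E ⧸ U.subgroupOf E
  let χ : L → E →* K := fun c =>
    { toFun := fun y => ⟨endo A V (y * c * (y : A)⁻¹ * (c : A)⁻¹), endo_mem_scalars (hcomm c c.2 y y.2)⟩
      map_one' := Subtype.ext (by simp only [Subgroup.coe_one, one_mul, inv_one, mul_one, mul_inv_cancel, map_one]; rfl)
      map_mul' := fun y z => Subtype.ext (by
        show endo A V _ = endo A V _ * endo A V _
        rw [← map_mul]
        congr 1
        have hz := hcomm c c.2 z z.2
        have hy : (y : A) * ((z : A) * c * (z : A)⁻¹ * (c : A)⁻¹) = ((z : A) * c * (z : A)⁻¹ * (c : A)⁻¹) * y :=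
          (Subgroup.mem_centralizer_iff.1 (hEC y.2) _ hz).symm
        have hyc := hcomm c c.2 y y.2
        calc ((y * z : E) : A) * c * ((y * z : E) : A)⁻¹ * (c : A)⁻¹
            = (y : A) * ((z : A) * c * (z : A)⁻¹ * (c : A)⁻¹) * ((c : A) * (y : A)⁻¹ * (c : A)⁻¹) := by
              push_cast; group
          _ = ((z : A) * c * (z : A)⁻¹ * (c : A)⁻¹) * ((y : A) * c * (y : A)⁻¹ * (c : A)⁻¹) := by
              rw [hy]; group
          _ = _ := F.comm _ hz _ hyc) }
  have hχinj : ∀ c c' : L, χ c = χ c' → (c : A)⁻¹ * c' ∈ U := by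
    intro c c' e
    refine hcent _ (mul_mem (inv_mem c.2) c'.2) fun y hy => ?_
    have h1 := F.endo_inj (congrArg Subtype.val (DFunLike.congr_fun e (⟨y, hy⟩ : E)))
    have h2 : y * c * y⁻¹ * (c : A)⁻¹ = y * c' * y⁻¹ * (c' : A)⁻¹ := h1
    calc y * ((c : A)⁻¹ * c') = (y * c * y⁻¹)⁻¹ * (y * c' * y⁻¹) * y := by group
      _ = (y * c * y⁻¹)⁻¹ * ((y * c' * y⁻¹ * (c' : A)⁻¹) * c') * y := by group
      _ = (c : A)⁻¹ * c' * y := by rw [← h2]; group
  let g : L ⧸ U' → E →* K := fun q => χ q.out
  have hg : Function.Injective g := fun a b e => by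
    rw [← a.out_eq', ← b.out_eq']
    exact QuotientGroup.eq.2 (hχinj _ _ e)
  have hindep : LinearIndependent K (fun q => (g q : E → K)) :=
    (linearIndependent_monoidHom E K).comp g hg
  have hidx : U.relIndex L = Nat.card (L ⧸ U') := rfl
  haveI : Fintype (L ⧸ U') := Fintype.ofFinite _
  refine ⟨?_, ?_⟩
  · let Φ : L ⧸ U' → Module.End K V := fun q =>
      { toFun := fun v => (q.out : A) • v
        map_add' := smul_add _
        map_smul' := fun s v => by
          show (endo A V (q.out : A) * (s : AddMonoid.End V)) v = ((s : AddMonoid.End V) * endo A V (q.out : A)) v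
          rw [commute_of_mem_scalars (fun u hu => ?_) s.2]
          rw [← map_mul, ← map_mul, Subgroup.mem_centralizer_iff.1 (hLC q.out.2) u hu] }
    have hΦ : LinearIndependent K Φ := by
      rw [Fintype.linearIndependent_iff]
      intro a ha q₀
      have hy : ∀ y : E, ∑ q, (a q * g q y) • Φ q = 0 := by
        intro y
        refine LinearMap.ext fun v => ?_
        have h0 := LinearMap.congr_fun ha ((y : A)⁻¹ • v)
        simp only [LinearMap.sum_apply, LinearMap.smul_apply, LinearMap.zero_apply] at h0 ⊢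
        have h1 := congrArg (fun x : V => (y : A) • x) h0
        simp only [smul_zero, Finset.smul_sum] at h1
        rw [← h1]
        refine Finset.sum_congr rfl fun q _ => ?_
        show ((a q : AddMonoid.End V) * endo A V ((y : A) * q.out * (y : A)⁻¹ * (q.out : A)⁻¹)) ((q.out : A) • v) =
          (endo A V (y : A) * (a q : AddMonoid.End V)) ((q.out : A) • (y : A)⁻¹ • v)
        rw [commute_of_mem_scalars (f := endo A V (y : A)) (fun u hu => by
          rw [← map_mul, ← map_mul, Subgroup.mem_centralizer_iff.1 (hEC y.2) u hu]) (a q).2]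
        show (a q : AddMonoid.End V) (((y : A) * q.out * (y : A)⁻¹ * (q.out : A)⁻¹) • (q.out : A) • v) =
          (a q : AddMonoid.End V) ((y : A) • (q.out : A) • (y : A)⁻¹ • v)
        rw [← mul_smul, ← mul_smul, ← mul_smul]
        congr 2
        group
      by_contra hne
      obtain ⟨v, hv⟩ := F.nt
      have hΦ0 : Φ q₀ ≠ 0 := fun e => by
        have : (q₀.out : A) • v = 0 := LinearMap.congr_fun e v
        rw [← smul_zero ((q₀.out : A)), smul_left_cancel_iff] at this
        exact hv this
      refine hΦ0 ((Module.forall_dual_apply_eq_zero_iff K (Φ q₀)).1 fun φ => ?_)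
      have h1 : ∑ q, (a q * φ (Φ q)) • (g q : E → K) = 0 := by
        funext y
        rw [Finset.sum_apply, Pi.zero_apply]
        have h2 := congrArg φ (hy y)
        rw [map_sum, map_zero] at h2
        rw [← h2]
        refine Finset.sum_congr rfl fun q _ => ?_
        rw [map_smul, Pi.smul_apply, smul_eq_mul, smul_eq_mul]
        ring
      exact (mul_eq_zero.1 (Fintype.linearIndependent_iff.1 hindep _ h1 q₀)).resolve_left hne
    have := hΦ.fintype_card_le_finrank
    rw [Module.finrank_linearMap, ← Nat.card_eq_fintype_card] at this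
    exact hidx.trans_le this
  · haveI : Fintype W := Fintype.ofFinite _
    let Lm : (W → K) →ₗ[K] (E → K) := LinearMap.funLeft K K (QuotientGroup.mk : E → W)
    let gW : L ⧸ U' → W → K := fun q w => g q w.out
    have hfac : ∀ q, Lm (gW q) = (g q : E → K) := fun q => by
      funext y
      obtain ⟨u, hu⟩ := QuotientGroup.mk_out_eq_mul (U.subgroupOf E) y
      show g q (y : W).out = g q y
      rw [show (y : W).out = y * u from hu, map_mul]
      have hu1 : g q u = 1 := by
        refine Subtype.ext ?_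
        show endo A V ((u : A) * (q.out : A) * (u : A)⁻¹ * (q.out : A)⁻¹) = 1
        rw [Subgroup.mem_centralizer_iff.1 (hLC q.out.2) (u : A) u.2, mul_inv_cancel_right, mul_inv_cancel,
          map_one]
      rw [hu1, mul_one]
    have hW : LinearIndependent K gW := LinearIndependent.of_comp Lm (by
      rw [show Lm ∘ gW = fun q => (g q : E → K) from funext hfac]; exact hindep)
    have := hW.fintype_card_le_finrank
    rw [Module.finrank_fintype_fun_eq_card, ← Nat.card_eq_fintype_card, ← Nat.card_eq_fintype_card] at this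
    exact hidx.trans_le this

end Scalar

end CfsgLib.ClassPSq
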